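import Cfsg.Agent.Lib.MaxSub.TensorPow.Core
import Cfsg.Agent.Lib.Aschbacher.ProperGeneral
import Cfsg.Agent.Lib.StSL.Presentation
import Mathlib.GroupTheory.Perm.Cycle.Type
import Mathlib.LinearAlgebra.Matrix.Permutation

/-!
Stabilisers of tensor powers are maximal in the special linear group.
-/

set_option autoImplicit false
set_option maxHeartbeats 400000
set_option linter.unusedSectionVars false

namespace CfsgLib.MaxSub.TensorPow

open Matrix
open CfsgLib.Aschbacher

open scoped Kronecker

variable {F : Type*} [Field F] {m t : ℕ}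

local notation "Mm" => Matrix (Fin m) (Fin m) F
local notation "MT" => Matrix (Fin t → Fin m) (Fin t → Fin m) F

theorem det_fa (i : Fin t) (X : Mm) : (fa i X : MT).det = X.det ^ (m ^ (t - 1)) := by
  classical
  have e : (fa i X : MT) = ((X ⊗ₖ (1 : Matrix ({j : Fin t // j ≠ i} → Fin m) ({j : Fin t // j ≠ i} → Fin m) F))).submatrix
      (Equiv.funSplitAt i (Fin m)) (Equiv.funSplitAt i (Fin m)) := by
    ext x y
    rw [Matrix.submatrix_apply, Matrix.kroneckerMap_apply, fa_apply, Matrix.one_apply]
    simp only [Equiv.funSplitAt, Equiv.piSplitAt_apply, funext_iff, Subtype.forall, mul_ite, mul_one, mul_zero]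
  rw [e, Matrix.det_submatrix_equiv_self, Matrix.det_kronecker, Matrix.det_one, one_pow, mul_one,
    Fintype.card_fun, Fintype.card_fin, Fintype.card_subtype_compl, Fintype.card_subtype_eq, Fintype.card_fin]

/-- The permutation of the index set. -/
def idxPerm (m : ℕ) (σ : Equiv.Perm (Fin t)) : Equiv.Perm (Fin t → Fin m) :=
  Equiv.arrowCongr σ.symm (Equiv.refl (Fin m))

theorem det_permGL (σ : Equiv.Perm (Fin t)) :
    (permGL m F σ : MT).det = ((Equiv.Perm.sign (idxPerm m σ) : ℤ) : F) := by
  have e : (permGL m F σ : MT) = (idxPerm m σ).permMatrix F := by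
    ext x y
    show (if y = x ∘ σ then (1 : F) else 0) = _
    simp [idxPerm, Equiv.Perm.permMatrix, PEquiv.toMatrix_apply, Equiv.toPEquiv_apply, eq_comm,
      Equiv.arrowCongr_apply]
    rfl
  rw [e, Matrix.det_permutation]

theorem sign_idxPerm_swap (hm : Even m) (ht : 3 ≤ t) {a b : Fin t} (hab : a ≠ b) :
    Equiv.Perm.sign (idxPerm m (Equiv.swap a b)) = 1 := by
  classical
  set π := idxPerm m (Equiv.swap a b) with hπ
  have hfix : ∀ y, π y = y ↔ y a = y b := fun y => by
    simp only [hπ, idxPerm, Equiv.arrowCongr_apply, Equiv.symm_symm, Equiv.coe_refl, Function.id_comp, funext_iff,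
      Function.comp_apply]
    constructor
    · intro h
      simpa [eq_comm] using h a
    · intro h j
      by_cases hja : j = a
      · subst hja; simp [h]
      by_cases hjb : j = b
      · subst hjb; simp [h]
      · simp [Equiv.swap_apply_of_ne_of_ne hja hjb]
  have hsq : π * π = 1 := by
    refine Equiv.ext fun y => funext fun j => ?_
    simp [hπ, idxPerm, Equiv.arrowCongr_apply]
  have hct : ∀ n ∈ π.cycleType, n = 2 := fun n hn => by
    have h1 : orderOf π ∣ 2 := orderOf_dvd_of_pow_eq_one (by rw [pow_two]; exact hsq)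
    have h2 := (Equiv.Perm.dvd_of_mem_cycleType hn).trans h1
    have h3 := Equiv.Perm.two_le_of_mem_cycleType hn
    have := Nat.le_of_dvd (by norm_num) h2
    omega
  have hrep := Multiset.eq_replicate_of_mem hct
  have hsum : π.support.card = 2 * Multiset.card π.cycleType := by
    rw [← Equiv.Perm.sum_cycleType]
    conv_lhs => rw [hrep]
    rw [Multiset.sum_replicate, smul_eq_mul, mul_comm]
  have hcard : π.support.card + m ^ (t - 1) = m ^ t := by
    rw [← card_eq_coord hab (m := m)]
    have hs : π.support = Finset.univ.filter fun y : Fin t → Fin m => ¬ y a = y b := by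
      ext y; simp [Equiv.Perm.mem_support, hfix]
    rw [hs, add_comm, Finset.card_filter_add_card_filter_not]
    simp
  have hev : Even (Multiset.card π.cycleType) := by
    obtain ⟨k, rfl⟩ := hm
    obtain ⟨t', rfl⟩ : ∃ t', t = t' + 3 := ⟨t - 3, by omega⟩
    rw [show t' + 3 - 1 = t' + 2 by omega, pow_succ (k + k) (t' + 2), hsum] at hcard
    rcases Nat.eq_zero_or_pos (k + k) with hk | hk
    · have h0 : (k + k) ^ (t' + 2) = 0 := by rw [Nat.pow_eq_zero]; exact ⟨hk, by omega⟩
      simp only [h0, zero_mul, add_zero] at hcard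
      exact ⟨0, by omega⟩
    refine ⟨(k + k) ^ t' * k * k * (k + k - 1), ?_⟩
    have e : (k + k) ^ (t' + 2) * (k + k) = (k + k) ^ (t' + 2) * (k + k - 1) + (k + k) ^ (t' + 2) := by
      conv_lhs => rw [show k + k = (k + k - 1) + 1 by omega]
      rw [mul_add, mul_one, show (k + k - 1 + 1) = k + k by omega]
    have e2 : (k + k) ^ (t' + 2) * (k + k - 1) = 4 * ((k + k) ^ t' * k * k * (k + k - 1)) := by ring
    omega
  rw [Equiv.Perm.sign_of_cycleType, hrep, Multiset.sum_replicate, Multiset.card_replicate, smul_eq_mul]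
  exact Even.neg_one_pow (Even.add ⟨Multiset.card π.cycleType, by ring⟩ hev)

open Cfsg.Geo in
/-- The stabiliser of a tensor power is maximal. -/
theorem tensorWreath_maximal [Finite F] {n : ℕ} (hm : 3 ≤ m) (ht : 2 ≤ t) (e : Fin n ≃ (Fin t → Fin m))
    (P : GL (Fin n) F) :
    IsMaximalIn (specialLinear (Fin n) F) (tensorWreathSubgroup m t e P ⊓ specialLinear (Fin n) F) := by
  haveI : NeZero m := ⟨by omega⟩
  have hnot := not_le_tensorWreathSubgroup (by omega) ht e P
  refine ⟨lt_of_le_of_ne inf_le_right fun h => hnot (h ▸ inf_le_left), fun G hG hGS => ?_⟩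
  by_cases hin : G ≤ tensorWreathSubgroup m t e P
  · exact Or.inl (le_antisymm (le_inf hin hGS) hG)
  refine Or.inr (le_antisymm hGS ?_)
  rw [tensorWreathSubgroup, map_glReindex_conj] at hG hin
  have hdet : ∀ g : GL (Fin t → Fin m) F, ((frU e P g : GL (Fin n) F) : Matrix (Fin n) (Fin n) F).det
      = (g : MT).det := fun g => by
    rw [frU_val, frAlg_apply, Matrix.det_units_conj, Matrix.det_submatrix_equiv_self]
  let K := G.comap (frU e P).toMonoidHom
  have hK : ∀ g : GL (Fin t → Fin m) F, IsWr g → (g : MT).det = 1 → g ∈ K := fun g hg hd => by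
    refine hG ⟨⟨g, mem_std_iff.2 hg, rfl⟩, MonoidHom.mem_ker.2 (Units.ext ?_)⟩
    show ((frU e P g : GL (Fin n) F) : Matrix (Fin n) (Fin n) F).det = 1
    rw [hdet, hd]
  have hroots : Roots K := fun i s hs => hK _ (isWr_fu i s) (by rw [fu_val, det_fa, hs, one_pow])
  have hperms : Perms K ∨ t ≤ 2 := by
    by_cases ht3 : t ≤ 2
    · exact Or.inr ht3
    push Not at ht3
    left
    intro σ
    induction σ using Equiv.Perm.swap_induction_on with
    | one => exact ⟨1, by rw [pureGL_one, permGL_one, mul_one]; exact one_mem K⟩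
    | swap_mul f x y hxy ih =>
      obtain ⟨B, hB⟩ := ih
      obtain ⟨A, hA⟩ : ∃ A : Fin t → GL (Fin m) F, pureGL A * permGL m F (Equiv.swap x y) ∈ K := by
        have hone : (pureGL 1 * permGL m F (Equiv.swap x y) : GL (Fin t → Fin m) F) = permGL m F (Equiv.swap x y) := by
          rw [pureGL_one, one_mul]
        rcases Nat.even_or_odd m with hev | hodd
        · refine ⟨1, hK _ ⟨1, _, rfl⟩ ?_⟩
          rw [hone, det_permGL, sign_idxPerm_swap hev ht3 hxy]
          simp
        · rcases Int.units_eq_one_or (Equiv.Perm.sign (idxPerm m (Equiv.swap x y))) with h | h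
          · refine ⟨1, hK _ ⟨1, _, rfl⟩ ?_⟩
            rw [hone, det_permGL, h]
            simp
          · refine ⟨Function.update 1 x (-1), hK _ ⟨_, _, rfl⟩ ?_⟩
            rw [Units.val_mul, det_mul, ← fu_eq, fu_val, det_fa, det_permGL, h, Units.val_neg, Units.val_one,
              Matrix.det_neg, Matrix.det_one, mul_one, Fintype.card_fin, ← pow_mul,
              (hodd.mul hodd.pow).neg_one_pow]
            simp
      refine ⟨A * (B ∘ (Equiv.swap x y).symm), ?_⟩
      have h2 := mul_mem hA hB
      rw [mul_assoc, ← mul_assoc (permGL m F _) (pureGL B), perm_pure, mul_assoc, permGL_mul,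
        ← mul_assoc, pureGL_mul] at h2
      exact h2
  have htrans : ∀ {x y : Fin t → Fin m}, x ≠ y → ∀ c : F, ∃ M ∈ K, (M : MT) = 1 + Matrix.single x y c := by
    intro x y hxy c
    rcases wr_or_transvections hm ht hroots hperms with h | h
    · exact absurd (fun g hg => ⟨(frU e P).symm g, h (show frU e P ((frU e P).symm g) ∈ G by
        rwa [MulEquiv.apply_symm_apply]), MulEquiv.apply_symm_apply _ _⟩) hin
    · exact h x y hxy c
  intro M hM
  have hn : 2 ≤ n := by
    have := Fintype.card_congr e
    simp only [Fintype.card_fin, Fintype.card_fun] at this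
    rw [this]
    exact (show 2 ≤ m by omega).trans (Nat.le_self_pow (by omega) m)
  let T : Subgroup (Matrix.SpecialLinearGroup (Fin n) F) :=
    (G.comap (MulAut.conj P).toMonoidHom).comap
      (Matrix.SpecialLinearGroup.toGL : Matrix.SpecialLinearGroup (Fin n) F →* GL (Fin n) F)
  have hT : T = ⊤ := by
    rw [eq_top_iff, ← CfsgLib.StSL.closure_transvection_eq_top (K := F) (n := n) hn, Subgroup.closure_le]
    rintro _ ⟨i, j, hij, c, rfl⟩
    obtain ⟨N, hN, hNv⟩ := htrans (e.injective.ne hij) c
    show MulAut.conj P (Matrix.SpecialLinearGroup.toGL _) ∈ G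
    convert (show frU e P N ∈ G from hN) using 1
    refine congrArg (MulAut.conj P) (Units.ext ?_)
    show Matrix.transvection i j c = _
    have : ((Cfsg.Geo.glReindex e.symm N : GL (Fin n) F) : Matrix (Fin n) (Fin n) F)
        = (N : MT).submatrix e e := by
      simp [Cfsg.Geo.glReindex]
    refine Eq.trans ?_ this.symm
    rw [hNv]
    ext k l
    simp [Matrix.transvection, Matrix.one_apply, Matrix.single_apply]
  have hMd : ((P⁻¹ * M * P : GL (Fin n) F) : Matrix (Fin n) (Fin n) F).det = 1 := by
    have h : (M : Matrix (Fin n) (Fin n) F).det = 1 := by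
      simpa using congrArg Units.val (MonoidHom.mem_ker.1 hM)
    rw [Units.val_mul, Units.val_mul, Matrix.det_units_conj', h]
  obtain ⟨Ms, hMs⟩ : ∃ Ms : Matrix.SpecialLinearGroup (Fin n) F,
      Ms.1 = ((P⁻¹ * M * P : GL (Fin n) F) : Matrix (Fin n) (Fin n) F) :=
    ⟨⟨_, hMd⟩, rfl⟩
  have h := Subgroup.mem_comap.1 (hT ▸ Subgroup.mem_top Ms : Ms ∈ T)
  rw [Subgroup.mem_comap, show Matrix.SpecialLinearGroup.toGL Ms = P⁻¹ * M * P from Units.ext hMs] at h
  simpa [mul_assoc] using h

end CfsgLib.MaxSub.TensorPow
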