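import Cfsg.Agent.Lib.MaxSub.TensorPow.Basic
import Mathlib.LinearAlgebra.Matrix.Trace

/-!
An element stabilising the sum of the factor algebras permutes the factors.
-/

set_option autoImplicit false
set_option maxHeartbeats 800000
set_option linter.unusedSectionVars false
set_option linter.style.haveILetI false

namespace CfsgLib.MaxSub.TensorPow

open Matrix
open CfsgLib.Aschbacher

variable {F : Type*} [Field F] {m t : ℕ}

local notation "Mm" => Matrix (Fin m) (Fin m) F
local notation "MT" => Matrix (Fin t → Fin m) (Fin t → Fin m) F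

/-- The commutator of two matrices. -/
def br {ι : Type} [Fintype ι] (X Y : Matrix ι ι F) : Matrix ι ι F := X * Y - Y * X

theorem trace_br (X Y : Mm) : (br X Y).trace = 0 := by
  rw [br, Matrix.trace_sub, Matrix.trace_mul_comm, sub_self]

theorem br_smul_left {ι : Type} [Fintype ι] (c : F) (X Y : Matrix ι ι F) : br (c • X) Y = c • br X Y := by
  rw [br, br, Matrix.smul_mul, Matrix.mul_smul, smul_sub]

theorem Ad_br {ι : Type} [Fintype ι] [DecidableEq ι] (g : GL ι F) (X Y : Matrix ι ι F) :
    Ad g (br X Y) = br (Ad g X) (Ad g Y) := by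
  rw [br, br, map_sub, Ad_mul_apply, Ad_mul_apply]

theorem Ad_injective {ι : Type} [Fintype ι] [DecidableEq ι] (g : GL ι F) : Function.Injective (Ad g) :=
  fun X Y h => by rw [← Ad_inv_cancel g X, h, Ad_inv_cancel]

/-- The sum of the images in the factors. -/
noncomputable def sumFa (m t : ℕ) (F : Type*) [Field F] :
    (Fin t → Matrix (Fin m) (Fin m) F) →ₗ[F] Matrix (Fin t → Fin m) (Fin t → Fin m) F :=
  ∑ k, (fa k).toLinearMap.comp (LinearMap.proj k)

theorem sumFa_apply (Y : Fin t → Mm) : sumFa m t F Y = ∑ k, fa k (Y k) := by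
  simp [sumFa, LinearMap.sum_apply]

theorem span_le_sumFa :
    Submodule.span F (Set.range fun p : Fin t × Mm => fa p.1 p.2) ≤ LinearMap.range (sumFa m t F) := by
  rw [Submodule.span_le]
  rintro _ ⟨⟨i, Z⟩, rfl⟩
  refine ⟨Pi.single i Z, ?_⟩
  rw [sumFa_apply, Finset.sum_eq_single i (fun k _ hk => by rw [Pi.single_eq_of_ne hk, map_zero])
    (fun h => absurd (Finset.mem_univ i) h), Pi.single_eq_same]

theorem br_sumFa (Y : Fin t → Mm) (i : Fin t) (Z : Mm) :
    br (∑ k, fa k (Y k)) (fa i Z) = fa i (br (Y i) Z) := by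
  rw [br, Finset.sum_mul, Finset.mul_sum, ← Finset.sum_sub_distrib, Finset.sum_eq_single i]
  · rw [br, map_sub, map_mul, map_mul]
  · intro k _ hk
    rw [(fa_commute hk (Y k) Z).eq, sub_self]
  · simp

/-- A subspace closed under brackets with traceless matrices, containing the bracket of a non-scalar matrix
with every traceless matrix, contains all traceless matrices. -/
theorem traceless_le (hm : 3 ≤ m) (S : Submodule F Mm)
    (hS : ∀ X ∈ S, ∀ Z : Mm, Z.trace = 0 → br X Z ∈ S) {Y : Mm} (hY : ∀ c : F, Y ≠ c • 1)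
    (hYS : ∀ Z : Mm, Z.trace = 0 → br Y Z ∈ S) {Z : Mm} (hZ : Z.trace = 0) : Z ∈ S := by
  classical
  have tr : ∀ a b : Fin m, a ≠ b → (Matrix.single a b (1 : F)).trace = 0 := fun a b h => by
    simp [Matrix.trace, h]
  obtain ⟨a, b, hab, hE⟩ : ∃ a b : Fin m, a ≠ b ∧ Matrix.single a b (1 : F) ∈ S := by
    by_cases hoff : ∃ a b, a ≠ b ∧ Y b a ≠ 0
    · obtain ⟨a, b, hab, hne⟩ := hoff
      obtain ⟨c, hca, hcb⟩ : ∃ c, c ≠ a ∧ c ≠ b := by
        by_contra hc
        push Not at hc
        have : m ≤ 2 := by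
          rw [← Fintype.card_fin m, ← Finset.card_univ]
          exact (Finset.card_le_card (t := {a, b}) fun x _ => by
            by_cases hx : x = a
            · simp [hx]
            · simp [hc x hx]).trans Finset.card_le_two
        omega
      have e : br (br (br Y (Matrix.single a b 1)) (Matrix.single a c 1)) (Matrix.single c b 1) =
          (-(Y b a)) • (Matrix.single a b 1 : Mm) := by
        simp only [br, sub_mul, mul_sub, ← mul_assoc, Matrix.smul_single, smul_eq_mul, mul_one]
        simp [mul_assoc, hca, Ne.symm hab, Ne.symm hcb]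
        ext i j
        simp [Matrix.mul_apply, Matrix.single_apply, ite_and]
        split_ifs <;> simp_all
      have hmem := hS _ (hS _ (hYS _ (tr a b hab)) _ (tr a c (Ne.symm hca))) _ (tr c b hcb)
      rw [e] at hmem
      exact ⟨a, b, hab, by simpa [smul_smul, hne] using S.smul_mem (-(Y b a))⁻¹ hmem⟩
    · push Not at hoff
      obtain ⟨a, b, hab⟩ : ∃ a b, Y a a ≠ Y b b := by
        by_contra hc
        push Not at hc
        refine hY (Y ⟨0, by omega⟩ ⟨0, by omega⟩) (Matrix.ext fun i j => ?_)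
        by_cases h : i = j
        · subst h; simpa using hc i _
        · simpa [h] using hoff j i (Ne.symm h)
      have hne : a ≠ b := fun h => hab (by rw [h])
      have e : br Y (Matrix.single a b 1) = (Y a a - Y b b) • (Matrix.single a b 1 : Mm) := by
        ext i j
        simp only [br, Matrix.sub_apply, Matrix.smul_apply, smul_eq_mul, Matrix.single_apply]
        rw [Matrix.mul_apply, Matrix.mul_apply, Finset.sum_eq_single i, Finset.sum_eq_single j]
        · simp only [Matrix.single_apply]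
          by_cases hi : a = i <;> by_cases hj : b = j <;> simp [hi, hj]
        · intro k _ hk; simp [hoff j k hk.symm]
        · simp
        · intro k _ hk; simp [hoff k i hk]
        · simp
      have hmem := hYS _ (tr a b hne)
      rw [e] at hmem
      exact ⟨a, b, hne, by simpa [smul_smul, sub_ne_zero.mpr hab] using S.smul_mem (Y a a - Y b b)⁻¹ hmem⟩
  have right : ∀ {x y : Fin m}, x ≠ y → Matrix.single x y (1 : F) ∈ S → ∀ z, z ≠ x → z ≠ y →
      Matrix.single x z (1 : F) ∈ S := fun {x y} hxy h z hzx hzy => by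
    have := hS _ h _ (tr y z (Ne.symm hzy))
    simpa [br, Matrix.single_mul_single_of_ne _ _ _ _ hzx] using this
  have left : ∀ {x y : Fin m}, x ≠ y → Matrix.single x y (1 : F) ∈ S → ∀ z, z ≠ x → z ≠ y →
      Matrix.single z y (1 : F) ∈ S := fun {x y} hxy h z hzx hzy => by
    have := hS _ h _ (tr z x hzx)
    simpa [br, Matrix.single_mul_single_of_ne _ _ _ _ (Ne.symm hzy)] using this
  have other : ∀ x y : Fin m, ∃ z, z ≠ x ∧ z ≠ y := fun x y => by
    by_contra hc
    push Not at hc
    have : m ≤ 2 := by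
      rw [← Fintype.card_fin m, ← Finset.card_univ]
      exact (Finset.card_le_card (t := {x, y}) fun z _ => by
        by_cases hz : z = x
        · simp [hz]
        · simp [hc z hz]).trans Finset.card_le_two
    omega
  have row : ∀ z, z ≠ a → Matrix.single a z (1 : F) ∈ S := fun z hz => by
    by_cases h : z = b
    · exact h ▸ hE
    · exact right hab hE z hz h
  have allOff : ∀ x y, x ≠ y → Matrix.single x y (1 : F) ∈ S := by
    intro x y hxy
    by_cases hxa : x = a
    · exact hxa ▸ row y (fun h => hxy (hxa.trans h.symm))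
    by_cases hya : y = a
    · obtain ⟨z, hza, hzx⟩ := other a x
      have h1 := row z hza
      have h2 := left hza.symm h1 x hxa (Ne.symm hzx)
      exact hya ▸ right (Ne.symm hzx) h2 a (Ne.symm hxa) hza.symm
    · exact left (Ne.symm hya) (row y hya) x hxa hxy
  have diag : ∀ x y, Matrix.single x x (1 : F) - Matrix.single y y 1 ∈ S := by
    intro x y
    by_cases hxy : x = y
    · subst hxy; rw [sub_self]; exact zero_mem _
    · have := hS _ (allOff x y hxy) _ (tr y x (Ne.symm hxy))
      simpa [br] using this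
  let o : Fin m := ⟨0, by omega⟩
  have hZeq : Z = (∑ i, ∑ j, if i = j then (0 : Mm) else Z i j • Matrix.single i j (1 : F)) +
      ∑ i, Z i i • ((Matrix.single i i 1 : Mm) - Matrix.single o o 1) := by
    have h0 : ∑ i, Z i i • (Matrix.single o o (1 : F) : Mm) = 0 := by
      rw [← Finset.sum_smul, show ∑ i, Z i i = 0 from hZ, zero_smul]
    simp only [smul_sub, Finset.sum_sub_distrib, h0, sub_zero]
    ext p q
    simp only [Matrix.add_apply, Matrix.sum_apply]
    rw [Finset.sum_eq_single p, Finset.sum_eq_single q]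
    · by_cases h : p = q
      · subst h
        rw [Finset.sum_eq_single p] <;> simp +contextual
      · rw [Finset.sum_eq_zero fun i _ => ?_]
        · simp [h]
        · simp only [Matrix.smul_apply, Matrix.single_apply, smul_eq_mul]
          rw [if_neg (fun hh => h (hh.1.symm.trans hh.2)), mul_zero]
    · intro j _ hj; by_cases h : p = j <;> simp [h, hj]
    · simp
    · intro i _ hi
      refine Finset.sum_eq_zero fun j _ => ?_
      by_cases h : i = j <;> simp [h, hi]
    · simp
  rw [hZeq]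
  refine S.add_mem (S.sum_mem fun i _ => S.sum_mem fun j _ => ?_) (S.sum_mem fun i _ => S.smul_mem _ (diag i o))
  split
  · exact zero_mem _
  · rename_i h; exact S.smul_mem _ (allOff i j h)

theorem wr_of_preserves [Finite F] (hm : 3 ≤ m) (ht : 0 < t) {g : GL (Fin t → Fin m) F} (R : Submodule F MT)
    (h1 : ∀ (i : Fin t) (Z : Mm), Z.trace = 0 → fa i Z ∈ R)
    (h2 : R ≤ Submodule.span F (Set.range fun p : Fin t × Mm => fa p.1 p.2))
    (hg : ∀ X ∈ R, Ad g X ∈ R) : IsWr g := by
  classical
  haveI : NeZero m := ⟨by omega⟩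
  haveI : NeZero t := ⟨ht.ne'⟩
  have rep : ∀ X ∈ R, ∃ Y : Fin t → Mm, X = ∑ k, fa k (Y k) := fun X hX => by
    obtain ⟨Y, hY⟩ := span_le_sumFa (h2 hX)
    exact ⟨Y, by rw [← hY, sumFa_apply]⟩
  have surj : ∀ X ∈ R, ∃ X' ∈ R, Ad g X' = X := by
    intro X hX
    have hinj : Function.Injective ((Ad g).restrict hg) := fun x y h =>
      Subtype.ext (Ad_injective g (congrArg Subtype.val h))
    obtain ⟨X', hX'⟩ := LinearMap.injective_iff_surjective.mp hinj ⟨X, hX⟩
    exact ⟨X'.1, X'.2, congrArg Subtype.val hX'⟩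
  let sl : Submodule F Mm := LinearMap.ker (Matrix.traceLinearMap (Fin m) F F)
  have memsl : ∀ Z : Mm, Z ∈ sl ↔ Z.trace = 0 := fun Z => Iff.rfl
  let a₀ : Fin m := ⟨0, by omega⟩
  let b₀ : Fin m := ⟨1, by omega⟩
  have hab₀ : a₀ ≠ b₀ := by simp [a₀, b₀, Fin.ext_iff]
  have htr : ∀ {a b : Fin m}, a ≠ b → (Matrix.single a b (1 : F)).trace = 0 := fun {a b} h => by
    simp [Matrix.trace, h]
  have notscalar : ∀ {a b : Fin m}, a ≠ b → ∀ c : F, (Matrix.single a b (1 : F) : Mm) ≠ c • 1 := by
    intro a b h c e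
    have := congrFun (congrFun e a) b
    simp [h] at this
  -- the image of a factor
  let K : Fin t → Submodule F MT := fun i => sl.map ((Ad g).comp (fa i).toLinearMap)
  have key : ∀ i, ∃ j, (∀ Z : Mm, Z.trace = 0 → ∃ Z' : Mm, Ad g (fa i Z) = fa j Z' ∧ Z'.trace = 0) ∧
      ∀ Z' : Mm, Z'.trace = 0 → ∃ Z : Mm, Ad g (fa i Z) = fa j Z' ∧ Z.trace = 0 := by
    intro i
    have hX0 : fa i (Matrix.single a₀ b₀ (1 : F)) ∈ R := h1 i _ (htr hab₀)
    obtain ⟨Y, hY⟩ := rep _ (hg _ hX0)
    obtain ⟨j, hj⟩ : ∃ j, ∀ c : F, Y j ≠ c • 1 := by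
      by_contra hc
      push Not at hc
      choose c hc using hc
      have e : Ad g (fa i (Matrix.single a₀ b₀ (1 : F))) = Ad g ((∑ k, c k) • 1) := by
        rw [hY, map_smul]
        have : Ad g (1 : MT) = 1 := by simp [Ad_apply]
        rw [this, Finset.sum_smul]
        exact Finset.sum_congr rfl fun k _ => by rw [hc k, map_smul, map_one]
      refine notscalar hab₀ (∑ k, c k) (fa_injective i ?_)
      rw [Ad_injective g e, map_smul, map_one]
    have hbr : ∀ X ∈ K i, ∀ W : Mm, W.trace = 0 → br X (fa j W) ∈ K i := by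
      rintro _ ⟨Z, hZ, rfl⟩ W hW
      obtain ⟨X', hX', hW'⟩ := surj _ (h1 j W hW)
      obtain ⟨Y', hY'⟩ := rep _ hX'
      refine ⟨br Z (Y' i), trace_br _ _, ?_⟩
      simp only [LinearMap.comp_apply, AlgHom.toLinearMap_apply]
      rw [← hW', ← Ad_br, hY']
      congr 1
      have := br_sumFa Y' i Z
      rw [br, br, map_sub] at this ⊢
      rw [← neg_sub ((∑ k, fa k (Y' k)) * fa i Z) (fa i Z * ∑ k, fa k (Y' k)), this, map_mul, map_mul, neg_sub]
    let S : Submodule F Mm := (K i).comap (fa j).toLinearMap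
    have hle : ∀ W : Mm, W.trace = 0 → W ∈ S := fun W hW => by
      refine traceless_le hm S (fun X hX Z hZ => ?_) hj (fun Z hZ => ?_) hW
      · show fa j (br X Z) ∈ K i
        rw [br, map_sub, map_mul, map_mul]
        exact hbr _ hX Z hZ
      · show fa j (br (Y j) Z) ∈ K i
        rw [← br_sumFa, ← hY]
        exact hbr _ ⟨_, htr hab₀, rfl⟩ Z hZ
    have hsub : sl.map (fa j).toLinearMap ≤ K i := by
      rintro _ ⟨W, hW, rfl⟩
      exact hle W hW
    have heq : sl.map (fa j).toLinearMap = K i := by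
      refine Submodule.eq_of_le_of_finrank_eq hsub ?_
      have e1 := (Submodule.equivMapOfInjective (fa (F := F) (m := m) j).toLinearMap (fa_injective j) sl).finrank_eq
      have e2 := (Submodule.equivMapOfInjective ((Ad g).comp (fa i).toLinearMap)
          ((Ad_injective g).comp (fa_injective i)) sl).finrank_eq
      exact e1.symm.trans e2
    refine ⟨j, fun Z hZ => ?_, fun Z' hZ' => ?_⟩
    swap
    · obtain ⟨Z, hZ, e⟩ : fa j Z' ∈ K i := hsub ⟨Z', hZ', rfl⟩
      exact ⟨Z, e, hZ⟩
    obtain ⟨Z', hZ', e⟩ : Ad g (fa i Z) ∈ sl.map (fa j).toLinearMap := heq ▸ ⟨Z, hZ, rfl⟩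
    exact ⟨Z', e.symm, hZ'⟩
  choose σ hσ using key
  have hinj : Function.Injective σ := by
    intro i i' h
    by_contra hne
    have hc : ∀ W : Mm, W.trace = 0 → br (Matrix.single a₀ b₀ (1 : F)) W = 0 := by
      intro W hW
      obtain ⟨Z₂, e₂, t₂⟩ := (hσ i).1 W hW
      obtain ⟨W', e', -⟩ := (hσ i').2 Z₂ t₂
      rw [← h] at e'
      have e : fa i W = fa i' W' := Ad_injective g (e₂.trans e'.symm)
      refine fa_injective i ?_
      rw [br, map_sub, map_mul, map_mul, map_zero, e, (fa_commute hne _ W').eq, sub_self]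
    have := hc _ (htr hab₀.symm)
    have := congrFun (congrFun this a₀) a₀
    simp [br, Ne.symm hab₀] at this
  let π : Equiv.Perm (Fin t) := Equiv.ofBijective σ (Finite.injective_iff_bijective.mp hinj)
  refine mem_std_iff.mp (mem_tensorWreathStandard_of_permuting (σ := π) fun i k l => ?_)
  have off : ∀ {a b : Fin m}, a ≠ b → ∃ Y : Mm, Ad g (fa i (Matrix.single a b (1 : F))) = fa (σ i) Y := by
    intro a b h
    obtain ⟨Y, hY, -⟩ := (hσ i).1 _ (htr h)
    exact ⟨Y, hY⟩
  show ∃ Y, Ad g (fa i (Matrix.single k l (1 : F))) = fa (σ i) Y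
  by_cases hkl : k = l
  · subst hkl
    obtain ⟨z, hz⟩ : ∃ z : Fin m, z ≠ k := by
      by_cases hk : k = a₀
      · exact ⟨b₀, hk ▸ hab₀.symm⟩
      · exact ⟨a₀, Ne.symm hk⟩
    obtain ⟨Y, hY⟩ := off hz.symm
    obtain ⟨Y', hY'⟩ := off hz
    refine ⟨Y * Y', ?_⟩
    rw [map_mul, ← hY, ← hY', ← Ad_mul_apply, ← map_mul]
    simp
  · exact off hkl

end CfsgLib.MaxSub.TensorPow
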