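import Cfsg.Agent.Lib.MaxSub.TensorPow.Basic

/-!
Operators on a tensor power of a matrix algebra acting factorwise.
-/

set_option autoImplicit false
set_option maxHeartbeats 400000
set_option linter.unusedSectionVars false

namespace CfsgLib.MaxSub.TensorPow

open Matrix
open CfsgLib.Aschbacher

variable {F : Type*} [Field F] {m t : ℕ}

local notation "Mm" => Matrix (Fin m) (Fin m) F
local notation "MT" => Matrix (Fin t → Fin m) (Fin t → Fin m) F

/-- The tensor product of linear maps of the factor algebras. -/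
noncomputable def Op (L : Fin t → (Mm →ₗ[F] Mm)) : MT →ₗ[F] MT :=
  ∑ x : Fin t → Fin m, ∑ y : Fin t → Fin m,
    (Matrix.entryLinearMap F F x y).smulRight (pureMat fun i => L i (Matrix.single (x i) (y i) 1))

theorem Op_apply (L : Fin t → (Mm →ₗ[F] Mm)) (X : MT) :
    Op L X = ∑ x : Fin t → Fin m, ∑ y : Fin t → Fin m,
      X x y • pureMat fun i => L i (Matrix.single (x i) (y i) 1) := by
  simp [Op, LinearMap.sum_apply]

theorem Op_single (L : Fin t → (Mm →ₗ[F] Mm)) (x y : Fin t → Fin m) :
    Op L (Matrix.single x y 1) = pureMat fun i => L i (Matrix.single (x i) (y i) 1) := by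
  rw [Op_apply, Finset.sum_eq_single x, Finset.sum_eq_single y]
  · simp
  · intro b _ hb; simp [Ne.symm hb]
  · simp
  · intro b _ hb; simp [Ne.symm hb]
  · simp

theorem Op_pureMat (L : Fin t → (Mm →ₗ[F] Mm)) (A : Fin t → Mm) :
    Op L (pureMat A) = pureMat fun i => L i (A i) := by
  ext z w
  have hL : ∀ i, L i (A i) (z i) (w i) =
      ∑ p : Fin m × Fin m, A i p.1 p.2 * L i (Matrix.single p.1 p.2 1) (z i) (w i) := fun i => by
    conv_lhs => rw [Matrix.matrix_eq_sum_single (A i)]
    simp only [map_sum, Matrix.sum_apply, Fintype.sum_prod_type]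
    refine Finset.sum_congr rfl fun a _ => Finset.sum_congr rfl fun b _ => ?_
    rw [show Matrix.single a b (A i a b) = A i a b • Matrix.single a b (1 : F) by simp, map_smul,
      Matrix.smul_apply, smul_eq_mul]
  rw [pureMat_apply, Finset.prod_congr rfl fun i _ => hL i, Fintype.prod_sum, Op_apply]
  simp only [Matrix.sum_apply, Matrix.smul_apply, smul_eq_mul, pureMat_apply, ← Finset.prod_mul_distrib]
  rw [← Fintype.sum_prod_type']
  exact Fintype.sum_equiv (Equiv.arrowProdEquivProdArrow (Fin t) (fun _ => Fin m) (fun _ => Fin m)).symm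
    _ _ fun p => rfl

/-- Linear maps agreeing on pure tensors agree. -/
theorem ext_pure {M : Type*} [AddCommGroup M] [Module F M] {f g : MT →ₗ[F] M}
    (h : ∀ A : Fin t → Mm, f (pureMat A) = g (pureMat A)) : f = g := by
  refine LinearMap.ext fun X => ?_
  rw [Matrix.matrix_eq_sum_single X]
  simp only [map_sum]
  refine Finset.sum_congr rfl fun x _ => Finset.sum_congr rfl fun y _ => ?_
  rw [show Matrix.single x y (X x y) = X x y • Matrix.single x y (1 : F) by simp, map_smul, map_smul,
    single_eq_pureMat, h]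

theorem Op_comp (L L' : Fin t → (Mm →ₗ[F] Mm)) (X : MT) :
    Op L (Op L' X) = Op (fun i => (L i).comp (L' i)) X :=
  LinearMap.congr_fun (ext_pure (f := (Op L).comp (Op L'))
    (g := Op fun i => (L i).comp (L' i)) fun A => by simp [Op_pureMat]) X

theorem Op_eq_zero {L : Fin t → (Mm →ₗ[F] Mm)} {i : Fin t} (h : L i = 0) (X : MT) : Op L X = 0 :=
  LinearMap.congr_fun (ext_pure (f := Op L) (g := 0) fun A => by
    ext z w
    rw [Op_pureMat, pureMat_apply, Finset.prod_eq_zero (Finset.mem_univ i) (by simp [h])]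
    rfl) X

/-- A pure tensor times a permutation acting on a pure tensor. -/
theorem Ad_wr_pureMat (A : Fin t → GL (Fin m) F) (σ : Equiv.Perm (Fin t)) (B : Fin t → Mm) :
    Ad (pureGL A * permGL m F σ) (pureMat B) =
      pureMat fun j => (A j : Mm) * B (σ.symm j) * (((A j)⁻¹ : GL (Fin m) F) : Mm) := by
  rw [Ad_mul]
  show pureMat _ * (permMat m F σ * pureMat B * permMat m F σ⁻¹) *
    pureMat (fun j => (((A j)⁻¹ : GL (Fin m) F) : Mm)) = _
  rw [permMat_mul_pureMat, mul_assoc (pureMat (B ∘ σ.symm)), permMat_mul, mul_inv_cancel, permMat_one,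
    mul_one, pureMat_mul, pureMat_mul]
  rfl

/-- A local operator commuting with all conjugations. -/
def Inv (L : Mm →ₗ[F] Mm) : Prop :=
  ∀ (a : GL (Fin m) F) (X : Mm),
    L ((a : Mm) * X * ((a⁻¹ : GL (Fin m) F) : Mm)) = (a : Mm) * L X * ((a⁻¹ : GL (Fin m) F) : Mm)

theorem Ad_Op {L : Fin t → (Mm →ₗ[F] Mm)} (hL : ∀ i, Inv (L i)) (A : Fin t → GL (Fin m) F)
    (σ : Equiv.Perm (Fin t)) (X : MT) :
    Ad (pureGL A * permGL m F σ) (Op L X) =
      Op (L ∘ σ.symm) (Ad (pureGL A * permGL m F σ) X) :=
  LinearMap.congr_fun (ext_pure (f := (Ad (pureGL A * permGL m F σ)).comp (Op L))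
    (g := (Op (L ∘ σ.symm)).comp (Ad (pureGL A * permGL m F σ))) fun B => by
      simp only [LinearMap.comp_apply, Op_pureMat, Ad_wr_pureMat]
      congr 1
      funext j
      exact (hL (σ.symm j) (A j) _).symm) X

/-- The trace, as an operator. -/
noncomputable def tl (m : ℕ) (F : Type*) [Field F] :
    Matrix (Fin m) (Fin m) F →ₗ[F] Matrix (Fin m) (Fin m) F :=
  (Matrix.traceLinearMap (Fin m) F F).smulRight 1

theorem tl_apply (X : Mm) : tl m F X = X.trace • (1 : Mm) := rfl

/-- The identity plus the trace. -/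
noncomputable def Tl (m : ℕ) (F : Type*) [Field F] :
    Matrix (Fin m) (Fin m) F →ₗ[F] Matrix (Fin m) (Fin m) F := LinearMap.id + tl m F

theorem Tl_apply (X : Mm) : Tl m F X = X + X.trace • (1 : Mm) := rfl

theorem inv_id : Inv (LinearMap.id : Mm →ₗ[F] Mm) := fun _ _ => rfl

theorem inv_tl : Inv (tl m F) := fun a X => by
  rw [tl_apply, tl_apply, Matrix.trace_units_conj, Matrix.mul_smul, Matrix.smul_mul, mul_one,
    Units.mul_inv]

theorem inv_Tl : Inv (Tl m F) := fun a X => by
  rw [Tl, LinearMap.add_apply, LinearMap.add_apply, inv_id, inv_tl, mul_add, add_mul]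

/-- The pattern of a set of factors. -/
noncomputable def pat (P : Mm →ₗ[F] Mm) (S : Finset (Fin t)) : Fin t → (Mm →ₗ[F] Mm) :=
  fun i => if i ∈ S then P else tl m F

/-- The projection to the sum of the factor algebras. -/
noncomputable def lieOp (m t : ℕ) (F : Type*) [Field F] :
    Matrix (Fin t → Fin m) (Fin t → Fin m) F →ₗ[F] Matrix (Fin t → Fin m) (Fin t → Fin m) F :=
  ∑ i, Op (pat LinearMap.id {i})

/-- The projection to the pairs of factors. -/
noncomputable def pairOp (m t : ℕ) (F : Type*) [Field F] :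
    Matrix (Fin t → Fin m) (Fin t → Fin m) F →ₗ[F] Matrix (Fin t → Fin m) (Fin t → Fin m) F :=
  ∑ S ∈ (Finset.univ : Finset (Fin t)).powersetCard 2, Op (pat (Tl m F) S)

/-- The projection to the product of all factors. -/
noncomputable def topOp (m t : ℕ) (F : Type*) [Field F] :
    Matrix (Fin t → Fin m) (Fin t → Fin m) F →ₗ[F] Matrix (Fin t → Fin m) (Fin t → Fin m) F :=
  Op fun _ => Tl m F

/-- An operator commuting with the standard group. -/
def Equivariant (e : MT →ₗ[F] MT) : Prop :=
  ∀ g : GL (Fin t → Fin m) F, IsWr g → ∀ X, e (Ad g X) = Ad g (e X)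

theorem pat_inv {P : Mm →ₗ[F] Mm} (hP : Inv P) (S : Finset (Fin t)) (i : Fin t) : Inv (pat P S i) := by
  unfold pat
  split
  · exact hP
  · exact inv_tl

theorem pat_perm (P : Mm →ₗ[F] Mm) (S : Finset (Fin t)) (σ : Equiv.Perm (Fin t)) :
    pat P S ∘ σ.symm = pat P (S.map σ.toEmbedding) := by
  funext i
  simp only [Function.comp_apply, pat, Finset.mem_map_equiv]

theorem equivariant_lieOp : Equivariant (lieOp m t F) := by
  rintro g ⟨A, σ, rfl⟩ X
  unfold lieOp
  rw [LinearMap.sum_apply, LinearMap.sum_apply, map_sum]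
  refine (Fintype.sum_equiv σ _ _ fun i => ?_).symm
  rw [Ad_Op (fun k => pat_inv inv_id _ k), pat_perm, Finset.map_singleton]
  rfl

theorem equivariant_pairOp : Equivariant (pairOp m t F) := by
  rintro g ⟨A, σ, rfl⟩ X
  unfold pairOp
  rw [LinearMap.sum_apply, LinearMap.sum_apply, map_sum]
  refine (Finset.sum_nbij' (fun S => S.map σ.toEmbedding) (fun S => S.map σ.symm.toEmbedding)
    ?_ ?_ ?_ ?_ fun S _ => by rw [Ad_Op (fun k => pat_inv inv_Tl _ k), pat_perm]).symm
  · intro S hS; simp_all [Finset.mem_powersetCard]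
  · intro S hS; simp_all [Finset.mem_powersetCard]
  · intro S _; simp [Finset.map_map]
  · intro S _; simp [Finset.map_map]

theorem equivariant_topOp : Equivariant (topOp m t F) := by
  rintro g ⟨A, σ, rfl⟩ X
  rw [topOp, Ad_Op fun _ => inv_Tl]
  rfl

/-- An element of a factor algebra without trace is fixed by the projection. -/
theorem lieOp_fa [NeZero m] (i : Fin t) (Z : Mm) (hZ : Z.trace = 0) :
    ∃ X, lieOp m t F X = fa i Z := by
  refine ⟨pureMat (Function.update (fun _ => Matrix.single 0 0 1) i Z), ?_⟩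
  rw [lieOp, LinearMap.sum_apply, Finset.sum_eq_single i, Op_pureMat, fa_eq]
  · congr 1
    funext j
    by_cases hj : j = i
    · subst hj; simp [pat]
    · simp [pat, hj, tl_apply]
  · intro j _ hj
    rw [Op_pureMat]
    ext z w
    rw [pureMat_apply, Finset.prod_eq_zero (Finset.mem_univ i)]
    · rfl
    · simp [pat, Ne.symm hj, tl_apply, hZ]
  · simp

/-- The image of the projection lies in the sum of the factor algebras. -/
theorem lieOp_mem (X : MT) :
    lieOp m t F X ∈ Submodule.span F (Set.range fun p : Fin t × Mm => fa p.1 p.2) := by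
  rw [lieOp, LinearMap.sum_apply]
  refine Submodule.sum_mem _ fun i _ => ?_
  rw [Op_apply]
  refine Submodule.sum_mem _ fun x _ => Submodule.sum_mem _ fun y _ => Submodule.smul_mem _ _ ?_
  set B : Fin t → Mm := fun j => Matrix.single (x j) (y j) 1
  have h : (fun j => pat (F := F) (m := m) LinearMap.id {i} j (B j)) =
      fun j => (if j = i then (1 : F) else (B j).trace) • Function.update (1 : Fin t → Mm) i (B i) j := by
    funext j
    by_cases hj : j = i
    · subst hj; simp [pat]
    · simp [pat, hj, tl_apply]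
  rw [h, pureMat_smul]
  exact Submodule.smul_mem _ _ (Submodule.subset_span ⟨(i, B i), rfl⟩)

end CfsgLib.MaxSub.TensorPow
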