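import Cfsg.Agent.Lib.MaxSub.TensorPow.Basic
import Mathlib.LinearAlgebra.Quotient.Basic

/-!
The sum of the conjugates of an operator over the cosets of a subgroup, and its congruence modulo the
image of the sum over a group all whose non-trivial elements fix one coset only.
-/

set_option autoImplicit false
set_option maxHeartbeats 400000
set_option linter.unusedSectionVars false

namespace CfsgLib.MaxSub.TensorPow

open Matrix

variable {F : Type*} [Field F] [Fintype F] {ι : Type} [Fintype ι] [DecidableEq ι]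

instance instFiniteGLTensorPow : Finite (GL ι F) :=
  Finite.of_injective (fun g : GL ι F => (g : (Matrix ι ι F))) fun _ _ h => Units.ext h

/-- Conjugation, as a representation. -/
noncomputable def AdRep : GL ι F →* Module.End F (Matrix ι ι F) where
  toFun g := Ad g
  map_one' := LinearMap.ext fun X => Ad_one X
  map_mul' g h := LinearMap.ext fun X => Ad_mul g h X

theorem AdRep_apply (g : GL ι F) (X : Matrix ι ι F) : AdRep g X = Ad g X := rfl

variable {M N : Type*} [AddCommGroup M] [Module F M] [AddCommGroup N] [Module F N]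
  (ρ : GL ι F →* Module.End F M) (σ : GL ι F →* Module.End F N)
  (G H : Subgroup (GL ι F)) (e : M →ₗ[F] N)

theorem rep_mul (g h : GL ι F) (X : M) : ρ (g * h) X = ρ g (ρ h X) := by
  rw [map_mul, Module.End.mul_apply]

theorem rep_inv_cancel (g : GL ι F) (X : M) : ρ g⁻¹ (ρ g X) = X := by
  rw [← rep_mul, inv_mul_cancel, map_one, Module.End.one_apply]

/-- An operator commuting with the elements of a subgroup. -/
def CommH : Prop := ∀ h ∈ G, h ∈ H → ∀ X : M, e (ρ h X) = σ h (e X)

/-- The sum of the conjugates of an operator. -/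
noncomputable def avg : M →ₗ[F] N :=
  letI := Fintype.ofFinite (↥G ⧸ H.subgroupOf G)
  ∑ q : ↥G ⧸ H.subgroupOf G,
    (σ (q.out : GL ι F)).comp (e.comp (ρ ((q.out : GL ι F))⁻¹))

variable {ρ σ G H e}

/-- The conjugate of the operator by a coset. -/
theorem conj_const (he : CommH ρ σ G H e) {g g' : ↥G}
    (h : (g : ↥G ⧸ H.subgroupOf G) = g') (X : M) :
    σ (g : GL ι F) (e (ρ (g : GL ι F)⁻¹ X)) = σ (g' : GL ι F) (e (ρ (g' : GL ι F)⁻¹ X)) := by
  have hh : g⁻¹ * g' ∈ H.subgroupOf G := QuotientGroup.eq.1 h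
  rw [Subgroup.mem_subgroupOf, Subgroup.coe_mul, InvMemClass.coe_inv] at hh
  have hG : (g : GL ι F)⁻¹ * g' ∈ G := mul_mem (inv_mem g.2) g'.2
  have e2 := he _ hG hh (ρ (g' : GL ι F)⁻¹ X)
  rw [← rep_mul, mul_inv_cancel_right] at e2
  rw [e2, ← rep_mul, mul_inv_cancel_left]

theorem avg_apply [Fintype (↥G ⧸ H.subgroupOf G)] (X : M) :
    avg ρ σ G H e X = ∑ q : ↥G ⧸ H.subgroupOf G,
      σ (q.out : GL ι F) (e (ρ ((q.out : GL ι F))⁻¹ X)) := by
  simp only [avg, LinearMap.sum_apply, LinearMap.comp_apply]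
  convert rfl

theorem avg_equivariant (he : CommH ρ σ G H e) {g : GL ι F} (hg : g ∈ G) (X : M) :
    avg ρ σ G H e (ρ g X) = σ g (avg ρ σ G H e X) := by
  letI := Fintype.ofFinite (↥G ⧸ H.subgroupOf G)
  rw [avg_apply, avg_apply, map_sum]
  symm
  refine Fintype.sum_equiv (MulAction.toPerm (⟨g, hg⟩ : ↥G)) _ _ fun q => ?_
  have hq : ((⟨g, hg⟩ * q.out : ↥G) : ↥G ⧸ H.subgroupOf G) =
      (((⟨g, hg⟩ : ↥G) • q).out : ↥G ⧸ H.subgroupOf G) := by
    rw [QuotientGroup.out_eq']
    conv_rhs => rw [← QuotientGroup.out_eq' q]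
    rfl
  rw [MulAction.toPerm_apply, ← conj_const he hq, Subgroup.coe_mul, _root_.mul_inv_rev, ← rep_mul σ g,
    rep_mul ρ _ g⁻¹, rep_inv_cancel]

/-- The congruence: all non-trivial elements of the group `u` fix the trivial coset only. -/
theorem avg_sub_mem {K : Type*} [AddCommGroup K] [Fintype K] (he : CommH ρ σ G H e)
    (u : K → GL ι F) (hu0 : u 0 = 1) (hmul : ∀ k l, u (k + l) = u k * u l)
    (huG : ∀ k, u k ∈ G) (huH : ∀ k, u k ∈ H)
    (hfix : ∀ k, k ≠ 0 → ∀ g ∈ G, g⁻¹ * u k * g ∈ H → g ∈ H) {X : M} (hX : ∀ k, ρ (u k) X = X) :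
    ∃ Y : N, avg ρ σ G H e X - e X = ∑ k, σ (u k) Y := by
  classical
  letI := Fintype.ofFinite (↥G ⧸ H.subgroupOf G)
  let W : Submodule F N := LinearMap.range (∑ k, σ (u k) : Module.End F N)
  suffices h : avg ρ σ G H e X - e X ∈ W by
    obtain ⟨Y, hY⟩ := h
    exact ⟨Y, by rw [← hY, LinearMap.sum_apply]⟩
  let φ : Multiplicative K →* ↥G :=
    { toFun := fun k => ⟨u k.toAdd, huG _⟩
      map_one' := Subtype.ext hu0
      map_mul' := fun k l => Subtype.ext (hmul _ _) }
  letI : MulAction (Multiplicative K) (↥G ⧸ H.subgroupOf G) := MulAction.compHom _ φ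
  have hsmul : ∀ (k : Multiplicative K) (q : ↥G ⧸ H.subgroupOf G), k • q = φ k • q := fun _ _ => rfl
  set q₀ : ↥G ⧸ H.subgroupOf G := ((1 : ↥G) : ↥G ⧸ H.subgroupOf G) with hq₀
  set c : (↥G ⧸ H.subgroupOf G) → N := fun q => σ (q.out : GL ι F) (e (ρ ((q.out : GL ι F))⁻¹ X))
    with hc
  have hc₀ : c q₀ = e X := by
    simp only [hc]
    rw [← conj_const he (g := 1) (show ((1 : ↥G) : ↥G ⧸ H.subgroupOf G) = q₀.out from
      (QuotientGroup.out_eq' q₀).symm)]
    simp
  have hmove : ∀ (k : Multiplicative K) q, c (k • q) = σ (u k.toAdd) (c q) := by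
    intro k q
    have hq : ((φ k * q.out : ↥G) : ↥G ⧸ H.subgroupOf G) = ((k • q).out : ↥G ⧸ H.subgroupOf G) := by
      rw [QuotientGroup.out_eq']
      conv_rhs => rw [hsmul, ← QuotientGroup.out_eq' q]
      rfl
    have hk' : ρ (u k.toAdd)⁻¹ X = X := by conv_lhs => rw [← hX k.toAdd, rep_inv_cancel]
    simp only [hc]
    rw [← conj_const he hq, Subgroup.coe_mul, _root_.mul_inv_rev,
      show ((φ k : ↥G) : GL ι F) = u k.toAdd from rfl, rep_mul σ, rep_mul ρ, hk']
  have hfree : ∀ (k : Multiplicative K) q, k • q = q → q ≠ q₀ → k = 1 := by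
    intro k q
    induction q using QuotientGroup.induction_on with
    | _ g =>
      intro h hne
      by_contra hk
      refine hne (QuotientGroup.eq.2 ?_).symm
      have h2 := QuotientGroup.eq.1 ((show ((φ k * g : ↥G) : ↥G ⧸ H.subgroupOf G) = g from h).symm)
      rw [Subgroup.mem_subgroupOf, Subgroup.coe_mul, InvMemClass.coe_inv, Subgroup.coe_mul,
        ← mul_assoc] at h2
      rw [Subgroup.mem_subgroupOf]
      simpa using hfix k.toAdd (fun h0 => hk (by simpa using h0)) _ g.2 h2
  have hfix₀ : ∀ k : Multiplicative K, k • q₀ = q₀ := by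
    intro k
    refine (QuotientGroup.eq.2 ?_).symm
    rw [Subgroup.mem_subgroupOf]
    simpa [φ] using huH k.toAdd
  rw [avg_apply, ← hc₀]
  show ∑ q, c q - c q₀ ∈ W
  rw [← Finset.add_sum_erase _ _ (Finset.mem_univ q₀), add_sub_cancel_left]
  letI := Fintype.ofFinite (MulAction.orbitRel.Quotient (Multiplicative K) (↥G ⧸ H.subgroupOf G))
  rw [← Finset.sum_fiberwise (Finset.univ.erase q₀) (fun q => (Quotient.mk'' q :
    MulAction.orbitRel.Quotient (Multiplicative K) (↥G ⧸ H.subgroupOf G))) c]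
  refine Submodule.sum_mem _ fun ω _ => ?_
  induction ω using Quotient.inductionOn' with
  | h a =>
    by_cases ha : a = q₀
    · rw [Finset.sum_eq_zero]
      · exact W.zero_mem
      · intro q hq
        obtain ⟨hq1, hq2⟩ := Finset.mem_filter.1 hq
        obtain ⟨k, hk⟩ := (Quotient.eq''.1 hq2 : q ∈ MulAction.orbit (Multiplicative K) a)
        exact absurd (hk.symm.trans (ha ▸ hfix₀ k)) (Finset.mem_erase.1 hq1).1
    · have hset : (Finset.univ.erase q₀).filter (fun q => (Quotient.mk'' q :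
          MulAction.orbitRel.Quotient (Multiplicative K) (↥G ⧸ H.subgroupOf G)) = Quotient.mk'' a) =
          Finset.univ.image fun k : Multiplicative K => k • a := by
        ext q
        simp only [Finset.mem_filter, Finset.mem_erase, Finset.mem_univ, and_true, Finset.mem_image,
          true_and, Quotient.eq'']
        constructor
        · rintro ⟨-, k, hk⟩; exact ⟨k, hk⟩
        · rintro ⟨k, rfl⟩
          refine ⟨fun h => ha ?_, MulAction.mem_orbit a k⟩
          rw [← inv_smul_smul k a, h, hfix₀]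
      rw [hset, Finset.sum_image fun k _ l _ hkl => ?_]
      · refine ⟨c a, ?_⟩
        rw [LinearMap.sum_apply]
        refine Fintype.sum_equiv Multiplicative.ofAdd _ _ fun k => ?_
        rw [hmove]; rfl
      · have hkl' : (l⁻¹ * k) • a = a := by rw [mul_smul, hkl, inv_smul_smul]
        exact (inv_mul_eq_one.1 (hfree _ a hkl' ha)).symm

end CfsgLib.MaxSub.TensorPow
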