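import Cfsg.Agent.Lib.MaxSub.TensorPow.Pair
import Mathlib.LinearAlgebra.Matrix.Trace

/-!
The product of determinants, as a trilinear form on a tensor power of three-dimensional spaces over the
field with two elements.
-/

set_option autoImplicit false
set_option maxHeartbeats 1000000
set_option linter.unusedSectionVars false
set_option linter.unusedSimpArgs false

namespace CfsgLib.MaxSub.TensorPow

open Matrix
open CfsgLib.Aschbacher

variable {F : Type*} [Field F] {t : ℕ}

local notation "M3" => Matrix (Fin 3) (Fin 3) F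
local notation "MT" => Matrix (Fin t → Fin 3) (Fin t → Fin 3) F

/-- The determinant of three coordinate vectors. -/
def eps3 (F : Type*) [Field F] (x y z : Fin 3) : F :=
  Matrix.det !![(if x = 0 then (1 : F) else 0), (if x = 1 then 1 else 0), (if x = 2 then 1 else 0);
    (if y = 0 then 1 else 0), (if y = 1 then 1 else 0), (if y = 2 then 1 else 0);
    (if z = 0 then 1 else 0), (if z = 1 then 1 else 0), (if z = 2 then 1 else 0)]

theorem eps3_det (A : M3) (x y z : Fin 3) :
    ∑ a, A a x * ∑ b, A b y * ∑ c, A c z * eps3 F a b c = A.det * eps3 F x y z := by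
  fin_cases x <;> fin_cases y <;> fin_cases z <;>
    simp [eps3, Matrix.det_fin_three, Fin.sum_univ_three] <;> ring

theorem eps3_trace (Z : M3) (x y z : Fin 3) :
    ∑ a, (Z a x * eps3 F a y z + Z a y * eps3 F x a z + Z a z * eps3 F x y a) = Z.trace * eps3 F x y z := by
  fin_cases x <;> fin_cases y <;> fin_cases z <;>
    simp [eps3, Matrix.det_fin_three, Fin.sum_univ_three, Matrix.trace] <;> ring

theorem eps3_ne {x y z : Fin 3} (h : x ≠ y ∧ x ≠ z ∧ y ≠ z) : eps3 F x y z = 1 ∨ eps3 F x y z = -1 := by
  obtain ⟨h1, h2, h3⟩ := h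
  fin_cases x <;> fin_cases y <;> fin_cases z <;>
    simp_all [eps3, Matrix.det_fin_three]

theorem eps3_eq {x y z : Fin 3} (h : x = y ∨ x = z ∨ y = z) : eps3 F x y z = 0 := by
  fin_cases x <;> fin_cases y <;> fin_cases z <;>
    simp_all [eps3, Matrix.det_fin_three]

/-- The coefficients of the form. -/
def Tt (F : Type*) [Field F] (x y z : Fin t → Fin 3) : F := ∏ i, eps3 F (x i) (y i) (z i)

/-- The form, as a map from matrices to vectors. -/
noncomputable def fmap (t : ℕ) (F : Type*) [Field F] :
    Matrix (Fin t → Fin 3) (Fin t → Fin 3) F →ₗ[F] ((Fin t → Fin 3) → F) where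
  toFun X := fun z => ∑ x, ∑ y, X x y * Tt F x y z
  map_add' X Y := by funext z; simp [add_mul, Finset.sum_add_distrib]
  map_smul' c X := by funext z; simp [Finset.mul_sum, mul_assoc]

theorem fmap_apply (X : MT) (z : Fin t → Fin 3) : fmap t F X z = ∑ x, ∑ y, X x y * Tt F x y z := rfl

theorem fmap_single (x y z : Fin t → Fin 3) :
    fmap t F (Matrix.single x y 1) z = Tt F x y z := by
  show ∑ p, ∑ q, (Matrix.single x y (1 : F)) p q * Tt F p q z = _
  rw [Finset.sum_eq_single x, Finset.sum_eq_single y] <;>
    simp +contextual [Matrix.single_apply, eq_comm]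

/-- The congruence action. -/
noncomputable def congRep : GL (Fin t → Fin 3) F →* Module.End F (Matrix (Fin t → Fin 3) (Fin t → Fin 3) F) where
  toFun g :=
    { toFun := fun X => (g : MT) * X * (g : MT)ᵀ
      map_add' := fun X Y => by simp [mul_add, add_mul]
      map_smul' := fun c X => by simp [Matrix.mul_smul, Matrix.smul_mul] }
  map_one' := LinearMap.ext fun X => by simp
  map_mul' g h := LinearMap.ext fun X => by simp [Matrix.transpose_mul, mul_assoc]

theorem congRep_apply (g : GL (Fin t → Fin 3) F) (X : MT) : congRep g X = (g : MT) * X * (g : MT)ᵀ := rfl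

/-- The dual action. -/
noncomputable def dualRep : GL (Fin t → Fin 3) F →* Module.End F ((Fin t → Fin 3) → F) where
  toFun g := (((g⁻¹ : GL (Fin t → Fin 3) F) : MT)ᵀ).mulVecLin
  map_one' := LinearMap.ext fun X => by simp
  map_mul' g h := LinearMap.ext fun X => by simp [_root_.mul_inv_rev, Matrix.transpose_mul, Matrix.mulVec_mulVec]

theorem dualRep_apply (g : GL (Fin t → Fin 3) F) (w : (Fin t → Fin 3) → F) :
    dualRep g w = ((g⁻¹ : GL (Fin t → Fin 3) F) : MT)ᵀ *ᵥ w := rfl

/-- The form is invariant under the element. -/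
def FInv (g : GL (Fin t → Fin 3) F) : Prop := ∀ X : MT, fmap t F (congRep g X) = dualRep g (fmap t F X)

theorem fInv_of_key {g : GL (Fin t → Fin 3) F}
    (h : ∀ x y z, ∑ a, (g : MT) a x * ∑ b, (g : MT) b y * ∑ c, (g : MT) c z * Tt F a b c = Tt F x y z) :
    FInv g := by
  have h' : ∀ X : MT, (g : MT)ᵀ *ᵥ fmap t F (congRep g X) = fmap t F X := by
    refine fun X => LinearMap.congr_fun (f := ((g : MT)ᵀ.mulVecLin).comp ((fmap t F).comp (congRep g)))
      (g := fmap t F) ?_ X
    refine LinearMap.ext fun X => ?_
    rw [Matrix.matrix_eq_sum_single X]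
    simp only [map_sum]
    refine Finset.sum_congr rfl fun x _ => Finset.sum_congr rfl fun y _ => ?_
    rw [show Matrix.single x y (X x y) = X x y • Matrix.single x y (1 : F) by simp, map_smul, map_smul]
    congr 1
    funext z
    rw [fmap_single, ← h x y z]
    simp only [LinearMap.comp_apply, Matrix.mulVecLin_apply, congRep_apply]
    rw [single_eq_single_vecMulVec_single, mul_vecMulVec, vecMulVec_mul, Matrix.vecMul_transpose,
      Matrix.mulVec_single_one, Matrix.mulVec_single_one]
    simp only [Matrix.mulVec, dotProduct, Matrix.transpose_apply, fmap_apply, vecMulVec_apply, Matrix.col_apply,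
      Finset.mul_sum]
    rw [Finset.sum_comm]
    refine Finset.sum_congr rfl fun a _ => ?_
    rw [Finset.sum_comm]
    exact Finset.sum_congr rfl fun b _ => Finset.sum_congr rfl fun c _ => by ring
  intro X
  rw [dualRep_apply, ← h' X, Matrix.mulVec_mulVec, ← Matrix.transpose_mul, Units.mul_inv,
    Matrix.transpose_one, Matrix.one_mulVec]

theorem fInv_mul {g h : GL (Fin t → Fin 3) F} (hg : FInv g) (hh : FInv h) : FInv (g * h) := fun X => by
  rw [map_mul, map_mul, Module.End.mul_apply, Module.End.mul_apply, hg, hh]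

theorem fInv_perm (σ : Equiv.Perm (Fin t)) : FInv (permGL 3 F σ) := by
  refine fInv_of_key fun x y z => ?_
  have hs : ∀ (v : Fin t → Fin 3) (f : (Fin t → Fin 3) → F),
      ∑ a, (permGL 3 F σ : MT) a v * f a = f (v ∘ σ.symm) := fun v f => by
    rw [Finset.sum_eq_single (v ∘ σ.symm)]
    · show permMat 3 F σ _ _ * _ = _
      simp [permMat, Function.comp_assoc]
    · intro a _ ha
      have : v ≠ a ∘ σ := fun h => ha (by simp [h, Function.comp_assoc])
      show permMat 3 F σ _ _ * _ = _
      simp [permMat, this]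
    · simp
  rw [hs, hs, hs]
  exact Fintype.prod_equiv σ.symm _ _ fun i => rfl

theorem fInv_pure {A : Fin t → GL (Fin 3) F} (hA : ∀ i, (A i : M3).det = 1) : FInv (pureGL A) := by
  refine fInv_of_key fun x y z => ?_
  show ∑ a : Fin t → Fin 3, (∏ i, (A i : M3) (a i) (x i)) * ∑ b : Fin t → Fin 3, (∏ i, (A i : M3) (b i) (y i)) *
    ∑ c : Fin t → Fin 3, (∏ i, (A i : M3) (c i) (z i)) * ∏ i, eps3 F (a i) (b i) (c i) = _
  have e1 : ∀ a b : Fin t → Fin 3, ∑ c : Fin t → Fin 3, (∏ i, (A i : M3) (c i) (z i)) * ∏ i, eps3 F (a i) (b i) (c i) =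
      ∏ i, ∑ c, (A i : M3) c (z i) * eps3 F (a i) (b i) c := fun a b => by
    simp only [← Finset.prod_mul_distrib]
    exact (Fintype.prod_sum fun i c => (A i : M3) c (z i) * eps3 F (a i) (b i) c).symm
  have e2 : ∀ a : Fin t → Fin 3, ∑ b : Fin t → Fin 3, (∏ i, (A i : M3) (b i) (y i)) *
      ∏ i, ∑ c, (A i : M3) c (z i) * eps3 F (a i) (b i) c =
      ∏ i, ∑ b, (A i : M3) b (y i) * ∑ c, (A i : M3) c (z i) * eps3 F (a i) b c := fun a => by
    simp only [← Finset.prod_mul_distrib]
    exact (Fintype.prod_sum fun i b => (A i : M3) b (y i) * ∑ c, (A i : M3) c (z i) * eps3 F (a i) b c).symm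
  rw [Finset.sum_congr rfl fun (a : Fin t → Fin 3) _ => show _ =
      ∏ i, (A i : M3) (a i) (x i) * ∑ b, (A i : M3) b (y i) * ∑ c, (A i : M3) c (z i) * eps3 F (a i) b c by
    rw [Finset.sum_congr rfl fun b _ => by rw [e1 a b], e2 a, ← Finset.prod_mul_distrib]]
  refine (Fintype.prod_sum fun i a => (A i : M3) a (x i) *
    ∑ b, (A i : M3) b (y i) * ∑ c, (A i : M3) c (z i) * eps3 F a b c).symm.trans ?_
  exact Finset.prod_congr rfl fun i _ => by rw [eps3_det, hA, one_mul]

/-- The stabiliser of the form in the Lie algebra. -/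
noncomputable def Der (t : ℕ) (F : Type*) [Field F] :
    Submodule F (Matrix (Fin t → Fin 3) (Fin t → Fin 3) F) where
  carrier := {D | ∀ Y, fmap t F (D * Y + Y * Dᵀ) + Dᵀ *ᵥ fmap t F Y = 0}
  zero_mem' := fun Y => by simp
  add_mem' := fun {A B} hA hB Y => by
    have e : (A + B) * Y + Y * (A + B)ᵀ = (A * Y + Y * Aᵀ) + (B * Y + Y * Bᵀ) := by
      rw [Matrix.transpose_add, add_mul, mul_add]; abel
    rw [e, map_add, Matrix.transpose_add, Matrix.add_mulVec, add_add_add_comm, hA Y, hB Y, add_zero]
  smul_mem' := fun c A hA Y => by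
    rw [Matrix.transpose_smul, Matrix.smul_mul, Matrix.mul_smul, ← smul_add, map_smul, Matrix.smul_mulVec,
      ← smul_add, hA Y, smul_zero]

theorem Ad_mem_Der {g : GL (Fin t → Fin 3) F} (hg : FInv g) {D : MT} (hD : D ∈ Der t F) :
    Ad g D ∈ Der t F := by
  intro Y
  have hY : Y = congRep g (congRep g⁻¹ Y) := (rep_cancel g Y).symm
  generalize congRep g⁻¹ Y = Y' at hY
  subst hY
  have e : Ad g D * congRep g Y' + congRep g Y' * (Ad g D)ᵀ = congRep g (D * Y' + Y' * Dᵀ) := by
    simp only [congRep_apply, Ad_apply, Matrix.transpose_mul, mul_add, add_mul, mul_assoc,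
      Units.inv_mul_cancel_left]
    congr 1
    rw [← mul_assoc (g : MT)ᵀ, ← Matrix.transpose_mul, Units.inv_mul, Matrix.transpose_one, one_mul]
  rw [e, hg, hg, dualRep_apply, dualRep_apply, Ad_apply, Matrix.transpose_mul, Matrix.transpose_mul,
    Matrix.mulVec_mulVec, mul_assoc, mul_assoc, ← Matrix.transpose_mul ((g⁻¹ : GL (Fin t → Fin 3) F) : MT) (g : MT),
    Units.inv_mul, Matrix.transpose_one, mul_one, ← Matrix.mulVec_mulVec, ← Matrix.mulVec_add, hD Y',
    Matrix.mulVec_zero]
where
  rep_cancel (g : GL (Fin t → Fin 3) F) (Y : MT) : congRep g (congRep g⁻¹ Y) = Y := by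
    rw [← Module.End.mul_apply, ← map_mul, mul_inv_cancel, map_one, Module.End.one_apply]

/-- The defining equation of the stabiliser, entrywise. -/
theorem mem_Der_iff {D : MT} : D ∈ Der t F ↔ ∀ x y z : Fin t → Fin 3,
    ∑ a, D a x * Tt F a y z + ∑ a, D a y * Tt F x a z + ∑ a, D a z * Tt F x y a = 0 := by
  have key : ∀ x y z : Fin t → Fin 3,
      (fmap t F (D * Matrix.single x y 1 + Matrix.single x y 1 * Dᵀ) + Dᵀ *ᵥ fmap t F (Matrix.single x y 1)) z =
        ∑ a, D a x * Tt F a y z + ∑ a, D a y * Tt F x a z + ∑ a, D a z * Tt F x y a := by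
    intro x y z
    rw [Pi.add_apply, map_add, Pi.add_apply]
    congr 1
    · congr 1
      · show ∑ p, ∑ q, (D * Matrix.single x y (1 : F) : MT) p q * Tt F p q z = _
        refine Finset.sum_congr rfl fun p _ => ?_
        rw [Finset.sum_eq_single y] <;> simp +contextual [Matrix.mul_apply, Matrix.single_apply, eq_comm]
      · show ∑ p, ∑ q, (Matrix.single x y (1 : F) * Dᵀ : MT) p q * Tt F p q z = _
        rw [Finset.sum_eq_single x] <;> simp +contextual [Matrix.mul_apply, Matrix.single_apply, eq_comm]
    · show ∑ a, D a z * fmap t F (Matrix.single x y (1 : F)) a = _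
      simp only [fmap_single]
  constructor
  · intro h x y z
    rw [← key, h, Pi.zero_apply]
  · intro h Y
    suffices h' : ((fmap t F).comp (LinearMap.mulLeft F D + LinearMap.mulRight F Dᵀ) +
        Dᵀ.mulVecLin.comp (fmap t F) : MT →ₗ[F] ((Fin t → Fin 3) → F)) = 0 from LinearMap.congr_fun h' Y
    refine LinearMap.ext fun Y => ?_
    rw [LinearMap.zero_apply, Matrix.matrix_eq_sum_single Y]
    simp only [map_sum]
    refine Finset.sum_eq_zero fun x _ => Finset.sum_eq_zero fun y _ => ?_
    rw [show Matrix.single x y (Y x y) = Y x y • Matrix.single x y (1 : F) by simp, map_smul]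
    refine smul_eq_zero_of_right _ ?_
    funext z
    exact (key x y z).trans (h x y z)

theorem fa_mem_Der (i : Fin t) {Z : M3} (hZ : Z.trace = 0) : fa i Z ∈ Der t F := by
  classical
  rw [mem_Der_iff]
  intro x y z
  have hs : ∀ (v : Fin t → Fin 3) (f : (Fin t → Fin 3) → F),
      ∑ a, (fa i Z : MT) a v * f a = ∑ u, Z u (v i) * f (Function.update v i u) := by
    intro v f
    rw [← Finset.sum_subset (Finset.subset_univ (Finset.univ.image fun u => Function.update v i u))]
    · rw [Finset.sum_image]
      · refine Finset.sum_congr rfl fun u _ => ?_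
        rw [fa_apply, if_pos fun j hj => Function.update_of_ne hj .., Function.update_self]
      · intro u _ w _ h
        simpa using congrFun h i
    · intro a _ ha
      rw [fa_apply, if_neg, zero_mul]
      intro h
      refine ha (Finset.mem_image.2 ⟨a i, Finset.mem_univ _, funext fun j => ?_⟩)
      by_cases hj : j = i
      · subst hj; simp
      · simp [hj, h j hj]
  rw [hs, hs, hs, ← Finset.sum_add_distrib, ← Finset.sum_add_distrib]
  set R := ∏ j ∈ Finset.univ.erase i, eps3 F (x j) (y j) (z j) with hR
  have e : ∀ (a b c : Fin t → Fin 3), (∀ j ≠ i, a j = x j ∧ b j = y j ∧ c j = z j) →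
      Tt F a b c = eps3 F (a i) (b i) (c i) * R := fun a b c h => by
    rw [Tt, ← Finset.mul_prod_erase _ _ (Finset.mem_univ i), hR]
    congr 1
    refine Finset.prod_congr rfl fun j hj => ?_
    obtain ⟨h1, h2, h3⟩ := h j (Finset.mem_erase.1 hj).1
    rw [h1, h2, h3]
  have e' : ∀ u : Fin 3, Z u (x i) * Tt F (Function.update x i u) y z +
      Z u (y i) * Tt F x (Function.update y i u) z + Z u (z i) * Tt F x y (Function.update z i u) =
      (Z u (x i) * eps3 F u (y i) (z i) + Z u (y i) * eps3 F (x i) u (z i) +
        Z u (z i) * eps3 F (x i) (y i) u) * R := fun u => by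
    rw [e (Function.update x i u) y z (fun j hj => by simp [hj]),
      e x (Function.update y i u) z (fun j hj => by simp [hj]),
      e x y (Function.update z i u) (fun j hj => by simp [hj])]
    simp only [Function.update_self]
    ring
  rw [Finset.sum_congr rfl fun u _ => e' u, ← Finset.sum_mul, eps3_trace, hZ, zero_mul, zero_mul]

/-- Over the field with two elements the stabiliser is the sum of the factor algebras. -/
theorem Der_le_span [Fintype F] (hF : Fintype.card F = 2) (ht : 0 < t) :
    Der t F ≤ Submodule.span F (Set.range fun p : Fin t × M3 => fa p.1 p.2) := by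
  classical
  intro D hD
  rw [mem_Der_iff] at hD
  have hcard : ∀ c : F, c = 0 ∨ c = 1 := fun c => by
    by_contra h
    push Not at h
    have h3 : ({0, 1, c} : Finset F).card ≤ Fintype.card F := Finset.card_le_univ _
    rw [Finset.card_insert_of_notMem (by simp [h.1.symm]), Finset.card_insert_of_notMem (by simp [h.2.symm]),
      Finset.card_singleton, hF] at h3
    omega
  have h2 : ∀ c : F, c + c = 0 := fun c => by
    rcases hcard c with rfl | rfl
    · simp
    · rcases hcard (1 + 1) with h | h
      · exact h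
      · simp at h
  have heq : ∀ c d : F, c + d = 0 → c = d := fun c d h => by linear_combination h - h2 d
  have hT1 : ∀ {a b c : Fin t → Fin 3}, (∀ i, a i ≠ b i ∧ a i ≠ c i ∧ b i ≠ c i) → Tt F a b c = 1 := fun h => by
    refine Finset.prod_eq_one fun i _ => ?_
    rcases eps3_ne (F := F) (h i) with h' | h'
    · exact h'
    · rw [h']; exact (heq 1 (-1) (by simp)).symm
  have hT0 : ∀ {a b c : Fin t → Fin 3} (i : Fin t), (a i = b i ∨ a i = c i ∨ b i = c i) → Tt F a b c = 0 :=
    fun i h => Finset.prod_eq_zero (Finset.mem_univ i) (eps3_eq h)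
  have ho : ∀ u v : Fin 3, u ≠ v → u ≠ -(u + v) ∧ v ≠ -(u + v) := by decide
  have ho' : ∀ u v w : Fin 3, u ≠ v → w ≠ u → w ≠ v → w = -(u + v) := by decide
  have hav : ∀ u v : Fin 3, ∃ w, w ≠ u ∧ w ≠ v := by decide
  have hfst : ∀ (a b c w : Fin t → Fin 3), (∀ i, w i ≠ b i ∧ w i ≠ c i ∧ b i ≠ c i) →
      ∑ u, D u a * Tt F u b c = D w a := by
    intro a b c w hw
    rw [Finset.sum_eq_single w]
    · rw [hT1 hw, mul_one]
    · intro u _ hu
      obtain ⟨i, hi⟩ := Function.ne_iff.1 hu
      rw [hT0 i ?_, mul_zero]
      by_contra h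
      push Not at h
      exact hi (((ho' _ _ _ (hw i).2.2 h.1 h.2.1)).trans (ho' _ _ _ (hw i).2.2 (hw i).1 (hw i).2.1).symm)
    · simp
  have hzero : ∀ (w a : Fin t → Fin 3) (i j : Fin t), i ≠ j → w i ≠ a i → w j ≠ a j → D w a = 0 := by
    intro w a i j hij hi hj
    choose v hv1 hv2 using fun k => hav (w k) (w k)
    let b : Fin t → Fin 3 := fun k => if k = i then a i else if k = j then -(w j + a j) else v k
    let c : Fin t → Fin 3 := fun k => if k = i then -(w i + a i) else if k = j then a j else -(w k + v k)
    have hwbc : ∀ k, w k ≠ b k ∧ w k ≠ c k ∧ b k ≠ c k := fun k => by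
      by_cases hki : k = i
      · subst hki; simp [-neg_add_rev, b, c, hi, (ho _ _ hi).1, (ho _ _ hi).2]
      by_cases hkj : k = j
      · subst hkj; simp [-neg_add_rev, b, c, hki, hj, (ho _ _ hj).1, ((ho _ _ hj).2).symm]
      have hk := (hv1 k).symm
      simp [-neg_add_rev, b, c, hki, hkj, hk, (ho _ _ hk).1, (ho _ _ hk).2]
    have h := hD a b c
    rw [hfst a b c w hwbc, Finset.sum_eq_zero fun u _ => by rw [hT0 j (Or.inr (Or.inl (by simp [-neg_add_rev, c, hij.symm]))), mul_zero],
      Finset.sum_eq_zero fun u _ => by rw [hT0 i (Or.inl (by simp [b])), mul_zero], add_zero, add_zero] at h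
    exact h
  have hsnd : ∀ (a b c w : Fin t → Fin 3), (∀ i, a i ≠ w i ∧ a i ≠ c i ∧ w i ≠ c i) →
      ∑ u, D u b * Tt F a u c = D w b := by
    intro a b c w hw
    rw [Finset.sum_eq_single w]
    · rw [hT1 hw, mul_one]
    · intro u _ hu
      obtain ⟨i, hi⟩ := Function.ne_iff.1 hu
      rw [hT0 i ?_, mul_zero]
      by_contra h
      push Not at h
      exact hi (((ho' _ _ _ (hw i).2.1 h.1.symm h.2.2)).trans
        (ho' _ _ _ (hw i).2.1 (hw i).1.symm (hw i).2.2).symm)
    · simp
  have hthd : ∀ (a b c w : Fin t → Fin 3), (∀ i, a i ≠ b i ∧ a i ≠ w i ∧ b i ≠ w i) →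
      ∑ u, D u c * Tt F a b u = D w c := by
    intro a b c w hw
    rw [Finset.sum_eq_single w]
    · rw [hT1 hw, mul_one]
    · intro u _ hu
      obtain ⟨i, hi⟩ := Function.ne_iff.1 hu
      rw [hT0 i ?_, mul_zero]
      by_contra h
      push Not at h
      exact hi (((ho' _ _ _ (hw i).1 h.2.1.symm h.2.2.symm)).trans
        (ho' _ _ _ (hw i).1 (hw i).2.1.symm (hw i).2.2.symm).symm)
    · simp
  have hone : ∀ (i : Fin t) (p q : Fin 3), p ≠ q → ∀ v v' : Fin t → Fin 3,
      D (Function.update v i p) (Function.update v i q) = D (Function.update v' i p) (Function.update v' i q) := by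
    intro i p q hpq
    have step : ∀ v b : Fin t → Fin 3, (∀ k, k ≠ i → b k ≠ v k) →
        D (Function.update v i p) (Function.update v i q) = D (Function.update b i p) (Function.update b i q) := by
      intro v b hb
      let c : Fin t → Fin 3 := fun k => if k = i then -(p + q) else -(v k + b k)
      have h := hD (Function.update v i q) (Function.update b i q) c
      rw [hfst _ _ _ (Function.update v i p) (fun k => ?_), hsnd _ _ _ (Function.update b i p) (fun k => ?_),
        Finset.sum_eq_zero fun u _ => by rw [hT0 i (Or.inl (by simp)), mul_zero], add_zero] at h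
      · exact heq _ _ h
      · by_cases hk : k = i
        · subst hk; simp [-neg_add_rev, c, hpq.symm, (ho _ _ hpq).1, (ho _ _ hpq).2]
        · have hk' := (hb k hk).symm
          simp [-neg_add_rev, c, hk, hk', (ho _ _ hk').1, (ho _ _ hk').2]
      · by_cases hk : k = i
        · subst hk; simp [-neg_add_rev, c, hpq, (ho _ _ hpq).1, (ho _ _ hpq).2]
        · have hk' := (hb k hk).symm
          simp [-neg_add_rev, c, hk, hk', (ho _ _ hk').1, (ho _ _ hk').2]
    intro v v'
    choose b hb1 hb2 using fun k => hav (v k) (v' k)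
    exact (step v b fun k _ => hb1 k).trans (step v' b fun k _ => hb2 k).symm
  let d : (Fin t → Fin 3) → F := fun v => D v v
  have hdelta : ∀ (i : Fin t) (p : Fin 3) (v v' : Fin t → Fin 3),
      d (Function.update v i p) + d (Function.update v i 0) = d (Function.update v' i p) + d (Function.update v' i 0) := by
    intro i p
    by_cases hp : p = 0
    · intro v v'; subst hp; rw [h2, h2]
    have step : ∀ v b : Fin t → Fin 3, (∀ k, k ≠ i → b k ≠ v k) →
        d (Function.update v i p) + d (Function.update v i 0) =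
          d (Function.update b i p) + d (Function.update b i 0) := by
      intro v b hb
      let c : Fin t → Fin 3 := fun k => if k = i then -(p + 0) else -(v k + b k)
      have hsum : ∀ p q : Fin 3, p ≠ q → c i = -(p + q) →
          d (Function.update v i p) + d (Function.update b i q) + d c = 0 := fun p q hpq hci => by
        have hd : ∀ k, Function.update v i p k ≠ Function.update b i q k ∧ Function.update v i p k ≠ c k ∧
            Function.update b i q k ≠ c k := fun k => by
          by_cases hk : k = i
          · subst hk; simp [-neg_add_rev, hci, hpq, (ho _ _ hpq).1, (ho _ _ hpq).2]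
          · have hk' := (hb k hk).symm
            simp [-neg_add_rev, c, hk, hk', (ho _ _ hk').1, (ho _ _ hk').2]
        have h := hD (Function.update v i p) (Function.update b i q) c
        rwa [hfst _ _ _ _ hd, hsnd _ _ _ _ hd, hthd _ _ _ _ hd] at h
      have h1 := hsum p 0 hp (by simp [c])
      have h3 := hsum 0 p (Ne.symm hp) (by simp [c])
      linear_combination h1 - h3 + h2 (d (Function.update v i 0)) - h2 (d (Function.update b i 0))
    intro v v'
    choose b hb1 hb2 using fun k => hav (v k) (v' k)
    exact (step v b fun k _ => hb1 k).trans (step v' b fun k _ => hb2 k).symm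
  let o : Fin t → Fin 3 := fun _ => 0
  let G : Fin t → M3 := fun i => Matrix.of fun p q =>
    if p = q then d (Function.update o i p) + d o else D (Function.update o i p) (Function.update o i q)
  have hdiag : ∀ S : Finset (Fin t), ∀ v, (∀ k ∉ S, v k = 0) → d v = d o + ∑ i ∈ S, G i (v i) (v i) := by
    intro S
    induction S using Finset.induction_on with
    | empty =>
      intro v hv
      rw [show v = o from funext fun k => hv k (by simp)]
      simp
    | insert k S hk ih =>
      intro v hv
      have h' := ih (Function.update v k 0) (fun l hl => by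
        by_cases hlk : l = k
        · subst hlk; simp
        · simp [hlk, hv l (by simp [hlk, hl])])
      have hd := hdelta k (v k) v o
      rw [Function.update_eq_self, show Function.update o k 0 = o from Function.update_eq_self k o] at hd
      rw [Finset.sum_insert hk]
      rw [Finset.sum_congr rfl (g := fun l => G l (v l) (v l)) fun l hl => by
        rw [Function.update_of_ne (ne_of_mem_of_not_mem hl hk)]] at h'
      simp only [G, Matrix.of_apply, if_pos] at h' ⊢
      linear_combination hd + h' - h2 (d (Function.update v k 0))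
  have hD' : D = d o • 1 + ∑ i, fa i (G i) := by
    ext w a
    rw [Matrix.add_apply, Matrix.smul_apply, Matrix.sum_apply, smul_eq_mul]
    by_cases hwa : w = a
    · subst hwa
      rw [Matrix.one_apply_eq, mul_one, Finset.sum_congr rfl fun i _ => show (fa i (G i) : MT) w w = G i (w i) (w i) by
        rw [fa_apply, if_pos fun _ _ => rfl]]
      exact hdiag Finset.univ w (fun k hk => absurd (Finset.mem_univ k) hk)
    rw [Matrix.one_apply_ne hwa, mul_zero, zero_add]
    obtain ⟨i, hi⟩ := Function.ne_iff.1 hwa
    by_cases hone' : ∀ j ≠ i, w j = a j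
    · rw [Finset.sum_eq_single i]
      · rw [fa_apply, if_pos hone']
        simp only [G, Matrix.of_apply, if_neg hi]
        have h := hone i (w i) (a i) hi w o
        rw [Function.update_eq_self, show Function.update w i (a i) = a from funext fun j => by
          by_cases hj : j = i
          · subst hj; simp
          · simp [hj, hone' j hj]] at h
        exact h
      · intro j _ hj
        rw [fa_apply, if_neg]
        exact fun h => hi (h i hj.symm)
      · simp
    · push Not at hone'
      obtain ⟨j, hji, hj⟩ := hone'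
      rw [hzero w a i j hji.symm hi hj, Finset.sum_eq_zero fun k _ => ?_]
      rw [fa_apply, if_neg]
      intro h
      by_cases hk : k = i
      · exact hj (h j (hk ▸ hji))
      · exact hi (h i (Ne.symm hk))
  rw [hD']
  refine add_mem (Submodule.smul_mem _ _ ?_) (Submodule.sum_mem _ fun i _ => Submodule.subset_span ⟨(i, G i), rfl⟩)
  exact Submodule.subset_span ⟨(⟨0, ht⟩, 1), map_one _⟩

end CfsgLib.MaxSub.TensorPow
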