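import Cfsg.Agent.Lib.MaxSub.TensorPow.Isolate
import Cfsg.Agent.Lib.MaxSub.TensorPow.Op
import Cfsg.Agent.Lib.MaxSub.TensorPow.Lie
import Cfsg.Agent.Lib.MaxSub.TensorPow.Trace
import Cfsg.Agent.Lib.MaxSub.TensorPow.Tri

/-!
A group containing the special linear groups of all factors, with no non-scalar matrix over a root position,
lies in the wreath product.
-/

set_option autoImplicit false
set_option maxHeartbeats 1000000
set_option linter.unusedSectionVars false

namespace CfsgLib.MaxSub.TensorPow

open Matrix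
open CfsgLib.Aschbacher

variable {F : Type*} [Field F] {m t : ℕ}

local notation "Mm" => Matrix (Fin m) (Fin m) F
local notation "MT" => Matrix (Fin t → Fin m) (Fin t → Fin m) F

theorem isWr_of_mem_std {g : GL (Fin t → Fin m) F}
    (h : g ∈ Cfsg.Geo.tensorWreathStandard m t F) : IsWr g := mem_std_iff.1 h

/-- The elements of a linear family of root elements with one centre. -/
structure RootFam (i : Fin t) (a : Fin m) (K : Type*) [AddCommGroup K] (F : Type*) [Field F] where
  φ : K →+ (Fin m → F)
  perp : ∀ s, φ s a = 0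
  inj : ∀ s, φ s = 0 → s = 0

namespace RootFam

variable {i : Fin t} {a : Fin m} {K : Type*} [AddCommGroup K] (P : RootFam i a K F)

theorem dot (s : K) : P.φ s ⬝ᵥ (Pi.single a (1 : F)) = 0 := by simp [P.perp s]

/-- The root element. -/
noncomputable def mem (s : K) : GL (Fin t → Fin m) F :=
  fu i (one_add (vecMulVec (Pi.single a 1) (P.φ s)) (vmv_sq (P.dot s)))

theorem mem_val (s : K) : (P.mem s : MT) = 1 + fa i (vecMulVec (Pi.single a 1) (P.φ s)) := by
  rw [mem, fu_val, one_add_val, map_add, map_one]

theorem mem_zero : P.mem 0 = 1 := by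
  refine Units.ext ?_
  rw [mem_val, map_zero]
  simp

theorem mem_add (s s' : K) : P.mem (s + s') = P.mem s * P.mem s' := by
  refine Units.ext ?_
  rw [Units.val_mul, mem_val, mem_val, mem_val, map_add, vecMulVec_add, map_add, add_mul, mul_add, mul_add,
    one_mul, one_mul, mul_one, ← map_mul, vecMulVec_mul_vecMulVec, P.dot s, zero_smul]
  simp
  abel

variable [NeZero m] [Fintype F] {G : Subgroup (GL (Fin t → Fin m) F)} {J : Finset (Fin t)}

theorem mem_GJ (hG : Roots G) (s : K) : P.mem s ∈ GJ G J :=
  fu_mem_GJ hG i (by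
    rw [one_add_val, vecMulVec_eq Unit, Matrix.det_one_add_replicateCol_mul_replicateRow, P.dot s, add_zero])

theorem mem_std (s : K) : P.mem s ∈ Cfsg.Geo.tensorWreathStandard m t F := mem_std_iff.2 (isWr_fu i _)

theorem isolated (hm : 3 ≤ m) (ht : 2 ≤ t) (hG : Roots G) (hS : Scal G) (hP : Perms G ∨ J.card ≤ 2)
    (hrec : ∀ J' : Finset (Fin t), J'.card < J.card → ∀ g ∈ GJ G J', IsWr g) (hi : i ∈ J) :
    ∀ s, s ≠ 0 → ∀ g ∈ GJ G J, g⁻¹ * P.mem s * g ∈ Cfsg.Geo.tensorWreathStandard m t F →
      g ∈ Cfsg.Geo.tensorWreathStandard m t F := fun s hs g hg h =>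
  mem_std_iff.2 (isWr_of_conj hm ht hG hS hP hrec hg hi (by simp) (fun h0 => hs (P.inj s h0)) (P.dot s)
    (P.mem_val s) (isWr_of_mem_std h))

theorem sum_apply [Fintype K] (hcard : (Fintype.card K : F) = 0) (hsum : ∑ s, P.φ s = 0) (Y : MT)
    {z w : Fin t → Fin m} (hz : z i ≠ a) :
    (∑ s, AdRep (P.mem s) Y) z w = 0 := by
  have hsq : ∀ s, fa i (vecMulVec (Pi.single a 1) (P.φ s)) * fa i (vecMulVec (Pi.single a 1) (P.φ s)) = (0 : MT) :=
    fun s => fa_sq i (vmv_sq (P.dot s))
  have e : ∀ s, AdRep (P.mem s) Y = Y + (fa i (vecMulVec (Pi.single a 1) (P.φ s)) * Y -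
      Y * fa i (vecMulVec (Pi.single a 1) (P.φ s)) -
      fa i (vecMulVec (Pi.single a 1) (P.φ s)) * Y * fa i (vecMulVec (Pi.single a 1) (P.φ s))) := fun s => by
    rw [AdRep_apply, show P.mem s = one_add _ (hsq s) from Units.ext (P.mem_val s), Ad_one_add]
  have hrow : ∀ (φ : Fin m → F) (Z : MT), (fa i (vecMulVec (Pi.single a 1) φ) * Z : MT) z w = 0 := fun φ Z => by
    rw [Matrix.mul_apply]
    refine Finset.sum_eq_zero fun y _ => ?_
    rw [fa_apply]
    simp [vecMulVec_apply, hz]
  simp only [e, Matrix.sum_apply, Matrix.add_apply, Matrix.sub_apply, mul_assoc, hrow, sub_zero, zero_sub]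
  rw [Finset.sum_add_distrib, Finset.sum_const, Finset.card_univ, nsmul_eq_mul, hcard, zero_mul, zero_add,
    Finset.sum_neg_distrib, ← Matrix.sum_apply, ← Finset.mul_sum, ← map_sum]
  have : ∑ s, vecMulVec (Pi.single a (1 : F)) (P.φ s) = (0 : Mm) := by
    ext p q
    simp only [Matrix.sum_apply, vecMulVec_apply, ← Finset.mul_sum]
    rw [← Finset.sum_apply q Finset.univ (fun s => P.φ s), hsum]
    simp
  rw [this, map_zero, mul_zero, Matrix.zero_apply, neg_zero]

theorem fix_single {x y : Fin t → Fin m} (hx : ∀ s, P.φ s (x i) = 0) (hy : y i ≠ a) (s : K) :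
    AdRep (P.mem s) (Matrix.single x y (1 : F)) = Matrix.single x y 1 := by
  have hsq : fa i (vecMulVec (Pi.single a 1) (P.φ s)) * fa i (vecMulVec (Pi.single a 1) (P.φ s)) = (0 : MT) :=
    fa_sq i (vmv_sq (P.dot s))
  rw [AdRep_apply, show P.mem s = one_add _ hsq from Units.ext (P.mem_val s), Ad_one_add]
  have h1 : fa i (vecMulVec (Pi.single a (1 : F)) (P.φ s)) * Matrix.single x y 1 = (0 : MT) := by
    rw [single_eq_pureMat, fa_mul_pure, show vecMulVec (Pi.single a (1 : F)) (P.φ s) * Matrix.single (x i) (y i) 1 = 0 by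
      rw [single_eq_single_vecMulVec_single, vecMulVec_mul_vecMulVec, dotProduct_single_one, hx]; simp,
      pure_update_zero]
  have h2 : Matrix.single x y (1 : F) * fa i (vecMulVec (Pi.single a (1 : F)) (P.φ s)) = (0 : MT) := by
    rw [single_eq_pureMat, pure_mul_fa, show Matrix.single (x i) (y i) (1 : F) * vecMulVec (Pi.single a 1) (P.φ s) = 0 by
      rw [single_eq_single_vecMulVec_single, vecMulVec_mul_vecMulVec, single_one_dotProduct]
      simp [hy],
      pure_update_zero]
  rw [h1, h2, zero_mul, sub_zero, sub_zero, add_zero]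

end RootFam

theorem sum_field_eq_zero [Fintype F] (h : 2 < Fintype.card F) : ∑ c : F, c = 0 := by
  classical
  obtain ⟨d, hd0, hd1⟩ : ∃ d : F, d ≠ 0 ∧ d ≠ 1 := by
    by_contra hc
    push Not at hc
    have : Fintype.card F ≤ 2 := by
      rw [← Finset.card_univ]
      exact (Finset.card_le_card (t := ({0, 1} : Finset F)) fun x _ => by
        by_cases hx : x = 0
        · simp [hx]
        · simp [hc x hx]).trans Finset.card_le_two
    omega
  have e : d * ∑ c : F, c = ∑ c : F, c := by
    rw [Finset.mul_sum]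
    exact Fintype.sum_equiv (Equiv.mulLeft₀ d hd0) _ _ fun c => rfl
  by_contra hne
  exact hd1 (mul_right_cancel₀ hne (e.trans (one_mul _).symm))

/-- One step of the induction, when the field is not too small or the factors are not too small. -/
theorem step_lie [Fintype F] [NeZero m] {G : Subgroup (GL (Fin t → Fin m) F)} {J : Finset (Fin t)}
    (hm : 3 ≤ m) (ht : 2 ≤ t) (hG : Roots G) (hS : Scal G) (hP : Perms G ∨ J.card ≤ 2)
    (hrec : ∀ J' : Finset (Fin t), J'.card < J.card → ∀ g ∈ GJ G J', IsWr g) (hJ : J.Nonempty)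
    (hbig : 2 < Fintype.card F ∨ 4 ≤ m) {g : GL (Fin t → Fin m) F} (hg : g ∈ GJ G J) : IsWr g := by
  classical
  obtain ⟨i, hi⟩ := hJ
  set H := Cfsg.Geo.tensorWreathStandard m t F with hH
  have hcomm : CommH AdRep AdRep (GJ G J) H (lieOp m t F) := fun h _ hh X => by
    rw [AdRep_apply, AdRep_apply, equivariant_lieOp h (isWr_of_mem_std hh)]
  have hq : (Fintype.card F : F) = 0 := FiniteField.cast_card_eq_zero F
  have hentry : ∀ x y z w : Fin t → Fin m,
      (avg AdRep AdRep (GJ G J) H (lieOp m t F) (Matrix.single x y 1)) z w = lieOp m t F (Matrix.single x y 1) z w := by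
    intro x y z w
    obtain ⟨a, hay, haz⟩ := third hm (y i) (z i)
    have fin : ∀ {K : Type _} [AddCommGroup K] [Fintype K] (P : RootFam i a K F),
        (Fintype.card K : F) = 0 → ∑ s, P.φ s = 0 → (∀ s, P.φ s (x i) = 0) →
        (avg AdRep AdRep (GJ G J) H (lieOp m t F) (Matrix.single x y 1)) z w =
          lieOp m t F (Matrix.single x y 1) z w := by
      intro K _ _ P hc hs hx
      obtain ⟨Y, hY⟩ := avg_sub_mem hcomm P.mem P.mem_zero P.mem_add (fun s => P.mem_GJ hG s) P.mem_std
        (P.isolated hm ht hG hS hP hrec hi) (P.fix_single hx hay)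
      have := congrFun (congrFun hY z) w
      rw [P.sum_apply hc hs Y haz, Matrix.sub_apply, sub_eq_zero] at this
      exact this
    rcases hbig with hbig | hm4
    · obtain ⟨b, hbx, hba⟩ := third hm (x i) a
      let P : RootFam i a F F :=
        { φ := AddMonoidHom.single (fun _ : Fin m => F) b
          perp := fun s => Pi.single_eq_of_ne hba _
          inj := fun s h => by simpa using congrFun h b }
      refine fin P hq ?_ fun s => Pi.single_eq_of_ne hbx _
      funext q
      rw [Finset.sum_apply]
      by_cases hqb : q = b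
      · subst hqb
        simpa [P] using sum_field_eq_zero hbig
      · simp [P, hqb]
    · obtain ⟨b, -, hb⟩ := Finset.exists_mem_notMem_of_card_lt_card
        (s := ({x i, a} : Finset (Fin m))) (t := Finset.univ)
        (by have := Finset.card_le_two (a := x i) (b := a); simp; omega)
      obtain ⟨c, -, hc⟩ := Finset.exists_mem_notMem_of_card_lt_card
        (s := ({x i, a, b} : Finset (Fin m))) (t := Finset.univ)
        (by have := Finset.card_le_three (a := x i) (b := a) (c := b); simp; omega)
      simp only [Finset.mem_insert, Finset.mem_singleton, not_or] at hb hc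
      let P : RootFam i a (F × F) F :=
        { φ := (AddMonoidHom.single (fun _ : Fin m => F) b).comp (AddMonoidHom.fst F F) +
            (AddMonoidHom.single (fun _ : Fin m => F) c).comp (AddMonoidHom.snd F F)
          perp := fun s => by simp [Ne.symm hb.2, Ne.symm hc.2.1]
          inj := fun s h => by
            have h1 := congrFun h b
            have h2 := congrFun h c
            simp [hc.2.2, Ne.symm hc.2.2] at h1 h2
            exact Prod.ext h1 h2 }
      refine fin P (by rw [Fintype.card_prod, Nat.cast_mul, hq, zero_mul]) ?_ fun s => by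
        simp [P, Ne.symm hb.1, Ne.symm hc.1]
      funext q
      rw [Finset.sum_apply, Fintype.sum_prod_type]
      simp [P, Finset.sum_add_distrib, hq]
  have hall : avg AdRep AdRep (GJ G J) H (lieOp m t F) = lieOp m t F := by
    refine LinearMap.ext fun X => ?_
    rw [Matrix.matrix_eq_sum_single X]
    simp only [map_sum]
    refine Finset.sum_congr rfl fun x _ => Finset.sum_congr rfl fun y _ => ?_
    rw [show Matrix.single x y (X x y) = X x y • Matrix.single x y (1 : F) by simp, map_smul, map_smul]
    congr 1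
    ext z w
    exact hentry x y z w
  refine wr_of_preserves hm (by omega) (LinearMap.range (lieOp m t F))
    (fun k Z hZ => lieOp_fa k Z hZ) (by rintro _ ⟨X, rfl⟩; exact lieOp_mem X) ?_
  rintro _ ⟨X, rfl⟩
  refine ⟨Ad g X, ?_⟩
  have := avg_equivariant hcomm hg X
  rwa [hall, AdRep_apply, AdRep_apply] at this

/-- One step of the induction, for three-dimensional factors over the field with two elements. -/
theorem step_tri [Fintype F] {G : Subgroup (GL (Fin t → Fin 3) F)} {J : Finset (Fin t)}
    (ht : 2 ≤ t) (hG : Roots G) (hS : Scal G) (hP : Perms G ∨ J.card ≤ 2)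
    (hrec : ∀ J' : Finset (Fin t), J'.card < J.card → ∀ g ∈ GJ G J', IsWr g) (hJ : J.Nonempty)
    (hF : Fintype.card F = 2) {g : GL (Fin t → Fin 3) F} (hg : g ∈ GJ G J) : IsWr g := by
  classical
  obtain ⟨i, hi⟩ := hJ
  set H := Cfsg.Geo.tensorWreathStandard 3 t F with hH
  have hq : (Fintype.card F : F) = 0 := FiniteField.cast_card_eq_zero F
  have hone : ∀ c : F, c ≠ 0 → c = 1 := fun c hc => by
    by_contra h
    have h3 : ({0, 1, c} : Finset F).card ≤ Fintype.card F := Finset.card_le_univ _
    rw [Finset.card_insert_of_notMem (by simp [hc.symm]), Finset.card_insert_of_notMem (by simp [Ne.symm h]),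
      Finset.card_singleton, hF] at h3
    omega
  have hcomm : CommH congRep dualRep (GJ G J) H (fmap t F) := fun h _ hh => by
    obtain ⟨A, σ, rfl⟩ := isWr_of_mem_std hh
    exact fInv_mul (fInv_pure fun k => hone _ ((Matrix.isUnit_iff_isUnit_det _).1 (A k).isUnit).ne_zero)
      (fInv_perm σ)
  have hall : avg congRep dualRep (GJ G J) H (fmap t F) = fmap t F := by
    refine LinearMap.ext fun X => ?_
    rw [Matrix.matrix_eq_sum_single X]
    simp only [map_sum]
    refine Finset.sum_congr rfl fun x _ => Finset.sum_congr rfl fun y _ => ?_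
    rw [show Matrix.single x y (X x y) = X x y • Matrix.single x y (1 : F) by simp, map_smul, map_smul]
    congr 1
    obtain ⟨c, hcx, hcy⟩ := third (le_refl 3) (x i) (y i)
    let v : F × F → (Fin 3 → F) := fun s => s.1 • Pi.single (c + 1) 1 + s.2 • Pi.single (c + 2) 1
    have hc12 : c + 1 ≠ c ∧ c + 2 ≠ c ∧ c + 1 ≠ c + 2 :=
      (by decide : ∀ c : Fin 3, c + 1 ≠ c ∧ c + 2 ≠ c ∧ c + 1 ≠ c + 2) c
    have hdot : ∀ s, (Pi.single c (1 : F)) ⬝ᵥ v s = 0 := fun s => by simp [v, hc12.1, hc12.2.1, Ne.symm hc12.1, Ne.symm hc12.2.1]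
    let u : F × F → GL (Fin t → Fin 3) F := fun s => fu i (one_add (vecMulVec (v s) (Pi.single c 1)) (vmv_sq (hdot s)))
    have huv : ∀ s, (u s : Matrix (Fin t → Fin 3) (Fin t → Fin 3) F) = 1 + fa i (vecMulVec (v s) (Pi.single c 1)) :=
      fun s => by rw [fu_val, one_add_val, map_add, map_one]
    have hadd : ∀ s s', v (s + s') = v s + v s' := fun s s' => by simp [v, add_smul]; abel
    have hu0 : u 0 = 1 := Units.ext (by rw [huv]; simp [v])
    have humul : ∀ s s', u (s + s') = u s * u s' := fun s s' => Units.ext (by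
      rw [Units.val_mul, huv, huv, huv, hadd, add_vecMulVec, map_add, add_mul, mul_add, mul_add, one_mul,
        one_mul, mul_one, ← map_mul, vecMulVec_mul_vecMulVec, hdot, zero_smul]
      simp
      abel)
    have hinj : ∀ s, v s = 0 → s = 0 := fun s h => by
      have h1 := congrFun h (c + 1)
      have h2 := congrFun h (c + 2)
      simp [v, hc12.2.2, Ne.symm hc12.2.2] at h1 h2
      exact Prod.ext h1 h2
    have hfixes : ∀ s, congRep (u s) (Matrix.single x y (1 : F)) = Matrix.single x y 1 := fun s => by
      have h1 : fa i (vecMulVec (v s) (Pi.single c (1 : F))) * Matrix.single x y 1 =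
          (0 : Matrix (Fin t → Fin 3) (Fin t → Fin 3) F) := by
        rw [single_eq_pureMat, fa_mul_pure,
          show vecMulVec (v s) (Pi.single c (1 : F)) * Matrix.single (x i) (y i) 1 = 0 by
            rw [single_eq_single_vecMulVec_single, vecMulVec_mul_vecMulVec, single_one_dotProduct]
            simp [hcx, Ne.symm hcx],
          pure_update_zero]
      have h2 : fa i (vecMulVec (v s) (Pi.single c (1 : F))) * Matrix.single y x 1 =
          (0 : Matrix (Fin t → Fin 3) (Fin t → Fin 3) F) := by
        rw [single_eq_pureMat, fa_mul_pure,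
          show vecMulVec (v s) (Pi.single c (1 : F)) * Matrix.single (y i) (x i) 1 = 0 by
            rw [single_eq_single_vecMulVec_single, vecMulVec_mul_vecMulVec, single_one_dotProduct]
            simp [hcy, Ne.symm hcy],
          pure_update_zero]
      have h2' := congrArg Matrix.transpose h2
      rw [Matrix.transpose_mul, Matrix.transpose_single, Matrix.transpose_zero] at h2'
      rw [congRep_apply, huv, Matrix.transpose_add, Matrix.transpose_one, add_mul, one_mul, h1, add_zero,
        mul_add, mul_one, h2', add_zero]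
    obtain ⟨Y, hY⟩ := avg_sub_mem hcomm u hu0 humul
      (fun s => fu_mem_GJ hG i (by
        rw [one_add_val, vecMulVec_eq Unit, Matrix.det_one_add_replicateCol_mul_replicateRow, hdot, add_zero]))
      (fun s => mem_std_iff.2 (isWr_fu i _))
      (fun s hs g hg h => mem_std_iff.2 (isWr_of_conj le_rfl ht hG hS hP hrec hg hi
        (fun h0 => hs (hinj s h0)) (by simp) (hdot s) (huv s) (isWr_of_mem_std h))) hfixes
    rw [← sub_eq_zero, hY]
    have hinv : ∀ s, (((u s)⁻¹ : GL (Fin t → Fin 3) F) : Matrix (Fin t → Fin 3) (Fin t → Fin 3) F) =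
        1 + fa i (vecMulVec (v (-s)) (Pi.single c 1)) := fun s => by
      rw [← huv, inv_eq_of_mul_eq_one_right (by rw [← humul, add_neg_cancel, hu0] : u s * u (-s) = 1)]
    have hv0 : ∑ s : F × F, vecMulVec (v (-s)) (Pi.single c (1 : F)) = (0 : Matrix (Fin 3) (Fin 3) F) := by
      rw [Fintype.sum_equiv (Equiv.neg (F × F)) (fun s => vecMulVec (v (-s)) (Pi.single c (1 : F)))
        (fun s => vecMulVec (v s) (Pi.single c (1 : F))) fun s => rfl]
      ext p q
      simp [Matrix.sum_apply, vecMulVec_apply, v, Fintype.sum_prod_type, Finset.sum_add_distrib,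
        ← Finset.sum_mul, add_mul, hq]
    simp only [dualRep_apply, hinv, Matrix.transpose_add, Matrix.transpose_one, Matrix.add_mulVec,
      Matrix.one_mulVec, Finset.sum_add_distrib, Finset.sum_const, Finset.card_univ, Fintype.card_prod]
    rw [← Matrix.sum_mulVec, ← Matrix.transpose_sum, ← map_sum, hv0, map_zero, Matrix.transpose_zero,
      Matrix.zero_mulVec, add_zero, ← Nat.cast_smul_eq_nsmul F, Nat.cast_mul, hq, zero_mul, zero_smul]
  have hinv : ∀ h ∈ GJ G J, FInv h := fun h hh X => by
    have := avg_equivariant hcomm hh X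
    rwa [hall] at this
  exact wr_of_preserves le_rfl (by omega) (Der t F) (fun k Z hZ => fa_mem_Der k hZ)
    (Der_le_span hF (by omega)) fun X hX => Ad_mem_Der (hinv g hg) hX

/-- The induction over the sets of factors. -/
theorem core [Finite F] [NeZero m] {G : Subgroup (GL (Fin t → Fin m) F)} (hm : 3 ≤ m) (ht : 2 ≤ t) (hG : Roots G)
    (hS : Scal G) (hP : Perms G ∨ t ≤ 2) :
    ∀ (J : Finset (Fin t)), ∀ g ∈ GJ G J, IsWr g := by
  classical
  letI := Fintype.ofFinite F
  suffices h : ∀ n, ∀ (J : Finset (Fin t)), J.card = n → ∀ g ∈ GJ G J, IsWr g from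
    fun J => h J.card J rfl
  intro n
  induction n using Nat.strong_induction_on with
  | _ n ih =>
    intro J hJn g hg
    subst hJn
    rcases J.eq_empty_or_nonempty with rfl | hne
    · exact isWr_of_maps (by omega) (by omega) fun k => ⟨k, hg.2 k (Finset.notMem_empty k)⟩
    have hP' : Perms G ∨ J.card ≤ 2 := hP.imp id fun h => (Finset.card_le_univ J).trans (by simpa using h)
    have hrec : ∀ J' : Finset (Fin t), J'.card < J.card → ∀ g ∈ GJ G J', IsWr g :=
      fun J' h => ih _ h J' rfl
    by_cases hbig : 2 < Fintype.card F ∨ 4 ≤ m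
    · exact step_lie hm ht hG hS hP' hrec hne hbig hg
    push Not at hbig
    obtain rfl : m = 3 := by omega
    exact step_tri ht hG hS hP' hrec hne (le_antisymm hbig.1 Fintype.one_lt_card) hg

/-- A group containing the special linear groups of the factors is in the wreath product or contains all
transvections. -/
theorem wr_or_transvections [Finite F] {G : Subgroup (GL (Fin t → Fin m) F)} (hm : 3 ≤ m) (ht : 2 ≤ t)
    (hG : Roots G) (hP : Perms G ∨ t ≤ 2) :
    G ≤ Cfsg.Geo.tensorWreathStandard m t F ∨
      ∀ (x y : Fin t → Fin m), x ≠ y → ∀ c : F, ∃ g ∈ G, (g : MT) = 1 + Matrix.single x y c := by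
  haveI : NeZero m := ⟨by omega⟩
  by_cases hS : Scal G
  · exact Or.inl fun g hg => mem_std_iff.2 (core hm ht hG hS hP Finset.univ g
      ⟨hg, fun k hk => absurd (Finset.mem_univ k) hk⟩)
  · exact Or.inr fun x y hxy c => transvections_of_not_scal hm hG hP hS hxy c

end CfsgLib.MaxSub.TensorPow
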