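import Cfsg.Agent.Lib.MaxSub.TensorPow.RankTools
import Mathlib.FieldTheory.Finite.Basic
import Mathlib.FieldTheory.Perfect
import Mathlib.GroupTheory.Perm.Sign

/-!
Elements of the wreath group with square zero logarithm and smallest rank.
-/

set_option autoImplicit false
set_option maxHeartbeats 800000
set_option linter.unusedSectionVars false
set_option linter.style.haveILetI false

namespace CfsgLib.MaxSub.TensorPow

open Matrix
open CfsgLib.Aschbacher

variable {F : Type*} [Field F] {m t : ℕ}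

local notation "Mm" => Matrix (Fin m) (Fin m) F
local notation "MT" => Matrix (Fin t → Fin m) (Fin t → Fin m) F

theorem wr_apply (A : Fin t → GL (Fin m) F) (σ : Equiv.Perm (Fin t)) (x y : Fin t → Fin m) :
    ((pureGL A * permGL m F σ : GL (Fin t → Fin m) F) : MT) x y = ∏ i, (A i : Mm) (x i) (y (σ.symm i)) := by
  show (pureMat (fun i => (A i : Mm)) * permMat m F σ) x y = _
  rw [Matrix.mul_apply, Finset.sum_eq_single (y ∘ σ.symm)]
  · simp [permMat, pureMat_apply, Function.comp_assoc]
  · intro z _ hz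
    have : y ≠ z ∘ σ := fun h => hz (by simp [h, Function.comp_assoc])
    simp [permMat, this]
  · simp

/-- If no combination of columns from a set vanishes then the set is no bigger than the rank. -/
theorem card_le_rank {ι : Type} [Fintype ι] [DecidableEq ι] (N : Matrix ι ι F) (S : Finset ι)
    (h : ∀ f : ι → F, (∀ x, x ∉ S → f x = 0) → N *ᵥ f = 0 → f = 0) : S.card ≤ N.rank := by
  let E : (↥S → F) →ₗ[F] (ι → F) :=
    { toFun := fun g x => if hx : x ∈ S then g ⟨x, hx⟩ else 0
      map_add' := fun g g' => funext fun x => by by_cases hx : x ∈ S <;> simp [hx]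
      map_smul' := fun c g => funext fun x => by by_cases hx : x ∈ S <;> simp [hx] }
  have hinj : Function.Injective (N.mulVecLin ∘ₗ E) := by
    rw [injective_iff_map_eq_zero]
    intro g hg
    have := h (E g) (fun x hx => by simp [E, hx]) hg
    funext x
    simpa [E, x.2] using congrFun this x.1
  have := LinearMap.finrank_range_of_inj hinj
  rw [Module.finrank_fintype_fun_eq_card, Fintype.card_coe] at this
  rw [← this]
  exact Submodule.finrank_mono (LinearMap.range_comp_le_range _ _)

section count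

variable {a b : Fin t}

theorem card_eq_coord (hab : a ≠ b) :
    (Finset.univ.filter fun y : Fin t → Fin m => y a = y b).card = m ^ (t - 1) := by
  rw [← Fintype.card_subtype]
  let e : {y : Fin t → Fin m // y a = y b} ≃ ({j : Fin t // j ≠ b} → Fin m) :=
    { toFun := fun y j => y.1 j.1
      invFun := fun r => ⟨fun j => if h : j = b then r ⟨a, hab⟩ else r ⟨j, h⟩, by simp [hab]⟩
      left_inv := fun y => Subtype.ext (funext fun j => by
        by_cases h : j = b
        · subst h; simp [y.2]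
        · simp [h])
      right_inv := fun r => funext fun j => by simp [j.2] }
  rw [Fintype.card_congr e, Fintype.card_fun, Fintype.card_fin, Fintype.card_subtype_compl,
    Fintype.card_subtype_eq, Fintype.card_fin]

theorem two_mul_card_lt (hab : a ≠ b) :
    2 * (Finset.univ.filter fun y : Fin t → Fin m => y a < y b).card = (m - 1) * m ^ (t - 1) := by
  classical
  have h1 : (Finset.univ.filter fun y : Fin t → Fin m => y a < y b).card =
      (Finset.univ.filter fun y : Fin t → Fin m => y b < y a).card := by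
    refine Finset.card_equiv (Equiv.arrowCongr (Equiv.swap a b) (Equiv.refl _)) fun y => ?_
    simp
  have h2 : (Finset.univ.filter fun y : Fin t → Fin m => y a < y b).card +
      (Finset.univ.filter fun y : Fin t → Fin m => y b < y a).card +
      (Finset.univ.filter fun y : Fin t → Fin m => y a = y b).card = m ^ t := by
    have := Finset.card_univ (α := Fin t → Fin m)
    rw [Fintype.card_fun, Fintype.card_fin, Fintype.card_fin] at this
    rw [← this, ← Finset.card_union_of_disjoint, ← Finset.card_union_of_disjoint]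
    · congr 1
      ext y
      simp only [Finset.mem_union, Finset.mem_filter, Finset.mem_univ, true_and, iff_true]
      rcases lt_trichotomy (y a) (y b) with h | h | h <;> simp [h]
    · rw [Finset.disjoint_left]
      intro y hy
      simp only [Finset.mem_union, Finset.mem_filter, Finset.mem_univ, true_and] at hy ⊢
      omega
    · rw [Finset.disjoint_left]
      intro y hy
      simp only [Finset.mem_filter, Finset.mem_univ, true_and] at hy ⊢
      omega
  obtain ⟨s, rfl⟩ : ∃ s, t = s + 1 := ⟨t - 1, by have := a.isLt; omega⟩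
  rw [card_eq_coord hab, Nat.add_sub_cancel, pow_succ', ← h1] at h2
  simp only [Nat.add_sub_cancel] at *
  rw [Nat.sub_mul, one_mul]
  omega

end count

theorem rank_conj {ι : Type} [Fintype ι] [DecidableEq ι] (g w : GL ι F) :
    (((g * w * g⁻¹ : GL ι F) : Matrix ι ι F) - 1).rank = ((w : Matrix ι ι F) - 1).rank := by
  have : ((g * w * g⁻¹ : GL ι F) : Matrix ι ι F) - 1 =
      (g : Matrix ι ι F) * (((w : Matrix ι ι F) - 1) * ((g⁻¹ : GL ι F) : Matrix ι ι F)) := by
    simp [sub_mul, mul_sub, mul_assoc]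
  rw [this, Matrix.rank_mul_eq_right_of_isUnit_det _ _ (Matrix.isUnits_det_units _),
    Matrix.rank_mul_eq_left_of_isUnit_det _ _ (Matrix.isUnits_det_units _)]

/-- A factor permutation raises the rank. -/
theorem card_le_rank_wr (A : Fin t → GL (Fin m) F) (σ : Equiv.Perm (Fin t)) {a b : Fin t} (hab : a ≠ b)
    (hb : σ a = b) :
    (Finset.univ.filter fun y : Fin t → Fin m => y a < y b).card ≤
        (((pureGL A * permGL m F σ : GL (Fin t → Fin m) F) : MT) - 1).rank ∧
      (∀ c d : Fin t, σ c = d → d ≠ a → d ≠ b → c ≠ d → 2 ≤ m →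
        (Finset.univ.filter fun y : Fin t → Fin m => y a < y b).card + 1 ≤
          (((pureGL A * permGL m F σ : GL (Fin t → Fin m) F) : MT) - 1).rank) := by
  classical
  have conj : ∀ B : Fin t → GL (Fin m) F, ∃ A' : Fin t → GL (Fin m) F,
      (∀ j, A' j = B j * A j * (B (σ.symm j))⁻¹) ∧
      (((pureGL A' * permGL m F σ : GL (Fin t → Fin m) F) : MT) - 1).rank =
        (((pureGL A * permGL m F σ : GL (Fin t → Fin m) F) : MT) - 1).rank := by
    intro B
    refine ⟨B * A * (B⁻¹ ∘ σ.symm), fun j => rfl, ?_⟩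
    have e : pureGL B * (pureGL A * permGL m F σ) * (pureGL B)⁻¹ = pureGL (B * A * (B⁻¹ ∘ σ.symm)) * permGL m F σ := by
      rw [pureGL_inv, mul_assoc, mul_assoc, perm_pure, ← mul_assoc, ← mul_assoc, pureGL_mul, pureGL_mul]
    rw [← e, rank_conj]
  have col : ∀ (A' : Fin t → GL (Fin m) F) (f : (Fin t → Fin m) → F),
      (((pureGL A' * permGL m F σ : GL (Fin t → Fin m) F) : MT) - 1) *ᵥ f = 0 →
      ∀ x, f x ≠ 0 → ∃ y, f y ≠ 0 ∧ ∀ j, A' j = 1 → x j = y (σ.symm j) := by
    intro A' f hf x hx
    rw [Matrix.sub_mulVec, Matrix.one_mulVec, sub_eq_zero] at hf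
    by_contra hc
    push Not at hc
    refine hx ?_
    rw [← hf]
    refine Finset.sum_eq_zero fun y _ => ?_
    by_cases hy : f y = 0
    · show _ * f y = 0
      rw [hy, mul_zero]
    · obtain ⟨j, hj, hjy⟩ := hc y hy
      show ((pureGL A' * permGL m F σ : GL (Fin t → Fin m) F) : MT) x y * f y = 0
      rw [wr_apply, Finset.prod_eq_zero (Finset.mem_univ j), zero_mul]
      simp [hj, hjy]
  have hsa : σ.symm b = a := by simp [← hb]
  constructor
  · obtain ⟨A', hA', hr⟩ := conj (Function.update 1 b (A b)⁻¹)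
    rw [← hr]
    refine card_le_rank _ _ fun f hf h0 => ?_
    by_contra hne
    obtain ⟨x, hx, hmax⟩ := (Finset.univ.filter fun x => f x ≠ 0).exists_max_image (fun x => x b)
      (by obtain ⟨x, hx⟩ := Function.ne_iff.mp hne; exact ⟨x, by simpa using hx⟩)
    simp only [Finset.mem_filter, Finset.mem_univ, true_and] at hx hmax
    obtain ⟨y, hy, hxy⟩ := col A' f h0 x hx
    have e := hxy b (by rw [hA', hsa]; simp [hab])
    rw [hsa] at e
    have hyS : y a < y b := by
      by_contra hc
      exact hy (hf y (by simpa using hc))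
    have := hmax y hy
    rw [e] at this
    exact absurd hyS (not_lt.mpr this)
  · intro c d hd hda hdb hcd hm
    have hca : c ≠ a := fun h => hdb (by rw [← hd, h, hb])
    have hsc : σ.symm d = c := by simp [← hd]
    set B₁ : Fin t → GL (Fin m) F := Function.update 1 b (A b)⁻¹ with hB₁
    obtain ⟨A', hA', hr⟩ := conj (Function.update B₁ d (B₁ c * (A d)⁻¹))
    rw [← hr]
    let y₀ : Fin t → Fin m := Function.update (fun _ => ⟨0, by omega⟩) d ⟨1, by omega⟩
    have h0a : y₀ a = ⟨0, by omega⟩ := by simp [y₀, hda.symm]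
    have h0b : y₀ b = ⟨0, by omega⟩ := by simp [y₀, hdb.symm]
    have hy₀ : y₀ ∉ (Finset.univ.filter fun y : Fin t → Fin m => y a < y b) := by simp [h0a, h0b]
    rw [← Finset.card_insert_of_notMem hy₀]
    refine card_le_rank _ _ fun f hf h0 => ?_
    by_contra hne
    obtain ⟨x, hx, hmax⟩ := (Finset.univ.filter fun x => f x ≠ 0).exists_max_image (fun x => x b)
      (by obtain ⟨x, hx⟩ := Function.ne_iff.mp hne; exact ⟨x, by simpa using hx⟩)
    simp only [Finset.mem_filter, Finset.mem_univ, true_and] at hx hmax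
    have hS : ∀ y, f y ≠ 0 → y = y₀ ∨ y a < y b := by
      intro y hy
      by_contra hc
      exact hy (hf y (by simpa using hc))
    have e1 : A' b = 1 := by rw [hA', hsa]; simp [hab, hdb.symm, hda.symm, hB₁]
    have e2 : A' d = 1 := by
      rw [hA', hsc, Function.update_self, Function.update_of_ne hcd]
      group
    obtain ⟨y, hy, hxy⟩ := col A' f h0 x hx
    have ex := hxy b e1
    rw [hsa] at ex
    have hyeq : y = y₀ := (hS y hy).resolve_right fun hlt => by
      have := hmax y hy
      rw [ex] at this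
      exact absurd hlt (not_lt.mpr this)
    have hall : ∀ z, f z ≠ 0 → z = y₀ := fun z hz => (hS z hz).resolve_right fun hlt => by
      have := hmax z hz
      rw [ex, hyeq, h0a] at this
      exact absurd (lt_of_lt_of_le hlt this) (Nat.not_lt_zero _)
    have hxd := hxy d e2
    rw [hall x hx, hyeq, hsc] at hxd
    simp [y₀, hcd] at hxd

/-- An element whose non-scalar factors lie in one place. -/
theorem pureMat_eq_fa {A : Fin t → GL (Fin m) F} {j : Fin t} (h : ∀ i ≠ j, ∃ c : F, (A i : Mm) = c • 1) :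
    ∃ X : Mm, (pureGL A : MT) = fa j X := by
  choose c hc using h
  refine ⟨(∏ i, if hi : i = j then (1 : F) else c i hi) • (A j : Mm), ?_⟩
  rw [map_smul, fa_eq, ← pureMat_smul]
  show pureMat _ = _
  congr 1
  funext i
  by_cases hi : i = j
  · subst hi; simp
  · simp [hi, hc i hi]

/-- A square zero three by three matrix has image in a kernel line. -/
theorem exists_centre {N : Matrix (Fin 3) (Fin 3) F} (h : N * N = 0) :
    ∃ e : Fin 3 → F, e ≠ 0 ∧ N *ᵥ e = 0 ∧ ∀ z, N *ᵥ z ∈ Submodule.span F {e} := by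
  have hNN : ∀ z, N *ᵥ (N *ᵥ z) = 0 := fun z => by rw [Matrix.mulVec_mulVec, h, Matrix.zero_mulVec]
  by_cases hN : ∀ z, N *ᵥ z = 0
  · exact ⟨Pi.single 0 1, by simp, hN _, fun z => by rw [hN z]; exact zero_mem _⟩
  push Not at hN
  obtain ⟨u, hu⟩ := hN
  refine ⟨N *ᵥ u, hu, hNN u, fun z => ?_⟩
  have hle : LinearMap.range N.mulVecLin ≤ LinearMap.ker N.mulVecLin := by
    rintro _ ⟨z, rfl⟩
    exact hNN z
  have h1 := Submodule.finrank_mono hle
  have h2 := LinearMap.finrank_range_add_finrank_ker N.mulVecLin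
  rw [Module.finrank_fin_fun] at h2
  have hsub : Submodule.span F {N *ᵥ u} ≤ LinearMap.range N.mulVecLin := by
    rw [Submodule.span_le, Set.singleton_subset_iff]
    exact ⟨u, rfl⟩
  have h3 := Submodule.finrank_mono hsub
  rw [finrank_span_singleton hu] at h3
  rw [Submodule.eq_of_le_of_finrank_le hsub (by rw [finrank_span_singleton hu]; omega)]
  exact ⟨z, rfl⟩

variable [Finite F]

theorem shape (hm : 3 ≤ m) (ht2 : 2 ≤ t) {w : GL (Fin t → Fin m) F} (hw : IsWr w)
    (h2 : ((w : MT) - 1) * ((w : MT) - 1) = 0) (hr : ((w : MT) - 1).rank = m ^ (t - 1)) :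
    (∃ (j : Fin t) (v φ : Fin m → F), φ ⬝ᵥ v = 0 ∧ (w : MT) = 1 + fa j (vecMulVec v φ)) ∨
    (m = 3 ∧ ringChar F = 2 ∧ ∃ (A : Fin t → GL (Fin m) F) (a b : Fin t), a ≠ b ∧
      w = pureGL A * permGL m F (Equiv.swap a b) ∧
      (∀ l : Fin t, l ≠ a → l ≠ b → ∃ e : Fin m → F, e ≠ 0 ∧
        ∀ φ : Fin m → F, φ ⬝ᵥ e = 0 → Commute (w : MT) (fa l (vecMulVec e φ)))) := by
  classical
  haveI : NeZero m := ⟨by omega⟩
  obtain ⟨A, σ, rfl⟩ := hw
  have hpos : 0 < m ^ (t - 1) := Nat.pow_pos (by omega)
  have ht : 0 < t := by omega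
  by_cases hσ : σ = 1
  · subst hσ
    left
    rw [permGL_one, mul_one] at h2 hr ⊢
    obtain ⟨j, hj⟩ : ∃ j : Fin t, ∀ i ≠ j, ∃ c : F, (A i : Mm) = c • 1 := by
      by_contra hc
      push Not at hc
      obtain ⟨k, -, hk⟩ := hc ⟨0, ht⟩
      obtain ⟨j, hjk, hj⟩ := hc k
      have := lt_rank_pure hm A hjk hj hk
      omega
    obtain ⟨X, hX⟩ := pureMat_eq_fa hj
    have e1 : (pureGL A : MT) - 1 = fa j (X - 1) := by rw [hX, map_sub, map_one]
    rw [e1] at h2 hr
    rw [← map_mul, ← map_zero (fa (F := F) (m := m) (t := t) j)] at h2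
    have hsq := fa_injective j h2
    set Y := X - 1 with hY
    obtain ⟨u, hu⟩ : ∃ u, Y *ᵥ u ≠ 0 := by
      by_contra hc
      push Not at hc
      have : Y = 0 := Matrix.ext fun a b => by
        have := congrFun (hc (Pi.single b 1)) a
        rwa [Matrix.mulVec_single_one] at this
      rw [this, map_zero, Matrix.rank_zero] at hr
      omega
    obtain ⟨α, hα⟩ := exists_dot_eq_one hu
    have hz : ∀ z, Y *ᵥ z ∈ Submodule.span F {Y *ᵥ u} := by
      intro z
      by_contra hc
      have := lt_rank_fa (t := t) j hc hu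
      omega
    have hYeq : Y = vecMulVec (Y *ᵥ u) (α ᵥ* Y) := by
      refine Matrix.ext fun a b => ?_
      obtain ⟨c, hc⟩ := Submodule.mem_span_singleton.mp (hz (Pi.single b 1))
      have h3 := congrArg (α ⬝ᵥ ·) hc
      simp only [dotProduct_smul, hα, smul_eq_mul, mul_one, Matrix.dotProduct_mulVec,
        dotProduct_single_one] at h3
      rw [Matrix.vecMulVec_apply, ← h3]
      have h4 := congrFun hc a
      rw [Matrix.mulVec_single_one] at h4
      simpa [mul_comm] using h4.symm
    refine ⟨j, Y *ᵥ u, α ᵥ* Y, ?_, ?_⟩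
    · rw [← Matrix.dotProduct_mulVec, Matrix.mulVec_mulVec, hsq, Matrix.zero_mulVec, dotProduct_zero]
    · rw [← hYeq, ← e1]; abel
  right
  obtain ⟨a, hab⟩ : ∃ a, a ≠ σ a := by
    by_contra hc
    push Not at hc
    exact hσ (Equiv.ext fun a => (hc a).symm)
  set b := σ a with hb
  obtain ⟨hlow, hplus⟩ := card_le_rank_wr A σ hab hb.symm
  rw [hr] at hlow hplus
  have hcount := two_mul_card_lt (m := m) (t := t) hab
  obtain rfl : m = 3 := by
    by_contra hne
    have : 3 * m ^ (t - 1) ≤ (m - 1) * m ^ (t - 1) := Nat.mul_le_mul_right _ (by omega)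
    omega
  have hswap : σ = Equiv.swap a b := by
    refine Equiv.ext fun x => ?_
    by_contra hne
    have key : ∀ c, σ c ≠ a → σ c ≠ b → c ≠ σ c → False := fun c h1 h2 h3 => by
      have := hplus c (σ c) rfl h1 h2 h3 (by omega)
      omega
    have hba : σ b = a := by
      by_contra hba
      exact key b hba (fun h => hab (σ.injective h).symm) fun h => hab (σ.injective h)
    rcases eq_or_ne x a with rfl | hxa
    · simp [← hb] at hne
    rcases eq_or_ne x b with rfl | hxb
    · simp [hba] at hne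
    rw [Equiv.swap_apply_of_ne_of_ne hxa hxb] at hne
    exact key x (fun h => hxb (σ.injective (h.trans hba.symm))) (fun h => hxa (σ.injective h)) (Ne.symm hne)
  refine ⟨rfl, ?_⟩
  obtain ⟨p, hp⟩ := CharP.exists F
  haveI := hp
  have hpr : p.Prime := CharP.char_is_prime F p
  have hσdef : σ = Equiv.swap a b := hswap
  have hwp : (pureGL A * permGL 3 F σ) ^ p = 1 := by
    refine Units.ext ?_
    set w : GL (Fin t → Fin 3) F := pureGL A * permGL 3 F σ
    have h1 : (w : Matrix (Fin t → Fin 3) (Fin t → Fin 3) F) = 1 + ((w : Matrix _ _ F) - 1) := by abel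
    have hk : ∀ k : ℕ, ((1 : Matrix (Fin t → Fin 3) (Fin t → Fin 3) F) + ((w : Matrix _ _ F) - 1)) ^ k =
        1 + k • ((w : Matrix _ _ F) - 1) := by
      intro k
      induction k with
      | zero => simp
      | succ k ih =>
        rw [pow_succ, ih, add_mul, one_mul, smul_mul_assoc, mul_add, mul_one, h2, add_zero, succ_nsmul]
        abel
    rw [Units.val_pow_eq_pow_val, h1, hk, Units.val_one, ← Nat.cast_smul_eq_nsmul F, CharP.cast_eq_zero,
      zero_smul, add_zero]
  have hpow : ∀ k : ℕ, ∃ B : Fin t → GL (Fin 3) F, (pureGL A * permGL 3 F σ) ^ k = pureGL B * permGL 3 F (σ ^ k) := by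
    intro k
    induction k with
    | zero => exact ⟨1, by simp [pureGL_one, permGL_one]⟩
    | succ k ih =>
      obtain ⟨B, hB⟩ := ih
      refine ⟨B * (A ∘ (σ ^ k).symm), ?_⟩
      rw [pow_succ, hB, mul_assoc, ← mul_assoc (permGL 3 F (σ ^ k)), perm_pure, ← pureGL_mul, pow_succ,
        ← permGL_mul]
      simp [mul_assoc]
  obtain rfl : p = 2 := by
    obtain ⟨B, hB⟩ := hpow p
    rw [hwp] at hB
    have h : (1 : Equiv.Perm (Fin t)) = σ ^ p := perm_unique (F := F) (m := 3) (A := fun _ => 1) (B := B) (by norm_num) (by rw [← hB, show (fun _ : Fin t => (1 : GL (Fin 3) F)) = 1 from rfl, pureGL_one, permGL_one, one_mul])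
    have h2' : orderOf σ ∣ p := orderOf_dvd_of_pow_eq_one h.symm
    rw [hσdef, Equiv.Perm.IsSwap.orderOf ⟨a, b, hab, rfl⟩] at h2'
    exact ((Nat.prime_dvd_prime_iff_eq Nat.prime_two hpr).mp h2').symm
  refine ⟨ringChar.eq F 2, A, a, b, hab, by rw [hswap], fun l hla hlb => ?_⟩
  have hsl : σ.symm l = l := by rw [hσdef, Equiv.symm_swap, Equiv.swap_apply_of_ne_of_ne hla hlb]
  obtain ⟨c, hc⟩ : ∃ c : F, (A l : Matrix (Fin 3) (Fin 3) F) * A l = c • 1 := by
    have e : pureGL (A * (A ∘ σ.symm)) = pureGL (1 : Fin t → GL (Fin 3) F) := by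
      rw [pureGL_one, ← hwp, pow_two, ← pureGL_mul, mul_assoc (pureGL A), ← mul_assoc (permGL 3 F σ), perm_pure,
        mul_assoc (pureGL (A ∘ σ.symm)), permGL_mul, hσdef, Equiv.swap_mul_self, permGL_one, mul_one]
    obtain ⟨c, hc⟩ := pure_unique e l
    exact ⟨c, by simpa [hsl] using hc⟩
  obtain ⟨μ, rfl⟩ : ∃ μ : F, μ * μ = c := by
    obtain ⟨μ, hμ⟩ := (Finite.injective_iff_surjective.mp (frobenius_inj F 2)) c
    exact ⟨μ, by rw [← hμ, frobenius_def, pow_two]⟩
  have hμ : μ ≠ 0 := fun h => by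
    rw [h, mul_zero, zero_smul] at hc
    exact (A l * A l).ne_zero hc
  set N : Matrix (Fin 3) (Fin 3) F := μ⁻¹ • (A l : Matrix (Fin 3) (Fin 3) F) - 1 with hNdef
  have htwo : (2 : F) = 0 := by exact_mod_cast CharP.cast_eq_zero F 2
  have hN : N * N = 0 := by
    have hsq : (μ⁻¹ • (A l : Matrix (Fin 3) (Fin 3) F)) * (μ⁻¹ • (A l : Matrix (Fin 3) (Fin 3) F)) = 1 := by
      rw [smul_mul_smul_comm, hc, smul_smul, show μ⁻¹ * μ⁻¹ * (μ * μ) = 1 by field_simp, one_smul]
    rw [hNdef]
    simp only [sub_mul, mul_sub, hsq, one_mul, mul_one]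
    ext i j
    simp only [Matrix.sub_apply, Matrix.zero_apply]
    linear_combination ((1 : Matrix (Fin 3) (Fin 3) F) i j - (μ⁻¹ • (A l : Matrix (Fin 3) (Fin 3) F)) i j) * htwo
  obtain ⟨e, he, hNe, hNz⟩ := exists_centre hN
  refine ⟨e, he, fun φ hφ => ?_⟩
  have hA : (A l : Matrix (Fin 3) (Fin 3) F) = μ • (1 + N) := by
    rw [hNdef, add_sub_cancel, smul_smul, mul_inv_cancel₀ hμ, one_smul]
  have hφN : φ ᵥ* N = 0 := by
    funext i
    obtain ⟨d, hd⟩ := Submodule.mem_span_singleton.mp (hNz (Pi.single i 1))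
    rw [Pi.zero_apply, ← dotProduct_single_one (φ ᵥ* N) i, ← Matrix.dotProduct_mulVec, ← hd, dotProduct_smul, hφ,
      smul_zero]
  have hAX : (A l : Matrix (Fin 3) (Fin 3) F) * vecMulVec e φ = vecMulVec e φ * (A l : Matrix (Fin 3) (Fin 3) F) := by
    rw [hA, Matrix.smul_mul, Matrix.mul_smul, add_mul, mul_add, one_mul, mul_one, Matrix.mul_vecMulVec, hNe,
      Matrix.vecMulVec_mul, hφN]
    simp
  have h3 := Ad_wr_fa A σ l (vecMulVec e φ)
  rw [hσdef, Equiv.swap_apply_of_ne_of_ne hla hlb, ← hσdef, hAX, mul_assoc, Units.mul_inv, mul_one, Ad_apply] at h3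
  show _ * _ = _ * _
  conv_rhs => rw [← h3]
  simp [mul_assoc]

end CfsgLib.MaxSub.TensorPow
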