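import Cfsg.Agent.Lib.MaxSub.TensorPow.Basic
import Mathlib.LinearAlgebra.Matrix.Rank
import Mathlib.LinearAlgebra.Dual.Lemmas

/-!
Ranks of pure tensors minus the identity.
-/

set_option autoImplicit false
set_option maxHeartbeats 400000
set_option linter.unusedSectionVars false

namespace CfsgLib.MaxSub.TensorPow

open Matrix
open CfsgLib.Aschbacher

variable {F : Type*} [Field F] {m t : ℕ}

local notation "Mm" => Matrix (Fin m) (Fin m) F
local notation "MT" => Matrix (Fin t → Fin m) (Fin t → Fin m) F

/-- A functional separating a vector from a subspace, as a vector. -/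
theorem exists_dot {v : Fin m → F} {p : Submodule F (Fin m → F)} (hv : v ∉ p) :
    ∃ α : Fin m → F, α ⬝ᵥ v = 1 ∧ ∀ x ∈ p, α ⬝ᵥ x = 0 := by
  obtain ⟨f, hfv, hfp⟩ := Submodule.exists_dual_map_eq_bot_of_notMem hv inferInstance
  refine ⟨fun i => (f v)⁻¹ * f (Pi.single i 1), ?_, fun x hx => ?_⟩
  all_goals
    have hd : ∀ x : Fin m → F, (fun i => (f v)⁻¹ * f (Pi.single i 1)) ⬝ᵥ x = (f v)⁻¹ * f x := by
      intro x
      conv_rhs => rw [← Finset.univ_sum_single x]
      simp only [map_sum, dotProduct, Finset.mul_sum]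
      refine Finset.sum_congr rfl fun i _ => ?_
      rw [show (Pi.single i (x i) : Fin m → F) = x i • Pi.single i 1 from by
        rw [← Pi.single_smul', smul_eq_mul, mul_one], map_smul, smul_eq_mul]
      ring
  · rw [hd, inv_mul_cancel₀ hfv]
  · have : f x ∈ p.map f := Submodule.mem_map_of_mem hx
    rw [hfp, Submodule.mem_bot] at this
    rw [hd, this, mul_zero]

theorem exists_dot_eq_one {v : Fin m → F} (hv : v ≠ 0) : ∃ α : Fin m → F, α ⬝ᵥ v = 1 := by
  obtain ⟨α, h, -⟩ := exists_dot (v := v) (p := ⊥) (by simpa using hv)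
  exact ⟨α, h⟩

open scoped Classical in
theorem fa_single_self (i : Fin t) (a : Fin m) :
    fa i (Matrix.single a a (1 : F)) = Matrix.diagonal (fun x : Fin t → Fin m => if x i = a then (1 : F) else 0) := by
  ext x y
  rw [fa_apply, Matrix.diagonal_apply]
  by_cases hxy : x = y
  · subst hxy
    simp [Matrix.single_apply, eq_comm]
  · rw [if_neg hxy]
    split
    · rename_i h
      rw [Matrix.single_apply, if_neg]
      rintro ⟨hx, hy⟩
      exact hxy (funext fun j => if hj : j = i then by subst hj; rw [← hx, ← hy] else h j hj)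
    · rfl

theorem card_coord (i : Fin t) (a : Fin m) :
    Fintype.card {x : Fin t → Fin m // x i = a} = m ^ (t - 1) := by
  let e : {x : Fin t → Fin m // x i = a} ≃ ({j : Fin t // j ≠ i} → Fin m) :=
    { toFun := fun x j => x.1 j.1
      invFun := fun r => ⟨fun j => if h : j = i then a else r ⟨j, h⟩, by simp⟩
      left_inv := fun x => Subtype.ext (funext fun j => by
        by_cases h : j = i
        · subst h; simp [x.2]
        · simp [h])
      right_inv := fun r => funext fun j => by simp [j.2] }
  rw [Fintype.card_congr e, Fintype.card_fun, Fintype.card_fin, Fintype.card_subtype_compl,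
    Fintype.card_subtype_eq, Fintype.card_fin]

theorem rank_fa_single (i : Fin t) (a : Fin m) :
    (fa i (Matrix.single a a (1 : F)) : MT).rank = m ^ (t - 1) := by
  classical
  rw [fa_single_self, Matrix.rank_diagonal, ← card_coord i a]
  exact Fintype.card_congr (Equiv.subtypeEquivRight fun x => by simp)

theorem vecMulVec_mul_mul (a b c d : Fin m → F) (M : Mm) :
    vecMulVec a b * M * vecMulVec c d = (b ⬝ᵥ (M *ᵥ c)) • vecMulVec a d := by
  rw [mul_assoc, Matrix.mul_vecMulVec, Matrix.vecMulVec_mul_vecMulVec, Matrix.vecMulVec_smul]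

theorem rank_fa_vecMulVec (i : Fin t) {v φ : Fin m → F} (hv : v ≠ 0) (hφ : φ ≠ 0) :
    (fa i (vecMulVec v φ) : MT).rank = m ^ (t - 1) := by
  obtain ⟨a, -⟩ := Function.ne_iff.mp hv
  obtain ⟨β, hβ⟩ := exists_dot_eq_one hv
  obtain ⟨u, hu⟩ := exists_dot_eq_one hφ
  set e : Fin m → F := Pi.single a 1 with he
  have hs : Matrix.single a a (1 : F) = vecMulVec e e := by
    ext k l
    simp only [he, Matrix.vecMulVec_apply, Pi.single_apply]
    by_cases hk : k = a
    · by_cases hl : l = a
      · simp [hk, hl]
      · simp [hk, hl, Ne.symm hl]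
    · simp [hk, Ne.symm hk]
  rw [← rank_fa_single (F := F) i a, hs]
  apply le_antisymm
  · have h : vecMulVec v φ = vecMulVec v e * vecMulVec e e * vecMulVec e φ := by
      rw [vecMulVec_mul_mul, Matrix.vecMulVec_mulVec]; simp [he]
    rw [h, map_mul, map_mul]
    exact (Matrix.rank_mul_le_left _ _).trans (Matrix.rank_mul_le_right _ _)
  · have h : vecMulVec e e = vecMulVec e β * vecMulVec v φ * vecMulVec u e := by
      rw [vecMulVec_mul_mul, Matrix.vecMulVec_mulVec]
      simp [hβ, dotProduct_comm φ u, hu]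
    rw [h, map_mul, map_mul]
    exact (Matrix.rank_mul_le_left _ _).trans (Matrix.rank_mul_le_right _ _)

/-- A product of an operator strictly loses rank when a left factor kills it but not the operator. -/
theorem rank_mul_lt {ι : Type} [Fintype ι] [DecidableEq ι] (N Q B : Matrix ι ι F) (h : B * (N * Q) = 0)
    {z : ι → F} (hz : B *ᵥ (N *ᵥ z) ≠ 0) : (N * Q).rank < N.rank := by
  refine Submodule.finrank_lt_finrank_of_lt (lt_of_le_not_ge ?_ fun hle => hz ?_)
  · rw [Matrix.mulVecLin_mul]; exact LinearMap.range_comp_le_range _ _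
  · obtain ⟨y, hy⟩ := hle ⟨z, rfl⟩
    simp only [Matrix.mulVecLin_apply] at hy
    rw [← hy, Matrix.mulVec_mulVec, h, Matrix.zero_mulVec]

/-- A factor operator whose image is at least two-dimensional has large rank. -/
theorem lt_rank_fa [NeZero m] (i : Fin t) {X : Mm} {u z : Fin m → F}
    (hz : X *ᵥ z ∉ Submodule.span F {X *ᵥ u}) (hu : X *ᵥ u ≠ 0) : m ^ (t - 1) < (fa i X : MT).rank := by
  obtain ⟨α, hα⟩ := exists_dot_eq_one hu
  obtain ⟨β, hβ, hβ'⟩ := exists_dot hz
  have hβu := hβ' _ (Submodule.mem_span_singleton_self _)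
  have hu0 : u ≠ 0 := fun h => hu (by rw [h, Matrix.mulVec_zero])
  have h1 : (fa i X * fa i (vecMulVec u α) : MT).rank < (fa i X : MT).rank := by
    refine rank_mul_lt _ _ (fa i (vecMulVec u β)) ?_ (z := fun x => z (x i)) ?_
    · rw [← map_mul, ← map_mul, ← mul_assoc, vecMulVec_mul_mul, hβu, zero_smul, map_zero]
    · rw [Matrix.mulVec_mulVec, ← map_mul, Matrix.vecMulVec_mul]
      obtain ⟨b, hb⟩ := Function.ne_iff.mp hu0
      refine Function.ne_iff.mpr ⟨fun _ => b, ?_⟩
      have e : (fa i (vecMulVec u (β ᵥ* X)) *ᵥ fun x => z (x i)) (fun _ => b) =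
          (vecMulVec u (β ᵥ* X) *ᵥ z) b := by
        simp only [Matrix.mulVec, dotProduct]
        refine Finset.sum_bij_ne_zero (fun y _ _ => y i) (fun y _ _ => Finset.mem_univ _) ?_ ?_ ?_
        · intro y₁ _ h₁ y₂ _ h₂ e
          funext j
          by_cases hj : j = i
          · subst hj; exact e
          · have k1 : ∀ j ≠ i, b = y₁ j := by
              by_contra hc
              exact h₁ (by rw [fa_apply, if_neg hc, zero_mul])
            have k2 : ∀ j ≠ i, b = y₂ j := by
              by_contra hc
              exact h₂ (by rw [fa_apply, if_neg hc, zero_mul])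
            rw [← k1 j hj, ← k2 j hj]
        · intro a _ ha
          refine ⟨Function.update (fun _ => b) i a, Finset.mem_univ _, ?_, Function.update_self ..⟩
          rw [fa_apply, if_pos fun j hj => by simp [hj]]
          simpa using ha
        · intro y _ hy
          by_cases hc : ∀ j ≠ i, b = y j
          · rw [fa_apply, if_pos hc]
          · exact absurd (by rw [fa_apply, if_neg hc, zero_mul]) hy
      rw [e, Matrix.vecMulVec_mulVec, ← Matrix.dotProduct_mulVec, hβ]
      simpa using hb
  refine lt_of_le_of_lt ?_ h1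
  rw [← map_mul, Matrix.mul_vecMulVec]
  exact (rank_fa_vecMulVec i hu (fun h => by simp [h] at hα)).ge

/-- The tensor product of vectors. -/
def pvec (h : Fin t → Fin m → F) : (Fin t → Fin m) → F := fun x => ∏ i, h i (x i)

theorem pureMat_mulVec (M : Fin t → Mm) (h : Fin t → Fin m → F) :
    pureMat M *ᵥ pvec h = pvec fun i => M i *ᵥ h i := by
  funext x
  simp only [pvec, Matrix.mulVec, dotProduct, pureMat_apply, ← Finset.prod_mul_distrib]
  exact (Fintype.prod_sum fun i z => M i (x i) z * h i z).symm

theorem mem_span_of_pvec_eq {a b : Fin t → Fin m → F} (hb : ∀ i, b i ≠ 0) (h : pvec a = pvec b) (j : Fin t) :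
    a j ∈ Submodule.span F {b j} := by
  choose x hx using fun i => Function.ne_iff.mp (hb i)
  simp only [Pi.zero_apply] at hx
  set L := ∏ i ∈ Finset.univ.erase j, a i (x i)
  set K := ∏ i ∈ Finset.univ.erase j, b i (x i)
  have key : ∀ s, a j s * L = b j s * K := by
    intro s
    have := congrFun h (Function.update x j s)
    simp only [pvec] at this
    have e : ∀ c : Fin t → Fin m → F, ∏ i ∈ Finset.univ.erase j, c i (Function.update x j s i) =
        ∏ i ∈ Finset.univ.erase j, c i (x i) := fun c =>
      Finset.prod_congr rfl fun i hi => by rw [Function.update_of_ne (Finset.mem_erase.mp hi).1]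
    rw [← Finset.mul_prod_erase _ _ (Finset.mem_univ j), ← Finset.mul_prod_erase _ _ (Finset.mem_univ j),
      e, e, Function.update_self] at this
    exact this
  have hK : K ≠ 0 := Finset.prod_ne_zero_iff.mpr fun i _ => hx i
  have hL : L ≠ 0 := fun hL => by
    have := key (x j)
    rw [hL, mul_zero] at this
    exact mul_ne_zero (hx j) hK this.symm
  refine Submodule.mem_span_singleton.mpr ⟨L⁻¹ * K, funext fun s => ?_⟩
  simp only [Pi.smul_apply, smul_eq_mul]
  field_simp
  linear_combination -(key s)

theorem exists_moved {X : Mm} (hX : ∀ c : F, X ≠ c • 1) : ∃ h : Fin m → F, X *ᵥ h ∉ Submodule.span F {h} := by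
  by_contra hc
  push Not at hc
  choose c hc using fun h => Submodule.mem_span_singleton.mp (hc h)
  rcases Nat.eq_zero_or_pos m with rfl | hm
  · exact hX 0 (Subsingleton.elim _ _)
  let a₀ : Fin m := ⟨0, hm⟩
  refine hX (c fun _ => 1) (Matrix.ext fun k l => ?_)
  have e1 : ∀ k l, X k l = if k = l then c (Pi.single l 1) else 0 := by
    intro k l
    have := congrFun (hc (Pi.single l 1)) k
    rw [Matrix.mulVec_single_one] at this
    simpa [Pi.single_apply, eq_comm] using this.symm
  have e2 : ∀ k, c (Pi.single k 1) = c fun _ => 1 := by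
    intro k
    have h := congrFun (hc fun _ => 1) k
    simp only [Pi.smul_apply, smul_eq_mul, mul_one, Matrix.mulVec, dotProduct] at h
    rw [h, Finset.sum_congr rfl fun l _ => e1 k l]
    simp
  rw [e1]
  by_cases h : k = l
  · subst h; simp [e2]
  · simp [h]

/-- A pure tensor with two non-scalar factors is far from the identity. -/
theorem lt_rank_pure (hm : 3 ≤ m) (U : Fin t → GL (Fin m) F) {j k : Fin t} (hjk : j ≠ k)
    (hj : ∀ c : F, (U j : Mm) ≠ c • 1) (hk : ∀ c : F, (U k : Mm) ≠ c • 1) :
    m ^ (t - 1) < ((pureGL U : MT) - 1).rank := by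
  obtain ⟨u, hu⟩ := exists_moved hk
  obtain ⟨hv, hhv⟩ := exists_moved hj
  have hu0 : u ≠ 0 := fun h => hu (by rw [h, Matrix.mulVec_zero]; exact zero_mem _)
  have hv0 : hv ≠ 0 := fun h => hhv (by rw [h, Matrix.mulVec_zero]; exact zero_mem _)
  obtain ⟨α, hα, hα'⟩ := exists_dot hu
  have hαu := hα' u (Submodule.mem_span_singleton_self u)
  obtain ⟨z, hz⟩ : ∃ z : Fin m → F, z ∉ Submodule.span F ({u, (U k : Mm) *ᵥ u} : Set (Fin m → F)) := by
    by_contra hc
    push Not at hc
    classical
    have h2 := finrank_span_finset_le_card (R := F) ({u, (U k : Mm) *ᵥ u} : Finset (Fin m → F))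
    have htop : Submodule.span F ({u, (U k : Mm) *ᵥ u} : Set (Fin m → F)) = ⊤ := eq_top_iff.mpr fun x _ => hc x
    rw [Finset.coe_insert, Finset.coe_singleton, Set.finrank, htop, finrank_top,
      Module.finrank_fin_fun] at h2
    have := h2.trans Finset.card_le_two
    omega
  obtain ⟨β, hβz, hβ'⟩ := exists_dot hz
  have hβu := hβ' u (Submodule.subset_span (Set.mem_insert _ _))
  have hβUu := hβ' _ (Submodule.subset_span (Set.mem_insert_of_mem u (Set.mem_singleton _)))
  set N : MT := (pureGL U : MT) - 1 with hN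
  have hval : (pureGL U : MT) = pureMat fun i => (U i : Mm) := rfl
  have hsand : ∀ a b c : Fin m → F, fa k (vecMulVec a b) * (N * fa k (vecMulVec c a)) =
      pureMat (Function.update (fun i => (U i : Mm)) k ((b ⬝ᵥ ((U k : Mm) *ᵥ c)) • vecMulVec a a)) -
        fa k ((b ⬝ᵥ c) • vecMulVec a a) := by
    intro a b c
    rw [hN, hval, sub_mul, one_mul, mul_sub, ← map_mul, Matrix.vecMulVec_mul_vecMulVec, Matrix.vecMulVec_smul, fa_eq,
      fa_eq, pureMat_mul, pureMat_mul]
    congr 2
    funext i
    by_cases hi : i = k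
    · subst hi
      simp [← mul_assoc, vecMulVec_mul_mul]
    · simp [hi]
  have hlow : m ^ (t - 1) ≤ (N * fa k (vecMulVec u u)).rank := by
    have h1 : fa k (vecMulVec u α) * (N * fa k (vecMulVec u u)) =
        (pureGL (Function.update U k 1) : MT) * fa k (vecMulVec u u) := by
      rw [hsand, hα, hαu, one_smul, zero_smul, map_zero, sub_zero, fa_eq]
      show _ = pureMat _ * pureMat _
      rw [pureMat_mul]
      congr 1
      funext i
      by_cases hi : i = k
      · subst hi; simp
      · simp [hi]
    rw [← rank_fa_vecMulVec k hu0 hu0, ← Matrix.rank_mul_eq_right_of_isUnit_det (pureGL (Function.update U k 1) : MT)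
      (fa k (vecMulVec u u)) (Matrix.isUnits_det_units _), ← h1]
    exact Matrix.rank_mul_le_right _ _
  refine lt_of_le_of_lt hlow (rank_mul_lt N (fa k (vecMulVec u u)) (fa k (vecMulVec u β))
    ?_ (z := pvec (Function.update (Function.update (fun _ => u) j hv) k z)) ?_)
  · rw [hsand, hβu, hβUu, zero_smul, map_zero, sub_zero]
    ext x y
    rw [pureMat_apply, Finset.prod_eq_zero (Finset.mem_univ k) (by simp)]
    rfl
  · rw [Matrix.mulVec_mulVec, hN, hval, mul_sub, mul_one, fa_eq, pureMat_mul, Matrix.sub_mulVec, pureMat_mulVec,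
      pureMat_mulVec, sub_ne_zero]
    intro h
    refine hhv ?_
    have := mem_span_of_pvec_eq (fun i => ?_) h j
    · simpa [hjk] using this
    by_cases hi : i = k
    · subst hi
      simpa [Matrix.vecMulVec_mulVec, hβz] using hu0
    by_cases hij : i = j
    · subst hij; simpa [hi] using hv0
    · simpa [hi, hij] using hu0

end CfsgLib.MaxSub.TensorPow
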