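import Cfsg.Agent.Lib.MaxSub.TensorPow.Diag
import Cfsg.Agent.Lib.MaxSub.TensorPow.Shape

/-!
An element conjugating a root element into the wreath product lies in the wreath product.
-/

set_option autoImplicit false
set_option maxHeartbeats 1000000
set_option linter.unusedSectionVars false

namespace CfsgLib.MaxSub.TensorPow

open Matrix
open CfsgLib.Aschbacher

variable {F : Type*} [Field F] {m t : ℕ}

local notation "Mm" => Matrix (Fin m) (Fin m) F
local notation "MT" => Matrix (Fin t → Fin m) (Fin t → Fin m) F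

theorem vmv_ne_zero {v φ : Fin m → F} (hv : v ≠ 0) (hφ : φ ≠ 0) : (vecMulVec v φ : Mm) ≠ 0 := by
  intro h
  obtain ⟨x, hx⟩ := Function.ne_iff.1 hv
  obtain ⟨y, hy⟩ := Function.ne_iff.1 hφ
  exact mul_ne_zero hx hy (congrFun (congrFun h x) y)

theorem vmv_sq {v φ : Fin m → F} (h : φ ⬝ᵥ v = 0) : (vecMulVec v φ : Mm) * vecMulVec v φ = 0 := by
  rw [vecMulVec_mul_vecMulVec, h, zero_smul]
  ext a b
  simp [vecMulVec_apply]

/-- A root element of a factor lies in no other factor. -/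
theorem eq_of_fa_eq [NeZero m] {i j : Fin t} {v φ : Fin m → F} (hv : v ≠ 0) (hφ : φ ≠ 0)
    (h : φ ⬝ᵥ v = 0) {Y : Mm} (e : fa i (vecMulVec v φ) = fa j Y) : j = i := by
  by_contra hne
  have hc : ∀ X : Mm, Commute (vecMulVec v φ) X := fun X => by
    refine fa_injective i ?_
    rw [map_mul, map_mul, e]
    exact fa_commute hne Y X
  obtain ⟨c, hc'⟩ := Matrix.mem_range_scalar_of_commute_single (M := vecMulVec v φ) fun x y _ => (hc _).symm
  refine vmv_ne_zero hv hφ ?_
  have h2 := vmv_sq h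
  rw [← hc'] at h2 ⊢
  have h3 := congrFun (congrFun h2 (0 : Fin m)) 0
  simp at h3
  simp [h3]

theorem maps_unique [NeZero m] (hm : 2 ≤ m) {g : GL (Fin t → Fin m) F} {i j l : Fin t}
    (hj : Maps g i j) (hl : Maps g i l) : j = l := by
  let a : Fin m := ⟨0, by omega⟩
  let b : Fin m := ⟨1, by omega⟩
  have hab : a ≠ b := by simp [a, b, Fin.ext_iff]
  obtain ⟨X, hX⟩ := hj.inv (Matrix.single a b 1)
  obtain ⟨Y, hY⟩ := hl X
  rw [← hX, ← Ad_mul, mul_inv_cancel, Ad_one] at hY
  rw [single_eq_single_vecMulVec_single] at hY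
  exact (eq_of_fa_eq (v := Pi.single a (1 : F)) (φ := Pi.single b (1 : F)) (by simp) (by simp)
    (by simp [hab.symm]) hY).symm

theorem pureMat_update_fa (A : Fin t → GL (Fin m) F) (i : Fin t) (X : Mm) :
    Ad (pureGL A) (fa i X) = fa i ((A i : Mm) * X * (((A i)⁻¹ : GL (Fin m) F) : Mm)) := by
  rcases Nat.eq_zero_or_pos m with rfl | hm
  · haveI : IsEmpty (Fin t → Fin 0) := ⟨fun x => (x i).elim0⟩
    exact Subsingleton.elim _ _
  haveI : NeZero m := ⟨by omega⟩
  have := Ad_wr_fa A 1 i X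
  rwa [permGL_one, mul_one, Equiv.Perm.one_apply] at this

/-- A matrix commuting with `1 + N` fixes `N`. -/
theorem Ad_fix_of_commute {x u : GL (Fin t → Fin m) F} {N : MT} (hu : (u : MT) = 1 + N)
    (e : x * u = u * x) : Ad x N = N := by
  have e' := congrArg Units.val e
  rw [Units.val_mul, Units.val_mul, hu, mul_add, add_mul, one_mul, mul_one, add_right_inj] at e'
  rw [Ad_apply, e', mul_assoc, Units.mul_inv, mul_one]

section

variable [Finite F] [NeZero m] {G : Subgroup (GL (Fin t → Fin m) F)} {J : Finset (Fin t)}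
  (hm : 3 ≤ m) (ht : 2 ≤ t) (hG : Roots G) (hS : Scal G) (hP : Perms G ∨ J.card ≤ 2)
  (hrec : ∀ J' : Finset (Fin t), J'.card < J.card → ∀ g ∈ GJ G J', IsWr g)

include hm ht hG hS hP hrec

/-- An element moving a root element to one of a factor. -/
theorem isWr_of_vmv {g : GL (Fin t → Fin m) F} (hg : g ∈ GJ G J) {i j : Fin t} (hi : i ∈ J)
    {v φ : Fin m → F} (hv : v ≠ 0) (hφ : φ ≠ 0) (h : φ ⬝ᵥ v = 0) {v' φ' : Fin m → F}
    (h' : φ' ⬝ᵥ v' = 0) (e : Ad g (fa i (vecMulVec v φ)) = fa j (vecMulVec v' φ')) : IsWr g := by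
  let a : Fin m := ⟨0, by omega⟩
  let b : Fin m := ⟨1, by omega⟩
  have hab : a ≠ b := by simp [a, b, Fin.ext_iff]
  have hj : j ∈ J := by
    by_contra hj
    obtain ⟨Y, hY⟩ := (hg.2 j hj).inv (vecMulVec v' φ')
    rw [← e, Ad_inv_cancel] at hY
    exact hj (eq_of_fa_eq hv hφ h hY ▸ hi)
  obtain ⟨s, hs, hsN⟩ := exists_conj_single hm hv hφ h hab
  have hfu := fu_mem_GJ (G := G) hG (J := J) i hs
  have hgood : Good (g * fu i s) i j a b := ⟨v', φ', h', by rw [Ad_mul, Ad_fu_fa, hsN, e]⟩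
  have hwr := isWr_of_good hm hG hS hP hrec (mul_mem hg hfu) hi hj hab hgood
  simpa using isWr_mul hwr (isWr_inv (isWr_fu i s))

/-- Root elements are isolated. -/
theorem isWr_of_conj {g : GL (Fin t → Fin m) F} (hg : g ∈ GJ G J) {i : Fin t} (hi : i ∈ J)
    {v φ : Fin m → F} (hv : v ≠ 0) (hφ : φ ≠ 0) (h : φ ⬝ᵥ v = 0) {u : GL (Fin t → Fin m) F}
    (huv : (u : MT) = 1 + fa i (vecMulVec v φ)) (hw : IsWr (g⁻¹ * u * g)) : IsWr g := by
  classical
  have huq : u = fu i (one_add _ (vmv_sq h)) := Units.ext (by rw [huv, fu_val, one_add_val, map_add, map_one])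
  have hdet : ((one_add _ (vmv_sq h) : GL (Fin m) F) : Mm).det = 1 := by
    rw [one_add_val, vecMulVec_eq Unit, Matrix.det_one_add_replicateCol_mul_replicateRow, h, add_zero]
  have huG : u ∈ GJ G J := huq ▸ fu_mem_GJ hG i hdet
  -- the image
  have hwG : g⁻¹ * u * g ∈ GJ G J := mul_mem (mul_mem (inv_mem hg) huG) hg
  have hwv : ∀ (g u : GL (Fin t → Fin m) F) (N : MT), (u : MT) = 1 + N →
      ((g⁻¹ * u * g : GL (Fin t → Fin m) F) : MT) = 1 + Ad g⁻¹ N := fun g u N hu => by
    rw [Units.val_mul, Units.val_mul, hu, mul_add, add_mul, mul_one, Units.inv_mul, Ad_apply, inv_inv]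
  have key : ∀ (g : GL (Fin t → Fin m) F) (u : GL (Fin t → Fin m) F) (i : Fin t) (v φ : Fin m → F),
      v ≠ 0 → φ ≠ 0 → φ ⬝ᵥ v = 0 → (u : MT) = 1 + fa i (vecMulVec v φ) →
      g ∈ GJ G J → i ∈ J → IsWr (g⁻¹ * u * g) →
      IsWr g ∨ (m = 3 ∧ ringChar F = 2 ∧ ∃ (A : Fin t → GL (Fin m) F) (a b : Fin t), a ≠ b ∧
        g⁻¹ * u * g = pureGL A * permGL m F (Equiv.swap a b) ∧
        ∀ l : Fin t, l ≠ a → l ≠ b → ∃ e : Fin m → F, e ≠ 0 ∧
          ∀ φ : Fin m → F, φ ⬝ᵥ e = 0 → Commute ((g⁻¹ * u * g : GL (Fin t → Fin m) F) : MT) (fa l (vecMulVec e φ))) := by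
    intro g u i v φ hv hφ h huv hg hi hw
    have e1 := hwv g u _ huv
    have h2 : (((g⁻¹ * u * g : GL (Fin t → Fin m) F) : MT) - 1) * (((g⁻¹ * u * g : GL (Fin t → Fin m) F) : MT) - 1) = 0 := by
      rw [e1, add_sub_cancel_left, ← Ad_mul_apply, fa_sq i (vmv_sq h), map_zero]
    have hr : (((g⁻¹ * u * g : GL (Fin t → Fin m) F) : MT) - 1).rank = m ^ (t - 1) := by
      have := rank_conj g⁻¹ u
      rw [inv_inv] at this
      rw [this, huv, add_sub_cancel_left, rank_fa_vecMulVec i hv hφ]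
    rcases shape hm ht hw h2 hr with ⟨j, v', φ', h', hv'⟩ | hsw
    · left
      rw [e1, add_right_inj] at hv'
      simpa using isWr_inv (isWr_of_vmv hm ht hG hS hP hrec (inv_mem hg) hi hv hφ h h' hv')
    · exact Or.inr hsw
  rcases key g u i v φ hv hφ h huv hg hi hw with hdone | ⟨hm3, hp2, A, a, b, hab, hA, hl⟩
  · exact hdone
  set w := g⁻¹ * u * g with hwdef
  have hmaps : ∀ k ∉ J, Equiv.swap a b k = k := fun k hk =>
    maps_unique (by omega) (hA ▸ maps_wr A (Equiv.swap a b) k) (hwG.2 k hk)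
  have haJ : a ∈ J := by_contra fun ha => hab (by simpa using (hmaps a ha).symm)
  have hbJ : b ∈ J := by_contra fun hb => hab (by simpa using hmaps b hb)
  have hcomm : ∀ r : GL (Fin t → Fin m) F, r ∈ GJ G J → Commute r w → IsWr (g * r * g⁻¹) := by
    intro r hr hrw
    refine isWr_of_vmv hm ht hG hS hP hrec (mul_mem (mul_mem hg hr) (inv_mem hg)) hi hv hφ h h
      (j := i) ?_
    have e : g * r * g⁻¹ * u = u * (g * r * g⁻¹) := by
      calc g * r * g⁻¹ * u = g * (r * w) * g⁻¹ := by rw [hwdef]; group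
        _ = g * (w * r) * g⁻¹ := by rw [hrw.eq]
        _ = u * (g * r * g⁻¹) := by rw [hwdef]; group
    exact Ad_fix_of_commute huv e
  by_cases hJ : 3 ≤ J.card
  · obtain ⟨l, hlJ, hl'⟩ : ∃ l ∈ J, l ∉ ({a, b} : Finset (Fin t)) :=
      Finset.exists_mem_notMem_of_card_lt_card (Finset.card_le_two.trans_lt hJ)
    simp only [Finset.mem_insert, Finset.mem_singleton, not_or] at hl'
    obtain ⟨e, he, hec⟩ := hl l hl'.1 hl'.2
    obtain ⟨z, hz⟩ := Function.ne_iff.1 he
    have hsqe : ∀ φ : Fin m → F, φ ⬝ᵥ e = 0 → (vecMulVec e φ : Mm) * vecMulVec e φ = 0 := fun φ => vmv_sq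
    let r : ∀ φ : Fin m → F, φ ⬝ᵥ e = 0 → GL (Fin t → Fin m) F := fun φ hφ => fu l (one_add _ (hsqe φ hφ))
    have hrv : ∀ φ hφ, (r φ hφ : MT) = 1 + fa l (vecMulVec e φ) := fun φ hφ => by
      rw [fu_val, one_add_val, map_add, map_one]
    have hr : ∀ φ hφ, r φ hφ ∈ GJ G J ∧ Commute (r φ hφ) w := fun φ hφ => by
      refine ⟨fu_mem_GJ hG l ?_, Units.ext ?_⟩
      · rw [one_add_val, vecMulVec_eq Unit, Matrix.det_one_add_replicateCol_mul_replicateRow, hφ, add_zero]
      · show (r φ hφ : MT) * (w : MT) = (w : MT) * (r φ hφ : MT)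
        rw [hrv φ hφ]
        exact ((Commute.one_left _).add_left (hec φ hφ).symm).eq
    have hrun : ∀ φ hφ, φ ≠ 0 → IsWr g ∨ ∃ (B : Fin t → GL (Fin m) F) (c d : Fin t), c ≠ d ∧
        g * r φ hφ * g⁻¹ = pureGL B * permGL m F (Equiv.swap c d) := fun φ hφ hφ0 => by
      have h1 := hcomm _ (hr φ hφ).1 (hr φ hφ).2
      rcases key g⁻¹ (r φ hφ) l e φ he hφ0 hφ (hrv φ hφ) (inv_mem hg) hlJ (by rwa [inv_inv]) with hd | hd
      · exact Or.inl (by simpa using isWr_inv hd)
      · obtain ⟨-, -, B, c, d, hcd, hB, -⟩ := hd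
        rw [inv_inv] at hB
        exact Or.inr ⟨B, c, d, hcd, hB⟩
    obtain ⟨x, y, hzx, hzy, hxy⟩ : ∃ x y : Fin m, z ≠ x ∧ z ≠ y ∧ x ≠ y := by
      obtain ⟨x, hzx, -⟩ := third hm z z
      obtain ⟨y, hzy, hxy⟩ := third hm z x
      exact ⟨x, y, hzx, hzy, hxy⟩
    set φ1 : Fin m → F := e z • Pi.single x 1 - e x • Pi.single z 1 with hφ1
    set φ2 : Fin m → F := e z • Pi.single y 1 - e y • Pi.single z 1 with hφ2
    have d1 : φ1 ⬝ᵥ e = 0 := by simp [hφ1, sub_dotProduct, smul_dotProduct, mul_comm]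
    have d2 : φ2 ⬝ᵥ e = 0 := by simp [hφ2, sub_dotProduct, smul_dotProduct, mul_comm]
    have d3 : (φ1 + φ2) ⬝ᵥ e = 0 := by rw [add_dotProduct, d1, d2, add_zero]
    have n1 : φ1 ≠ 0 := fun h0 => hz (by simpa [hφ1, hzx.symm] using congrFun h0 x)
    have n2 : φ2 ≠ 0 := fun h0 => hz (by simpa [hφ2, hzy.symm] using congrFun h0 y)
    have n3 : φ1 + φ2 ≠ 0 := fun h0 => hz (by
      simpa [hφ1, hφ2, hzx.symm, hxy] using congrFun h0 x)
    rcases hrun φ1 d1 n1 with hd | ⟨B1, c1, e1, hne1, hB1⟩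
    · exact hd
    rcases hrun φ2 d2 n2 with hd | ⟨B2, c2, e2, hne2, hB2⟩
    · exact hd
    rcases hrun (φ1 + φ2) d3 n3 with hd | ⟨B3, c3, e3, hne3, hB3⟩
    · exact hd
    have hmul : r φ1 d1 * r φ2 d2 = r (φ1 + φ2) d3 := by
      refine Units.ext ?_
      rw [Units.val_mul, hrv φ1 d1, hrv φ2 d2, hrv (φ1 + φ2) d3, add_mul, mul_add, mul_add, one_mul, one_mul, mul_one, ← map_mul,
        vecMulVec_mul_vecMulVec, d1, vecMulVec_add, map_add]
      simp
      abel
    have hB : g * r φ1 d1 * g⁻¹ * (g * r φ2 d2 * g⁻¹) = g * r (φ1 + φ2) d3 * g⁻¹ := by rw [← hmul]; group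
    rw [hB1, hB2, hB3, mul_assoc, ← mul_assoc (permGL m F _) (pureGL B2), perm_pure, mul_assoc,
      permGL_mul, ← mul_assoc, pureGL_mul] at hB
    have hs := congrArg Equiv.Perm.sign (perm_unique (by omega) hB)
    rw [map_mul, Equiv.Perm.sign_swap hne1, Equiv.Perm.sign_swap hne2, Equiv.Perm.sign_swap hne3] at hs
    exact absurd hs (by decide)
  · push Not at hJ
    subst hm3
    obtain ⟨k, hki, hkJ, hswap⟩ : ∃ k, k ≠ i ∧ k ∈ J ∧ Equiv.swap a b = Equiv.swap i k := by
      have hJ2 : J = {a, b} := (Finset.eq_of_subset_of_card_le (by simp [Finset.insert_subset_iff, haJ, hbJ])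
        (by rw [Finset.card_pair hab]; omega)).symm
      rw [hJ2, Finset.mem_insert, Finset.mem_singleton] at hi
      rcases hi with rfl | rfl
      · exact ⟨b, hab.symm, hbJ, rfl⟩
      · exact ⟨a, hab, haJ, Equiv.swap_comm a i⟩
    rw [hswap] at hA hmaps
    have hcard : ∀ l ∈ J, l = i ∨ l = k := fun l hl0 => by
      by_contra hne
      push Not at hne
      have h3 : ({i, k, l} : Finset (Fin t)).card ≤ J.card :=
        Finset.card_le_card (by simp [Finset.insert_subset_iff, hi, hkJ, hl0])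
      rw [Finset.card_insert_of_notMem (by simp [hki.symm, hne.1.symm]),
        Finset.card_insert_of_notMem (by simp [hne.2.symm]), Finset.card_singleton] at h3
      omega
    haveI hch : CharP F 2 := hp2 ▸ ringChar.charP F
    have htwo : (2 : F) = 0 := by exact_mod_cast CharP.cast_eq_zero F 2
    have hww : w * w = 1 := by
      have hu2 : u * u = 1 := Units.ext (by
        rw [Units.val_mul, huv, add_mul, mul_add, mul_add, one_mul, one_mul, mul_one,
          fa_sq i (vmv_sq h), add_zero, Units.val_one]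
        ext p q
        simp only [Matrix.add_apply]
        linear_combination (fa i (vecMulVec v φ) p q) * htwo)
      rw [hwdef]
      calc g⁻¹ * u * g * (g⁻¹ * u * g) = g⁻¹ * (u * u) * g := by group
        _ = 1 := by rw [hu2]; group
    have hwinv : w⁻¹ = w := inv_eq_of_mul_eq_one_right hww
    -- the diagonal elements
    set y : GL (Fin 3) F → GL (Fin t → Fin 3) F := fun s => fu k (A k * s * (A k)⁻¹) with hy
    have hwy : ∀ s, w * fu i s * w⁻¹ = y s := fun s => Units.ext (by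
      show Ad w _ = _
      rw [hy, fu_val, fu_val, hA, Ad_wr_fa, Equiv.swap_apply_left, Units.val_mul, Units.val_mul])
    let D : GL (Fin 3) F → GL (Fin t → Fin 3) F := fun s => fu i s * y s
    have hxy : ∀ s s', Commute (y s) (fu i s') := fun s s' => Units.ext (fa_commute hki _ _).eq
    have hDmul : ∀ s s', D (s * s') = D s * D s' := fun s s' => by
      show fu i (s * s') * y (s * s') = fu i s * y s * (fu i s' * y s')
      rw [map_mul, ← hwy, map_mul, mul_assoc (fu i s) (y s), ← mul_assoc (y s), (hxy s s').eq, ← hwy s, ← hwy s']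
      group
    have hDw : ∀ s, Commute (D s) w := fun s => by
      show fu i s * y s * w = w * (fu i s * y s)
      rw [← hwy]
      calc fu i s * (w * fu i s * w⁻¹) * w = fu i s * w * fu i s := by group
        _ = w * (w⁻¹ * fu i s * w) * fu i s := by group
        _ = w * (y s * fu i s) := by rw [← hwy, hwinv]; group
        _ = w * (fu i s * (w * fu i s * w⁻¹)) := by rw [(hxy s s).eq, ← hwy]
    have hDJ : ∀ s : GL (Fin 3) F, (s : Matrix (Fin 3) (Fin 3) F).det = 1 → D s ∈ GJ G J := fun s hs =>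
      mul_mem (fu_mem_GJ hG i hs) (hwy s ▸ mul_mem (mul_mem hwG (fu_mem_GJ hG i hs)) (inv_mem hwG))
    -- their images
    have hpure : ∀ s : GL (Fin 3) F, (s : Matrix (Fin 3) (Fin 3) F).det = 1 →
        ∃ B : Fin t → GL (Fin 3) F, g * D s * g⁻¹ = pureGL B ∧
          Commute (B i : Matrix (Fin 3) (Fin 3) F) (vecMulVec v φ) := by
      intro s hs
      obtain ⟨B, σ, hB⟩ := hcomm _ (hDJ s hs) (hDw s)
      have hmem := mul_mem (mul_mem hg (hDJ s hs)) (inv_mem hg)
      have hfix : Ad (g * D s * g⁻¹) (fa i (vecMulVec v φ)) = fa i (vecMulVec v φ) := by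
        have e : g * D s * g⁻¹ * u = u * (g * D s * g⁻¹) := by
          calc g * D s * g⁻¹ * u = g * (D s * w) * g⁻¹ := by rw [hwdef]; group
            _ = g * (w * D s) * g⁻¹ := by rw [(hDw s).eq]
            _ = u * (g * D s * g⁻¹) := by rw [hwdef]; group
        exact Ad_fix_of_commute huv e
      have hσi : σ i = i := by
        rw [hB, Ad_wr_fa] at hfix
        exact eq_of_fa_eq hv hφ h hfix.symm
      have hσ : σ = 1 := Equiv.ext fun l => by
        by_cases hlJ : l ∈ J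
        · rcases hcard l hlJ with rfl | rfl
          · exact hσi
          · by_contra hne
            by_cases hin : σ l ∈ J
            · rcases hcard _ hin with h' | h'
              · exact hki (σ.injective (h'.trans hσi.symm))
              · exact hne h'
            · have := maps_unique (by norm_num) (hB ▸ maps_wr B σ (σ l)) (hmem.2 _ hin)
              exact hne (σ.injective this)
        · exact maps_unique (by norm_num) (hB ▸ maps_wr B σ l) (hmem.2 l hlJ)
      subst hσ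
      rw [permGL_one, mul_one] at hB
      refine ⟨B, hB, ?_⟩
      rw [hB, pureMat_update_fa] at hfix
      have := congrArg (fun X => X * (B i : Matrix (Fin 3) (Fin 3) F)) (fa_injective i hfix)
      show _ * _ = _ * _
      simpa [mul_assoc] using this
    choose B hBeq hBc using hpure
    obtain ⟨s0, hs0, hs0N⟩ := exists_conj_single (m := 3) le_rfl hv hφ h (show (0 : Fin 3) ≠ 2 by simp [Fin.ext_iff])
    let S0 : Matrix (Fin 3) (Fin 3) F → Matrix (Fin 3) (Fin 3) F := fun X =>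
      ((s0⁻¹ : GL (Fin 3) F) : Matrix (Fin 3) (Fin 3) F) * X * (s0 : Matrix (Fin 3) (Fin 3) F)
    have hS0mul : ∀ X Y, S0 (X * Y) = S0 X * S0 Y := fun X Y => by simp [S0, mul_assoc]
    have hU : ∀ a b : Fin 3, a ≠ b → ∃ s : GL (Fin 3) F, (s : Matrix (Fin 3) (Fin 3) F) = 1 + Matrix.single a b 1 ∧
        (s : Matrix (Fin 3) (Fin 3) F).det = 1 := fun a b hab =>
      ⟨one_add _ (single_sq hab 1), rfl, Matrix.det_transvection_of_ne a b hab 1⟩
    let C : Matrix (Fin 3) (Fin 3) F → Matrix (Fin 3) (Fin 3) F := fun X =>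
      if hX : IsUnit X ∧ X.det = 1 then S0 (B hX.1.unit (by simpa using hX.2) i : Matrix (Fin 3) (Fin 3) F) else 1
    have hC : ∀ (s : GL (Fin 3) F) (hs : (s : Matrix (Fin 3) (Fin 3) F).det = 1),
        C (s : Matrix (Fin 3) (Fin 3) F) = S0 (B s hs i : Matrix (Fin 3) (Fin 3) F) := fun s hs => by
      simp only [C, dif_pos (show IsUnit (s : Matrix (Fin 3) (Fin 3) F) ∧ _ from ⟨s.isUnit, hs⟩)]
      congr <;> exact Units.ext (IsUnit.unit_spec _)
    have hscalar : ∀ a b : Fin 3, a ≠ b → ∀ (s : GL (Fin 3) F) (hs : (s : Matrix (Fin 3) (Fin 3) F).det = 1),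
        (s : Matrix (Fin 3) (Fin 3) F) = 1 + Matrix.single a b 1 →
        ∀ X, Ad (g * D s * g⁻¹) (fa i X) = fa i X := by
      intro a b hab s hs hsv X
      have h0 : ∀ a b : Fin 3, a ≠ b → IsUnit (C (1 + Matrix.single a b 1)).det ∧
          C (1 + Matrix.single a b 1) * Matrix.single 0 2 1 = Matrix.single 0 2 1 * C (1 + Matrix.single a b 1) := by
        intro a b hab
        obtain ⟨s, hsv, hs⟩ := hU a b hab
        rw [← hsv, hC s hs]
        refine ⟨?_, ?_⟩
        · exact (Matrix.isUnit_iff_isUnit_det _).1 (((s0⁻¹).isUnit.mul (B s hs i).isUnit).mul s0.isUnit)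
        · rw [show Matrix.single (0 : Fin 3) 2 (1 : F) = S0 (vecMulVec v φ) by simp [S0, ← hs0N, mul_assoc],
            ← hS0mul, ← hS0mul, (hBc s hs).eq]
      have h1 : ∀ a b c : Fin 3, a ≠ b → a ≠ c → c ≠ b →
          ∃ l : F, C (1 + Matrix.single a c 1) * C (1 + Matrix.single c b 1) =
            l • (C (1 + Matrix.single a b 1) * C (1 + Matrix.single c b 1) * C (1 + Matrix.single a c 1)) := by
        intro a b c hab hac hcb
        obtain ⟨s1, hs1v, hs1⟩ := hU a c hac
        obtain ⟨s2, hs2v, hs2⟩ := hU c b hcb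
        obtain ⟨s3, hs3v, hs3⟩ := hU a b hab
        have hrel : s1 * s2 = s3 * s2 * s1 := Units.ext (by
          simp [hs1v, hs2v, hs3v, add_mul, mul_add, Matrix.single_mul_single_same,
            Matrix.single_mul_single_of_ne _ _ _ _ hab.symm, Matrix.single_mul_single_of_ne _ _ _ _ hcb,
            Matrix.single_mul_single_of_ne _ _ _ _ hac.symm, hab, hab.symm, hac, hac.symm, hcb, hcb.symm]
          try abel)
        have e : pureGL (B s1 hs1 * B s2 hs2) = pureGL (B s3 hs3 * B s2 hs2 * B s1 hs1) := by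
          rw [← pureGL_mul, ← pureGL_mul, ← pureGL_mul, ← hBeq, ← hBeq, ← hBeq]
          calc g * D s1 * g⁻¹ * (g * D s2 * g⁻¹) = g * D (s1 * s2) * g⁻¹ := by rw [hDmul]; group
            _ = g * D (s3 * s2 * s1) * g⁻¹ := by rw [hrel]
            _ = _ := by rw [hDmul, hDmul]; group
        obtain ⟨l, hl⟩ := pure_unique e i
        refine ⟨l, ?_⟩
        rw [← hs1v, ← hs2v, ← hs3v, hC s1 hs1, hC s2 hs2, hC s3 hs3, ← hS0mul, ← hS0mul, ← hS0mul]
        have hl' := congrArg S0 hl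
        simp only [Pi.mul_apply, Units.val_mul] at hl'
        rw [hl']
        simp [S0, Matrix.mul_smul, Matrix.smul_mul]
      obtain ⟨l, hl⟩ := root_scalar C h0 h1 hab
      rw [← hsv, hC s hs] at hl
      have hBl : (B s hs i : Matrix (Fin 3) (Fin 3) F) = l • 1 := by
        have := congrArg (fun Z => (s0 : Matrix (Fin 3) (Fin 3) F) * Z *
          ((s0⁻¹ : GL (Fin 3) F) : Matrix (Fin 3) (Fin 3) F)) hl
        simpa [S0, mul_assoc] using this
      rw [hBeq s hs, pureMat_update_fa]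
      have hcm : Commute (B s hs i : Matrix (Fin 3) (Fin 3) F) X := hBl ▸ (Commute.one_left X).smul_left l
      rw [hcm.eq, mul_assoc, Units.mul_inv, mul_one]
    -- too many elements commuting with the preimage of the factor
    exfalso
    let T : Submodule F (Matrix (Fin t → Fin 3) (Fin t → Fin 3) F) :=
      LinearMap.range ((Ad g⁻¹).comp (fa k).toLinearMap)
    have hT1 : (1 : Matrix (Fin t → Fin 3) (Fin t → Fin 3) F) ∈ T :=
      ⟨1, by show Ad g⁻¹ (fa k 1) = 1; rw [map_one, Ad_apply, mul_one, inv_inv, Units.inv_mul]⟩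
    have hTmul : ∀ X ∈ T, ∀ Y ∈ T, X * Y ∈ T := by
      rintro _ ⟨X, rfl⟩ _ ⟨Y, rfl⟩
      exact ⟨X * Y, by show Ad g⁻¹ (fa k (X * Y)) = Ad g⁻¹ (fa k X) * Ad g⁻¹ (fa k Y); rw [map_mul, Ad_mul_apply]⟩
    have hDT : ∀ a b : Fin 3, a ≠ b → ∀ (s : GL (Fin 3) F) (hs : (s : Matrix (Fin 3) (Fin 3) F).det = 1),
        (s : Matrix (Fin 3) (Fin 3) F) = 1 + Matrix.single a b 1 →
        ((D s : GL (Fin t → Fin 3) F) : Matrix (Fin t → Fin 3) (Fin t → Fin 3) F) ∈ T := by
      intro a b hab s hs hsv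
      obtain ⟨Y, hY⟩ : ∃ Y, Ad g (D s : Matrix (Fin t → Fin 3) (Fin t → Fin 3) F) = fa k Y := by
        refine cent_range k fun l hlk X => ?_
        by_cases hli : l = i
        · subst hli
          have h1 := hscalar a b hab s hs hsv X
          rw [Ad_apply] at h1
          show Ad g _ * fa l X = fa l X * Ad g _
          conv_rhs => rw [← h1]
          simp [Ad_apply, mul_assoc]
        · have hlJ : l ∉ J := fun hl0 => (hcard l hl0).elim hli hlk
          obtain ⟨W, hW⟩ := (hg.2 l hlJ).inv X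
          have hX : fa l X = Ad g (fa l W) := by rw [← hW, ← Ad_mul, mul_inv_cancel, Ad_one]
          have hcm : Commute ((D s : GL (Fin t → Fin 3) F) : Matrix (Fin t → Fin 3) (Fin t → Fin 3) F) (fa l W) := by
            rw [Units.val_mul]
            exact (fa_commute (Ne.symm hli) _ _).mul_left (fa_commute (Ne.symm hlk) _ _)
          rw [hX, Commute, SemiconjBy, ← Ad_mul_apply, ← Ad_mul_apply, hcm.eq]
      exact ⟨Y, by show Ad g⁻¹ (fa k Y) = _; rw [← hY, Ad_inv_cancel]⟩
    let Q : GL (Fin t → Fin 3) F := pureGL (Function.update 1 k (A k)⁻¹)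
    have hQT : ∀ a b : Fin 3, a ≠ b → dq i k a b ∈ T.map (Ad Q) := by
      intro a b hab
      obtain ⟨s, hsv, hs⟩ := hU a b hab
      refine ⟨_, T.sub_mem (hDT a b hab s hs hsv) hT1, ?_⟩
      rw [map_sub, show Ad Q (1 : Matrix (Fin t → Fin 3) (Fin t → Fin 3) F) = 1 by
        rw [Ad_apply, mul_one, Units.mul_inv]]
      rw [Units.val_mul, hy, fu_val, fu_val, Ad_mul_apply, pureMat_update_fa, pureMat_update_fa]
      simp only [Function.update_self, Function.update_of_ne hki.symm, Pi.one_apply, inv_one, Units.val_one,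
        one_mul, mul_one, inv_inv, Units.val_mul, mul_assoc, Units.inv_mul, Units.inv_mul_cancel_left]
      rw [hsv, map_add, map_one, map_add, map_one, dq]
      simp only [add_mul, mul_add, one_mul, mul_one]
      abel
    have hone : (1 : Matrix (Fin t → Fin 3) (Fin t → Fin 3) F) ∈ T.map (Ad Q) :=
      ⟨1, hT1, by rw [Ad_apply, mul_one, Units.mul_inv]⟩
    have hQmul : ∀ X ∈ T.map (Ad Q), ∀ Y ∈ T.map (Ad Q), X * Y ∈ T.map (Ad Q) := by
      rintro _ ⟨X, hX, rfl⟩ _ ⟨Y, hY, rfl⟩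
      exact ⟨X * Y, hTmul X hX Y hY, Ad_mul_apply _ _ _⟩
    refine no_ten ((Ad Q).comp ((Ad g⁻¹).comp (fa k).toLinearMap)) _ (diag_indep hki.symm) fun n => ?_
    rw [LinearMap.range_comp]
    fin_cases n
    all_goals first
      | exact hone
      | exact hQT _ _ (by decide)
      | exact hQmul _ (hQT _ _ (by decide)) _ (hQT _ _ (by decide))

end

end CfsgLib.MaxSub.TensorPow
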