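import Cfsg.Agent.Lib.Aschbacher.Tensor
import Mathlib.Algebra.CharP.Algebra
import Mathlib.FieldTheory.Finite.Basic

/-!
Tensor powers: factor algebras, pure tensors and permutations of the factors.
-/

set_option autoImplicit false
set_option linter.unusedSectionVars false

namespace CfsgLib.MaxSub.TensorPow

open Matrix
open CfsgLib.Aschbacher

variable {F : Type*} [Field F] {m t : ℕ}

local notation "Mm" => Matrix (Fin m) (Fin m) F
local notation "MT" => Matrix (Fin t → Fin m) (Fin t → Fin m) F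

/-- The `i`-th factor algebra, as an algebra homomorphism. -/
noncomputable def fa (i : Fin t) : Mm →ₐ[F] MT :=
  AlgHom.ofLinearMap (factorLin i) (factor_one i) (fun X Y => (factor_mul i X Y).symm)

theorem fa_apply (i : Fin t) (X : Mm) (x y : Fin t → Fin m) :
    fa i X x y = if ∀ j ≠ i, x j = y j then X (x i) (y i) else 0 := factor_apply i X x y

theorem fa_eq (i : Fin t) (X : Mm) : fa i X = pureMat (Function.update 1 i X) := rfl

theorem fa_injective [NeZero m] (i : Fin t) : Function.Injective (fa (F := F) (m := m) i) :=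
  factor_injective i

/-- Two different factor algebras commute. -/
theorem fa_commute {i j : Fin t} (h : i ≠ j) (X Y : Mm) : Commute (fa i X) (fa j Y) := by
  rw [fa_eq, fa_eq]
  show pureMat _ * pureMat _ = pureMat _ * pureMat _
  rw [pureMat_mul, pureMat_mul]
  congr 1
  funext k
  by_cases hi : k = i
  · subst hi; simp [h]
  · simp [hi]

/-- A matrix commuting with all factor algebras is a scalar. -/
theorem scalar_of_commute {M : MT} (h : ∀ i X, Commute M (fa i X)) : ∃ c : F, M = c • 1 := by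
  obtain ⟨a, ha⟩ := Matrix.mem_range_scalar_of_commute_single (M := M) fun x y _ => by
    show Commute (Matrix.single x y (1 : F)) M
    rw [single_eq_pureMat]; exact (commute_pureMat h _).symm
  exact ⟨a, by rw [← ha]; simp [Matrix.smul_one_eq_diagonal]⟩

/-- The group of pure tensors times permutations. -/
def IsWr (g : GL (Fin t → Fin m) F) : Prop :=
  ∃ (A : Fin t → GL (Fin m) F) (σ : Equiv.Perm (Fin t)), g = pureGL A * permGL m F σ

theorem pureGL_mul (A B : Fin t → GL (Fin m) F) : pureGL A * pureGL B = pureGL (A * B) :=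
  Units.ext (by show pureMat _ * pureMat _ = pureMat _; rw [pureMat_mul]; rfl)

theorem pureGL_one : pureGL (1 : Fin t → GL (Fin m) F) = 1 :=
  Units.ext (by show pureMat _ = 1; rw [← pureMat_one]; rfl)

theorem pureGL_inv (A : Fin t → GL (Fin m) F) : (pureGL A)⁻¹ = pureGL A⁻¹ :=
  inv_eq_of_mul_eq_one_right (by rw [pureGL_mul, mul_inv_cancel, pureGL_one])

theorem permGL_mul (σ τ : Equiv.Perm (Fin t)) :
    permGL m F σ * permGL m F τ = permGL m F (σ * τ) :=
  Units.ext (permMat_mul σ τ)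

theorem permGL_one : permGL m F (1 : Equiv.Perm (Fin t)) = 1 := Units.ext permMat_one

theorem permGL_inv (σ : Equiv.Perm (Fin t)) : (permGL m F σ)⁻¹ = permGL m F σ⁻¹ :=
  inv_eq_of_mul_eq_one_right (by rw [permGL_mul, mul_inv_cancel, permGL_one])

theorem perm_pure (σ : Equiv.Perm (Fin t)) (A : Fin t → GL (Fin m) F) :
    permGL m F σ * pureGL A = pureGL (A ∘ σ.symm) * permGL m F σ :=
  Units.ext (permMat_mul_pureMat σ fun i => (A i : Mm))

theorem isWr_mul {g h : GL (Fin t → Fin m) F} (hg : IsWr g) (hh : IsWr h) : IsWr (g * h) := by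
  obtain ⟨A, σ, rfl⟩ := hg
  obtain ⟨B, τ, rfl⟩ := hh
  refine ⟨A * (B ∘ σ.symm), σ * τ, ?_⟩
  rw [← pureGL_mul, ← permGL_mul, mul_assoc, ← mul_assoc (permGL m F σ), perm_pure]
  simp [mul_assoc]

theorem isWr_inv {g : GL (Fin t → Fin m) F} (hg : IsWr g) : IsWr g⁻¹ := by
  obtain ⟨A, σ, rfl⟩ := hg
  refine ⟨A⁻¹ ∘ σ⁻¹.symm, σ⁻¹, ?_⟩
  rw [_root_.mul_inv_rev, pureGL_inv, permGL_inv, perm_pure]

/-- The standard group, elementwise. -/
theorem mem_std_iff {g : GL (Fin t → Fin m) F} :
    g ∈ Cfsg.Geo.tensorWreathStandard m t F ↔ IsWr g := by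
  constructor
  · intro hg
    induction hg using Subgroup.closure_induction with
    | mem g hg =>
      rcases hg with ⟨A, hA⟩ | ⟨σ, hσ⟩
      · exact ⟨A, 1, by rw [permGL_one, mul_one]; exact Units.ext (Matrix.ext hA)⟩
      · exact ⟨1, σ, by rw [pureGL_one, one_mul]; exact Units.ext (Matrix.ext hσ)⟩
    | one => exact ⟨1, 1, by rw [pureGL_one, permGL_one, one_mul]⟩
    | mul g h _ _ hg hh => exact isWr_mul hg hh
    | inv g _ hg => exact isWr_inv hg
  · rintro ⟨A, σ, rfl⟩
    exact Subgroup.mul_mem _ (Subgroup.subset_closure (Or.inl (isPureTensor_pureGL _)))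
      (Subgroup.subset_closure (Or.inr (isFactorPermutation_permGL _)))

/-- A matrix as a linear map under conjugation. -/
noncomputable def Ad {ι : Type} [Fintype ι] [DecidableEq ι] (g : GL ι F) :
    Matrix ι ι F →ₗ[F] Matrix ι ι F where
  toFun X := (g : Matrix ι ι F) * X * ((g⁻¹ : GL ι F) : Matrix ι ι F)
  map_add' X Y := by simp [mul_add, add_mul]
  map_smul' c X := by simp [Matrix.mul_smul, Matrix.smul_mul]

theorem Ad_apply {ι : Type} [Fintype ι] [DecidableEq ι] (g : GL ι F) (X : Matrix ι ι F) :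
    Ad g X = (g : Matrix ι ι F) * X * ((g⁻¹ : GL ι F) : Matrix ι ι F) := rfl

theorem Ad_mul {ι : Type} [Fintype ι] [DecidableEq ι] (g h : GL ι F) (X : Matrix ι ι F) :
    Ad (g * h) X = Ad g (Ad h X) := by
  simp [Ad_apply, mul_assoc, _root_.mul_inv_rev]

theorem Ad_one {ι : Type} [Fintype ι] [DecidableEq ι] (X : Matrix ι ι F) :
    Ad (1 : GL ι F) X = X := by simp [Ad_apply]

theorem Ad_mul_apply {ι : Type} [Fintype ι] [DecidableEq ι] (g : GL ι F) (X Y : Matrix ι ι F) :
    Ad g (X * Y) = Ad g X * Ad g Y := by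
  simp [Ad_apply, mul_assoc]

theorem Ad_inv_cancel {ι : Type} [Fintype ι] [DecidableEq ι] (g : GL ι F) (X : Matrix ι ι F) :
    Ad g⁻¹ (Ad g X) = X := by rw [← Ad_mul, inv_mul_cancel, Ad_one]

/-- An element of square zero, plus one, as an invertible matrix. -/
noncomputable def one_add {ι : Type} [Fintype ι] [DecidableEq ι] (X : Matrix ι ι F) (h : X * X = 0) :
    GL ι F where
  val := 1 + X
  inv := 1 - X
  val_inv := by simp only [add_mul, mul_sub, one_mul, mul_one, h]; abel
  inv_val := by simp only [sub_mul, mul_add, one_mul, mul_one, h]; abel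

theorem one_add_val {ι : Type} [Fintype ι] [DecidableEq ι] (X : Matrix ι ι F) (h : X * X = 0) :
    ((one_add X h : GL ι F) : Matrix ι ι F) = 1 + X := rfl

theorem Ad_one_add {ι : Type} [Fintype ι] [DecidableEq ι] (X : Matrix ι ι F) (h : X * X = 0)
    (Y : Matrix ι ι F) : Ad (one_add X h) Y = Y + (X * Y - Y * X - X * Y * X) := by
  show (1 + X) * Y * (1 - X) = _
  rw [add_mul, one_mul, mul_sub, mul_one, add_mul]
  abel

/-- The conjugate of `1 + X`. -/
theorem conj_one_add {ι : Type} [Fintype ι] [DecidableEq ι] (g : GL ι F) (X : Matrix ι ι F)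
    (h : X * X = 0) (h' : Ad g X * Ad g X = 0) :
    g * one_add X h * g⁻¹ = one_add (Ad g X) h' := by
  refine Units.ext ?_
  simp [one_add_val, Ad_apply, mul_add, add_mul]

/-- The commutator of two elements of square zero. -/
theorem comm_one_add {ι : Type} [Fintype ι] [DecidableEq ι] {G : Subgroup (GL ι F)}
    {P Q : Matrix ι ι F} {g h : GL ι F} (hg : g ∈ G) (hh : h ∈ G)
    (hgv : (g : Matrix ι ι F) = 1 + P) (hhv : (h : Matrix ι ι F) = 1 + Q)
    (hP : P * P = 0) (hQ : Q * Q = 0) (hQP : Q * P = 0) :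
    ∃ k ∈ G, (k : Matrix ι ι F) = 1 + P * Q := by
  refine ⟨g * h * g⁻¹ * h⁻¹, mul_mem (mul_mem (mul_mem hg hh) (inv_mem hg)) (inv_mem hh), ?_⟩
  have eg : g = one_add P hP := Units.ext hgv
  have eh : h = one_add Q hQ := Units.ext hhv
  subst eg eh
  show (1 + P) * (1 + Q) * (1 - P) * (1 - Q) = 1 + P * Q
  simp only [add_mul, mul_add, mul_sub, sub_mul, one_mul, mul_one, mul_assoc, hP, hQ, hQP, mul_zero, zero_mul]
  abel

/-- Permutations and pure tensors act on the factors. -/
theorem Ad_wr_fa [NeZero m] (A : Fin t → GL (Fin m) F) (σ : Equiv.Perm (Fin t)) (i : Fin t) (X : Mm) :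
    Ad (pureGL A * permGL m F σ) (fa i X) =
      fa (σ i) ((A (σ i) : Mm) * X * (((A (σ i))⁻¹ : GL (Fin m) F) : Mm)) := by
  rw [Ad_mul]
  have h1 : Ad (permGL m F σ) (fa i X) = fa (σ i) X := by
    show permMat m F σ * fa i X * permMat m F σ⁻¹ = _
    rw [fa_eq, permMat_mul_pureMat, mul_assoc, permMat_mul, mul_inv_cancel, permMat_one, mul_one,
      fa_eq]
    congr 1
    funext j
    by_cases hj : j = σ i
    · subst hj; simp
    · have : σ.symm j ≠ i := fun h => hj (by simp [← h])
      simp [hj, this]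
  rw [h1]
  show pureMat _ * fa (σ i) X * pureMat (fun j => (((A j)⁻¹ : GL (Fin m) F) : Mm)) = _
  rw [fa_eq, fa_eq, pureMat_mul, pureMat_mul]
  congr 1
  funext j
  by_cases hj : j = σ i
  · subst hj; simp
  · simp [hj]

/-- The factors of a pure tensor times a permutation determine the permutation. -/
theorem perm_unique [NeZero m] (hm : 2 ≤ m) {A B : Fin t → GL (Fin m) F} {σ τ : Equiv.Perm (Fin t)}
    (h : pureGL A * permGL m F σ = pureGL B * permGL m F τ) : σ = τ := by
  refine Equiv.ext fun i => ?_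
  by_contra hne
  let a : Fin m := ⟨0, by omega⟩
  let b : Fin m := ⟨1, by omega⟩
  have hab : a ≠ b := by simp [a, b, Fin.ext_iff]
  set E : Mm := Matrix.single a b 1 with hE
  set Y : Mm := (A (σ i) : Mm) * E * (((A (σ i))⁻¹ : GL (Fin m) F) : Mm) with hY
  have e1 : fa (σ i) Y = fa (τ i) ((B (τ i) : Mm) * E * (((B (τ i))⁻¹ : GL (Fin m) F) : Mm)) := by
    rw [hY, ← Ad_wr_fa, h, Ad_wr_fa]
  have e2 : ∀ X, Commute Y X := fun X => by
    refine fa_injective (σ i) ?_
    rw [map_mul (fa (σ i)) Y X, map_mul (fa (σ i)) X Y, e1]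
    exact fa_commute (Ne.symm hne) _ _
  have e3 : ∀ X : Mm, Commute E X := fun X => by
    have h' := e2 ((A (σ i) : Mm) * X * (((A (σ i))⁻¹ : GL (Fin m) F) : Mm))
    rw [hY, Commute, SemiconjBy] at h'
    simp only [mul_assoc, Units.inv_mul_cancel_left] at h'
    have h'' := congrArg (fun Z => (((A (σ i))⁻¹ : GL (Fin m) F) : Mm) * Z * (A (σ i) : Mm)) h'
    simp only [mul_assoc, Units.inv_mul_cancel_left, Units.inv_mul, mul_one] at h''
    exact h''
  have h4 := congrFun (congrFun (e3 (Matrix.single a a 1)).eq a) b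
  simp [hE, hab] at h4

/-- Two equal pure tensors have proportional factors. -/
theorem pure_unique [NeZero m] {A B : Fin t → GL (Fin m) F} (h : pureGL A = pureGL B) (i : Fin t) :
    ∃ c : F, (A i : Mm) = c • (B i : Mm) := by
  have e : ∀ X : Mm, Commute ((((B i)⁻¹ : GL (Fin m) F) : Mm) * (A i : Mm)) X := by
    intro X
    have h1 := Ad_wr_fa A 1 i X
    rw [h, Ad_wr_fa, Equiv.Perm.one_apply] at h1
    have h2 := fa_injective i h1
    have h3 := congrArg (fun Z => (((B i)⁻¹ : GL (Fin m) F) : Mm) * Z * (A i : Mm)) h2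
    simp only [mul_assoc, Units.inv_mul_cancel_left, Units.inv_mul, mul_one] at h3
    show _ * X = X * _
    rw [mul_assoc]
    exact h3.symm
  obtain ⟨c, hc⟩ := Matrix.mem_range_scalar_of_commute_single
    (M := (((B i)⁻¹ : GL (Fin m) F) : Mm) * (A i : Mm)) fun x y _ => (e _).symm
  refine ⟨c, ?_⟩
  have h4 := congrArg (fun Z => (B i : Mm) * Z) hc.symm
  simp only [Units.mul_inv_cancel_left] at h4
  rw [h4]
  ext a b
  simp [Matrix.mul_diagonal, mul_comm]

end CfsgLib.MaxSub.TensorPow
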