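import Cfsg.Agent.Lib.MaxSub.TensorPow.Moving

/-!
Two facts about three-dimensional matrices for the transposition case.
-/

set_option autoImplicit false
set_option maxHeartbeats 1000000
set_option linter.unusedSectionVars false
set_option linter.unusedSimpArgs false

namespace CfsgLib.MaxSub.TensorPow

open Matrix

variable {F : Type*} [Field F]

local notation "M3" => Matrix (Fin 3) (Fin 3) F
local notation "U(" a "," b ")" => (1 + Matrix.single a b (1 : F) : Matrix (Fin 3) (Fin 3) F)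

/-- A map of the three-dimensional special linear group into a centraliser of a root element, multiplicative up to
scalars, is scalar on the root elements. -/
theorem root_scalar (C : Matrix (Fin 3) (Fin 3) F → Matrix (Fin 3) (Fin 3) F)
    (h0 : ∀ a b : Fin 3, a ≠ b →
      IsUnit (C U(a, b)).det ∧ C U(a, b) * Matrix.single 0 2 1 = Matrix.single 0 2 1 * C U(a, b))
    (h1 : ∀ a b c : Fin 3, a ≠ b → a ≠ c → c ≠ b →
      ∃ l : F, C U(a, c) * C U(c, b) = l • (C U(a, b) * C U(c, b) * C U(a, c)))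
    {a b : Fin 3} (hab : a ≠ b) : ∃ l : F, C U(a, b) = l • 1 := by
  have third3 : ∀ {a b : Fin 3}, a ≠ b → ∃ c, a ≠ c ∧ c ≠ b := by decide
  have L0 : ∀ a b : Fin 3, a ≠ b → C U(a, b) 1 0 = 0 ∧ C U(a, b) 2 0 = 0 ∧ C U(a, b) 2 1 = 0 ∧
      C U(a, b) 0 0 = C U(a, b) 2 2 ∧ C U(a, b) 0 0 ≠ 0 ∧ C U(a, b) 1 1 ≠ 0 ∧ C U(a, b) 2 2 ≠ 0 := by
    intro a b hab
    obtain ⟨hu, hc⟩ := h0 a b hab
    have e12 := congrFun (congrFun hc 1) 2
    have e01 := congrFun (congrFun hc 0) 1
    have e02 := congrFun (congrFun hc 0) 2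
    have e22 := congrFun (congrFun hc 2) 2
    simp [Matrix.mul_apply, Fin.sum_univ_three, Matrix.single_apply] at e12 e01 e02 e22
    rw [Matrix.det_fin_three] at hu
    simp [e12, e01.symm, e22, e02] at hu
    refine ⟨e12, e22, e01.symm, e02, ?_, ?_, ?_⟩
    · intro h; rw [e02] at h; simp [h] at hu
    · intro h; simp [h] at hu
    · intro h; simp [h] at hu
  have L1 : ∀ a b : Fin 3, a ≠ b → C U(a, b) 0 0 = C U(a, b) 1 1 := by
    intro a b hab
    obtain ⟨c, hac, hcb⟩ := third3 hab
    obtain ⟨l, hl⟩ := h1 a b c hab hac hcb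
    obtain ⟨x10, x20, x21, -, x00, x11, -⟩ := L0 a b hab
    obtain ⟨y10, y20, y21, -, y00, y11, -⟩ := L0 a c hac
    obtain ⟨z10, z20, z21, -, z00, z11, -⟩ := L0 c b hcb
    have e0 := congrFun (congrFun hl 0) 0
    have e1 := congrFun (congrFun hl 1) 1
    simp [Matrix.mul_apply, Fin.sum_univ_three, x10, x20, x21, y10, y20, y21, z10, z20, z21] at e0 e1
    have f0 : l * C U(a, b) 0 0 = 1 :=
      mul_right_cancel₀ (mul_ne_zero y00 z00) (by linear_combination -e0)
    have f1 : l * C U(a, b) 1 1 = 1 :=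
      mul_right_cancel₀ (mul_ne_zero y11 z11) (by linear_combination -e1)
    exact mul_left_cancel₀ (left_ne_zero_of_mul_eq_one f0) (f0.trans f1.symm)
  have L2 : ∀ a b : Fin 3, a ≠ b → C U(a, b) 0 1 = 0 ∧ C U(a, b) 1 2 = 0 := by
    intro a b hab
    obtain ⟨c, hac, hcb⟩ := third3 hab
    obtain ⟨l, hl⟩ := h1 a b c hab hac hcb
    obtain ⟨x10, x20, x21, x02, x00, -, -⟩ := L0 a b hab
    obtain ⟨y10, y20, y21, y02, y00, -, -⟩ := L0 a c hac
    obtain ⟨z10, z20, z21, z02, z00, -, -⟩ := L0 c b hcb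
    have x1 := L1 a b hab
    have y1 := L1 a c hac
    have z1 := L1 c b hcb
    have e0 := congrFun (congrFun hl 0) 0
    have e1 := congrFun (congrFun hl 0) 1
    have e2 := congrFun (congrFun hl 1) 2
    simp [Matrix.mul_apply, Fin.sum_univ_three, x10, x20, x21, y10, y20, y21, z10, z20, z21, ← x1, ← y1, ← z1,
      ← x02, ← y02, ← z02] at e0 e1 e2
    have f0 : l * C U(a, b) 0 0 = 1 :=
      mul_right_cancel₀ (mul_ne_zero y00 z00) (by linear_combination -e0)
    have hl0 := left_ne_zero_of_mul_eq_one f0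
    have k1 : l * (C U(a, c) 0 0 * C U(c, b) 0 0) * C U(a, b) 0 1 = 0 := by
      linear_combination -e1 -
        (C U(c, b) 0 0 * C U(a, c) 0 1 + C U(c, b) 0 1 * C U(a, c) 0 0) * f0
    have k2 : l * (C U(a, c) 0 0 * C U(c, b) 0 0) * C U(a, b) 1 2 = 0 := by
      linear_combination -e2 -
        (C U(c, b) 0 0 * C U(a, c) 1 2 + C U(c, b) 1 2 * C U(a, c) 0 0) * f0
    exact ⟨(mul_eq_zero.1 k1).resolve_left (mul_ne_zero hl0 (mul_ne_zero y00 z00)),
      (mul_eq_zero.1 k2).resolve_left (mul_ne_zero hl0 (mul_ne_zero y00 z00))⟩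
  obtain ⟨c, hac, hcb⟩ := third3 hab
  obtain ⟨l, hl⟩ := h1 a b c hab hac hcb
  obtain ⟨x10, x20, x21, x02, x00, -, -⟩ := L0 a b hab
  obtain ⟨y10, y20, y21, y02, y00, -, -⟩ := L0 a c hac
  obtain ⟨z10, z20, z21, z02, z00, -, -⟩ := L0 c b hcb
  have x1 := L1 a b hab
  have y1 := L1 a c hac
  have z1 := L1 c b hcb
  obtain ⟨x01, x12⟩ := L2 a b hab
  obtain ⟨y01, y12⟩ := L2 a c hac
  obtain ⟨z01, z12⟩ := L2 c b hcb
  have e0 := congrFun (congrFun hl 0) 0
  have e1 := congrFun (congrFun hl 0) 2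
  simp [Matrix.mul_apply, Fin.sum_univ_three, x10, x20, x21, y10, y20, y21, z10, z20, z21, ← x1, ← y1, ← z1,
    ← x02, ← y02, ← z02, x01, x12, y01, y12, z01, z12] at e0 e1
  have f0 : l * C U(a, b) 0 0 = 1 :=
    mul_right_cancel₀ (mul_ne_zero y00 z00) (by linear_combination -e0)
  have k1 : l * (C U(a, c) 0 0 * C U(c, b) 0 0) * C U(a, b) 0 2 = 0 := by
    linear_combination -e1 -
      (C U(c, b) 0 0 * C U(a, c) 0 2 + C U(c, b) 0 2 * C U(a, c) 0 0) * f0
  have x03 := (mul_eq_zero.1 k1).resolve_left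
    (mul_ne_zero (left_ne_zero_of_mul_eq_one f0) (mul_ne_zero y00 z00))
  refine ⟨C U(a, b) 0 0, ?_⟩
  ext i j
  fin_cases i <;> fin_cases j <;> simp [x10, x20, x21, x01, x12, x03, ← x1, ← x02]

variable {t : ℕ}

/-- The element `E ⊗ 1 + 1 ⊗ E + E ⊗ E`. -/
noncomputable def dq (i k : Fin t) (a b : Fin 3) :
    Matrix (Fin t → Fin 3) (Fin t → Fin 3) F :=
  fa i (Matrix.single a b 1) + fa k (Matrix.single a b 1) +
    fa i (Matrix.single a b 1) * fa k (Matrix.single a b 1)

/-- Ten independent elements of the algebra generated by the diagonal root elements. -/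
theorem diag_indep {i k : Fin t} (hik : i ≠ k) :
    LinearIndependent F ![(1 : Matrix (Fin t → Fin 3) (Fin t → Fin 3) F), dq i k 0 1, dq i k 0 2, dq i k 1 0,
      dq i k 1 2, dq i k 2 0, dq i k 2 1, dq i k 0 1 * dq i k 2 1, dq i k 1 0 * dq i k 2 0,
      dq i k 0 2 * dq i k 1 2] := by
  have hf : ∀ (X : Matrix (Fin 3) (Fin 3) F) (Y : Matrix (Fin 3) (Fin 3) F) (u v w z : Fin 3),
      (fa i X * fa k Y : Matrix (Fin t → Fin 3) (Fin t → Fin 3) F)
        (Function.update (Function.update (fun _ => 0) i u) k v)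
        (Function.update (Function.update (fun _ => 0) i w) k z) = X u w * Y v z := by
    intro X Y u v w z
    rw [fa_eq, fa_eq, CfsgLib.Aschbacher.pureMat_mul, CfsgLib.Aschbacher.pureMat_apply,
      ← Finset.mul_prod_erase _ _ (Finset.mem_univ i),
      ← Finset.mul_prod_erase _ _ (Finset.mem_erase.2 ⟨hik.symm, Finset.mem_univ k⟩),
      Finset.prod_eq_one fun x hx => ?_]
    · simp [hik, hik.symm]
    · simp only [Finset.mem_erase, Finset.mem_univ, and_true] at hx
      simp [hx.1, hx.2]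
  let ev : Matrix (Fin t → Fin 3) (Fin t → Fin 3) F → Fin 3 → Fin 3 → Fin 3 → Fin 3 → F := fun M u v w z =>
    M (Function.update (Function.update (fun _ => 0) i u) k v)
      (Function.update (Function.update (fun _ => 0) i w) k z)
  have e1 : ∀ u v w z, ev 1 u v w z = (1 : Matrix (Fin 3) (Fin 3) F) u w * (1 : Matrix (Fin 3) (Fin 3) F) v z :=
    fun u v w z => by
      rw [← hf 1 1 u v w z, map_one, map_one, mul_one]
  have e2 : ∀ a b u v w z, ev (dq i k a b) u v w z =
      Matrix.single a b (1 : F) u w * (1 : Matrix (Fin 3) (Fin 3) F) v z +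
      (1 : Matrix (Fin 3) (Fin 3) F) u w * Matrix.single a b (1 : F) v z +
      Matrix.single a b (1 : F) u w * Matrix.single a b (1 : F) v z := fun a b u v w z => by
    have h1 := hf (Matrix.single a b 1) 1 u v w z
    have h2 := hf 1 (Matrix.single a b 1) u v w z
    rw [map_one, mul_one] at h1
    rw [map_one, one_mul] at h2
    simp only [ev, dq, Matrix.add_apply, hf, h1, h2]
  have e3 : ∀ a b c d : Fin 3, b ≠ c → b = d ∨ a = c → ∀ u v w z, ev (dq i k a b * dq i k c d) u v w z =
      Matrix.single a b (1 : F) u w * Matrix.single c d (1 : F) v z +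
      Matrix.single c d (1 : F) u w * Matrix.single a b (1 : F) v z := by
    intro a b c d hbc _ u v w z
    have hi : (fa i (Matrix.single a b (1 : F)) : Matrix (Fin t → Fin 3) (Fin t → Fin 3) F) *
        fa i (Matrix.single c d 1) = 0 := by rw [fs_mul, if_neg hbc]
    have hk : (fa k (Matrix.single a b (1 : F)) : Matrix (Fin t → Fin 3) (Fin t → Fin 3) F) *
        fa k (Matrix.single c d 1) = 0 := by rw [fs_mul, if_neg hbc]
    have hc : ∀ X Y, fa k X * fa i Y = (fa i Y * fa k X : Matrix (Fin t → Fin 3) (Fin t → Fin 3) F) :=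
      fun X Y => (fa_commute hik.symm X Y).eq
    have e : (dq i k a b * dq i k c d : Matrix (Fin t → Fin 3) (Fin t → Fin 3) F) =
        fa i (Matrix.single a b 1) * fa k (Matrix.single c d 1) +
        fa i (Matrix.single c d 1) * fa k (Matrix.single a b 1) := by
      have hk' : ∀ M, fa k (Matrix.single a b (1 : F)) * (fa k (Matrix.single c d 1) * M) =
          (0 : Matrix (Fin t → Fin 3) (Fin t → Fin 3) F) := fun M => by rw [← mul_assoc, hk, zero_mul]
      have hi' : ∀ M, fa i (Matrix.single a b (1 : F)) * (fa i (Matrix.single c d 1) * M) =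
          (0 : Matrix (Fin t → Fin 3) (Fin t → Fin 3) F) := fun M => by rw [← mul_assoc, hi, zero_mul]
      have hc' : ∀ X Y M, fa k X * (fa i Y * M) =
          (fa i Y * (fa k X * M) : Matrix (Fin t → Fin 3) (Fin t → Fin 3) F) := fun X Y M => by
        rw [← mul_assoc, hc, mul_assoc]
      simp only [dq, add_mul, mul_add, mul_assoc, hc, hc', hi, hi', hk, hk', mul_zero, add_zero, zero_add]
      abel
    simp only [ev, e, Matrix.add_apply, hf]
  rw [Fintype.linearIndependent_iff]
  intro c hc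
  have key : ∀ u v w z, ∑ n, c n * ev (![(1 : Matrix (Fin t → Fin 3) (Fin t → Fin 3) F), dq i k 0 1, dq i k 0 2,
      dq i k 1 0, dq i k 1 2, dq i k 2 0, dq i k 2 1, dq i k 0 1 * dq i k 2 1, dq i k 1 0 * dq i k 2 0,
      dq i k 0 2 * dq i k 1 2] n) u v w z = 0 := fun u v w z => by
    have := congrFun (congrFun hc (Function.update (Function.update (fun _ => 0) i u) k v))
      (Function.update (Function.update (fun _ => 0) i w) k z)
    simpa only [ev, Matrix.sum_apply, Matrix.smul_apply, smul_eq_mul, Matrix.zero_apply] using this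
  have k0 := key 0 0 0 0
  have k1 := key 0 2 1 2
  have k2 := key 0 1 2 1
  have k3 := key 1 2 0 2
  have k4 := key 1 0 2 0
  have k5 := key 2 1 0 1
  have k6 := key 2 0 1 0
  have k7 := key 0 2 1 1
  have k8 := key 1 2 0 0
  have k9 := key 0 1 2 2
  simp [Fin.sum_univ_succ, e1, e2, e3, Matrix.single_apply, Matrix.one_apply] at k0 k1 k2 k3 k4 k5 k6 k7 k8 k9
  intro n
  fin_cases n <;> assumption

/-- A space with ten independent elements does not map into the three-by-three matrices faithfully. -/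
theorem no_ten {N : Type*} [AddCommGroup N] [Module F N] (f : Matrix (Fin 3) (Fin 3) F →ₗ[F] N)
    (v : Fin 10 → N) (hv : LinearIndependent F v) (h : ∀ n, v n ∈ LinearMap.range f) : False := by
  have h1 : Submodule.span F (Set.range v) ≤ LinearMap.range f :=
    Submodule.span_le.2 (Set.range_subset_iff.2 h)
  have h2 := Submodule.finrank_mono h1
  have h3 := LinearMap.finrank_range_le f
  rw [finrank_span_eq_card hv] at h2
  simp [Module.finrank_matrix] at h3 h2
  omega

end CfsgLib.MaxSub.TensorPow
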