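import Cfsg.Agent.Lib.MaxSub.TensorPow.Root

/-!
Growing a non-scalar element under the conjugations by the root elements of the factors.
-/

set_option autoImplicit false
set_option maxHeartbeats 400000
set_option linter.unusedSectionVars false

namespace CfsgLib.MaxSub.TensorPow

open Matrix
open CfsgLib.Aschbacher

variable {F : Type*} [Field F] {m t : ℕ}

local notation "Mm" => Matrix (Fin m) (Fin m) F
local notation "MT" => Matrix (Fin t → Fin m) (Fin t → Fin m) F
local notation "E[" i "](" a "," b ")" => fa i (Matrix.single a b (1 : F))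

/-- Matrix units of a factor multiply as matrix units. -/
theorem fs_mul (i : Fin t) (a b c d : Fin m) :
    (E[i](a, b) : MT) * E[i](c, d) = if b = c then E[i](a, d) else 0 := by
  rw [← map_mul]
  split
  · rename_i h; subst h; simp
  · rename_i h; rw [Matrix.single_mul_single_of_ne _ _ _ _ h, map_zero]

theorem fs_mul' (i : Fin t) (a b c d : Fin m) (X : MT) :
    E[i](a, b) * (E[i](c, d) * X) = (if b = c then E[i](a, d) else 0) * X := by
  rw [← mul_assoc, fs_mul]

theorem fs_sum (i : Fin t) : ∑ a : Fin m, (E[i](a, a) : MT) = 1 := by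
  rw [← map_sum, isUnits_single.sum, map_one]

/-- A matrix commuting with the matrix units of a factor commutes with the factor. -/
theorem commute_fa_of_single {i : Fin t} {Y : MT} (hm : 2 ≤ m)
    (h : ∀ a b : Fin m, a ≠ b → Commute Y E[i](a, b)) (X : Mm) : Commute Y (fa i X) := by
  haveI : Nontrivial (Fin m) := Fin.nontrivial_iff_two_le.mpr hm
  have h' : ∀ a b : Fin m, Commute Y E[i](a, b) := fun a b => by
    by_cases hab : a = b
    · subst hab
      obtain ⟨c, hc⟩ := exists_ne a
      have := (h a c hc.symm).mul_right (h c a hc)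
      rwa [fs_mul, if_pos rfl] at this
    · exact h a b hab
  rw [Matrix.matrix_eq_sum_single X]
  simp only [map_sum]
  refine Commute.sum_right _ _ _ fun a _ => Commute.sum_right _ _ _ fun b _ => ?_
  rw [show Matrix.single a b (X a b) = X a b • Matrix.single a b (1 : F) by simp, map_smul]
  exact (h' a b).smul_right _

/-- The change of a matrix under conjugation by a root element. -/
noncomputable def dl (i : Fin t) (a b : Fin m) (Y : MT) : MT :=
  E[i](a, b) * Y - Y * E[i](a, b) - E[i](a, b) * Y * E[i](a, b)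

/-- The module generated by a matrix over one factor algebra on both sides. -/
noncomputable def Gen (j : Fin t) (Z : MT) : Submodule F MT :=
  Submodule.span F {A | ∃ U V : Mm, fa j U * Z * fa j V = A}

theorem gen_self (j : Fin t) (Z : MT) : Z ∈ Gen j Z :=
  Submodule.subset_span ⟨1, 1, by simp⟩

theorem gen_mul {j : Fin t} {Z R : MT} (hR : R ∈ Gen j Z) (U V : Mm) :
    fa j U * R * fa j V ∈ Gen j Z := by
  induction hR using Submodule.span_induction with
  | mem x hx =>
    obtain ⟨U', V', rfl⟩ := hx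
    exact Submodule.subset_span ⟨U * U', V' * V, by simp [map_mul, mul_assoc]⟩
  | zero => simp
  | add x y _ _ hx hy => rw [mul_add, add_mul]; exact add_mem hx hy
  | smul c x _ hx => rw [Matrix.mul_smul, Matrix.smul_mul]; exact Submodule.smul_mem _ c hx

theorem gen_mul_left {j : Fin t} {Z R : MT} (hR : R ∈ Gen j Z) (U : Mm) : fa j U * R ∈ Gen j Z := by
  simpa using gen_mul hR U 1

theorem gen_mul_right {j : Fin t} {Z R : MT} (hR : R ∈ Gen j Z) (V : Mm) : R * fa j V ∈ Gen j Z := by
  simpa using gen_mul hR 1 V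

theorem gen_commute {j : Fin t} {Z R P : MT} (hR : R ∈ Gen j Z) (hP : ∀ X, Commute P (fa j X))
    (h : Commute P Z) : Commute P R := by
  induction hR using Submodule.span_induction with
  | mem x hx =>
    obtain ⟨U, V, rfl⟩ := hx
    exact ((hP U).mul_right h).mul_right (hP V)
  | zero => exact Commute.zero_right P
  | add x y _ _ hx hy => exact hx.add_right hy
  | smul c x _ hx => exact hx.smul_right c

theorem gen_fix {j : Fin t} {Z R P Q : MT} (hR : R ∈ Gen j Z) (hP : ∀ X, Commute P (fa j X))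
    (hQ : ∀ X, Commute Q (fa j X)) (h : P * Z * Q = Z) : P * R * Q = R := by
  induction hR using Submodule.span_induction with
  | mem x hx =>
    obtain ⟨U, V, rfl⟩ := hx
    calc P * (fa j U * Z * fa j V) * Q = (P * fa j U) * Z * (fa j V * Q) := by simp [mul_assoc]
      _ = fa j U * (P * Z * Q) * fa j V := by rw [(hP U).eq, ← (hQ V).eq]; simp [mul_assoc]
      _ = fa j U * Z * fa j V := by rw [h]
  | zero => simp
  | add x y _ _ hx hy => rw [mul_add, add_mul, hx, hy]
  | smul c x _ hx => rw [Matrix.mul_smul, Matrix.smul_mul, hx]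

/-- Sets closed under the differences and the moves of the factors in `J`. -/
structure Closed (T : Set MT) (J : Set (Fin t)) : Prop where
  sub : ∀ X ∈ T, ∀ Y ∈ T, X - Y ∈ T
  mov : ∀ j ∈ J, ∀ a b : Fin m, a ≠ b → ∀ Y ∈ T, dl j a b Y ∈ T

theorem Closed.zero {T : Set MT} {J : Set (Fin t)} (hT : Closed T J) {Y : MT} (hY : Y ∈ T) : (0 : MT) ∈ T := by
  simpa using hT.sub Y hY Y hY

theorem Closed.neg {T : Set MT} {J : Set (Fin t)} (hT : Closed T J) {Y : MT} (hY : Y ∈ T) : -Y ∈ T := by
  simpa using hT.sub 0 (hT.zero hY) Y hY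

theorem Closed.add {T : Set MT} {J : Set (Fin t)} (hT : Closed T J) {X Y : MT} (hX : X ∈ T) (hY : Y ∈ T) :
    X + Y ∈ T := by
  simpa using hT.sub X hX (-Y) (hT.neg hY)

section moves

variable {T : Set (Matrix (Fin t → Fin m) (Fin t → Fin m) F)} {J : Set (Fin t)} (hT : Closed T J) {j : Fin t} (hj : j ∈ J)
include hT hj

theorem Closed.sandwich {a b c : Fin m} (hab : a ≠ b) (hac : a ≠ c) (hbc : b ≠ c) {Y : MT}
    (hY : Y ∈ T) : E[j](a, b) * Y * E[j](a, b) ∈ T := by
  have h := hT.mov j hj c b hbc.symm _ (hT.mov j hj a c hac _ (hT.mov j hj a b hab _ hY))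
  convert h using 1
  simp [dl, mul_sub, sub_mul, mul_assoc, fs_mul, fs_mul', hab, hab.symm, hac, hac.symm, hbc, hbc.symm]

/-- Moving the left index. -/
theorem Closed.left {a b c : Fin m} (hab : a ≠ b) (hcb : c ≠ b) {R : MT} (hR : R ∈ T)
    (hp : R = E[j](a, a) * R * E[j](b, b)) : E[j](c, a) * R ∈ T := by
  by_cases hca : c = a
  · subst hca
    convert hR using 1
    conv_rhs => rw [hp]
    rw [hp]
    simp [mul_assoc, fs_mul', fs_mul]
  · have h := hT.mov j hj c a hca _ hR
    convert h using 1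
    rw [hp]
    simp [dl, mul_assoc, fs_mul', fs_mul, hcb.symm]

/-- Moving the right index. -/
theorem Closed.right {a b c : Fin m} (hab : a ≠ b) (hca : c ≠ a) {R : MT} (hR : R ∈ T)
    (hp : R = E[j](a, a) * R * E[j](b, b)) : R * E[j](b, c) ∈ T := by
  by_cases hcb : c = b
  · subst hcb
    convert hR using 1
    conv_rhs => rw [hp]
    rw [hp]
    simp [mul_assoc, fs_mul', fs_mul]
  · have h := hT.neg (hT.mov j hj b c (Ne.symm hcb) _ hR)
    convert h using 1
    rw [hp]
    simp [dl, mul_assoc, fs_mul', fs_mul, hca]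

theorem Closed.exists_block (hm : 3 ≤ m) {Y : MT} (hY : Y ∈ T)
    (hn : ¬ ∀ X, Commute Y (fa j X)) :
    ∃ a b : Fin m, a ≠ b ∧ ∃ R ∈ T, R ≠ 0 ∧ R = E[j](a, a) * R * E[j](b, b) ∧ R ∈ Gen j Y := by
  have hthird : ∀ a b : Fin m, ∃ c, a ≠ c ∧ b ≠ c := fun a b => by
    have := Finset.card_le_two (a := a) (b := b)
    obtain ⟨c, hc⟩ := Finset.exists_mem_notMem_of_card_lt_card
      (s := ({a, b} : Finset (Fin m))) (t := Finset.univ) (by simp; omega)
    simp at hc
    exact ⟨c, Ne.symm hc.1, Ne.symm hc.2⟩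
  have hofpos : ∀ Y' ∈ T, ∀ a b : Fin m, a ≠ b → E[j](a, b) * Y' * E[j](a, b) ≠ 0 →
      Y' ∈ Gen j Y →
      ∃ a b : Fin m, a ≠ b ∧ ∃ R ∈ T, R ≠ 0 ∧ R = E[j](a, a) * R * E[j](b, b) ∧ R ∈ Gen j Y := by
    intro Y' hY' a b hab hne hP
    obtain ⟨c, hac, hbc⟩ := hthird a b
    refine ⟨a, b, hab, _, hT.sandwich hj hab hac hbc hY', hne, by simp [mul_assoc, fs_mul', fs_mul],
      gen_mul hP _ _⟩
  by_cases hoff : ∃ a b : Fin m, a ≠ b ∧ E[j](a, b) * Y * E[j](a, b) ≠ 0
  · obtain ⟨a, b, hab, hne⟩ := hoff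
    exact hofpos Y hY a b hab hne (gen_self j Y)
  push Not at hoff
  by_cases hd : ∃ a b : Fin m, a ≠ b ∧ E[j](b, a) * dl j a b Y * E[j](b, a) ≠ 0
  · obtain ⟨a, b, hab, hne⟩ := hd
    exact hofpos _ (hT.mov j hj a b hab _ hY) b a hab.symm hne (sub_mem (sub_mem
      (gen_mul_left (gen_self j Y) _) (gen_mul_right (gen_self j Y) _)) (gen_mul (gen_self j Y) _ _))
  push Not at hd
  refine absurd (commute_fa_of_single (by omega) fun a b hab => ?_) hn
  have hz : ∀ c d : Fin m, c ≠ d → E[j](c, c) * Y * E[j](d, d) = 0 := fun c d hcd => by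
    have := congrArg (fun Z : MT => E[j](c, d) * Z * E[j](c, d)) (hoff d c hcd.symm)
    simpa [mul_assoc, fs_mul', fs_mul] using this
  have hl : E[j](a, b) * Y = E[j](a, b) * Y * E[j](b, b) := by
    conv_lhs => rw [← mul_one (E[j](a, b) * Y), ← fs_sum j, Finset.mul_sum]
    refine Finset.sum_eq_single b (fun c _ hc => ?_) (by simp)
    have := congrArg (fun Z : MT => E[j](a, b) * Z) (hz b c hc.symm)
    simpa [mul_assoc, fs_mul', fs_mul] using this
  have hr : Y * E[j](a, b) = E[j](a, a) * Y * E[j](a, b) := by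
    conv_lhs => rw [← one_mul (Y * E[j](a, b)), ← fs_sum j, Finset.sum_mul]
    refine (Finset.sum_eq_single a (fun c _ hc => ?_) (by simp)).trans (mul_assoc _ _ _).symm
    have := congrArg (fun Z : MT => Z * E[j](a, b)) (hz c a hc)
    simpa [mul_assoc, fs_mul', fs_mul] using this
  have hk : E[j](a, b) * Y * E[j](b, b) = E[j](a, a) * Y * E[j](a, b) := by
    have e := hd a b hab
    have h0 := congrArg (fun Z : MT => E[j](a, b) * Z * E[j](a, b)) e
    have hab0 := congrArg (fun Z : MT => E[j](a, b) * Z) (hz b a hab.symm)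
    have h00 : E[j](a, b) * (Y * E[j](a, b)) = 0 := by rw [← mul_assoc]; exact hoff a b hab
    simp [dl, mul_sub, sub_mul, mul_assoc, fs_mul', fs_mul, h00] at h0
    rw [sub_eq_zero] at h0
    simpa [mul_assoc] using h0
  show Y * E[j](a, b) = E[j](a, b) * Y
  rw [hl, hr, hk]

end moves

/-- The pattern of a set of factors. -/
noncomputable def patMat (S : Finset (Fin t)) (a b : Fin m) : MT :=
  pureMat fun k => if k ∈ S then Matrix.single a b 1 else 1

theorem patMat_mul (S : Finset (Fin t)) (a b c : Fin m) :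
    (patMat S a b : MT) * patMat S b c = patMat S a c := by
  rw [patMat, patMat, pureMat_mul, patMat]
  congr 1
  funext k
  by_cases hk : k ∈ S <;> simp [hk]

theorem patMat_union (S S' : Finset (Fin t)) (a : Fin m) :
    (patMat S a a : MT) * patMat S' a a = patMat (S ∪ S') a a := by
  rw [patMat, patMat, pureMat_mul, patMat]
  congr 1
  funext k
  by_cases hk : k ∈ S <;> by_cases hk' : k ∈ S' <;> simp [hk, hk']

theorem fs_left (i : Fin t) (a b : Fin m) (R : MT) (x y : Fin t → Fin m) :
    (E[i](a, b) * R : MT) x y = if x i = a then R (Function.update x i b) y else 0 := by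
  rw [Matrix.mul_apply, Finset.sum_eq_single (Function.update x i b)]
  · rw [fa_apply, if_pos fun j hj => by simp [hj], Function.update_self, Matrix.single_apply]
    by_cases h : x i = a <;> simp [h, Ne.symm]
  · intro w _ hw
    rw [fa_apply]
    split_ifs with h
    · rw [Matrix.single_apply, if_neg, zero_mul]
      rintro ⟨-, h2⟩
      exact hw (funext fun j => by by_cases hj : j = i <;> simp_all)
    · rw [zero_mul]
  · simp

theorem fs_right (i : Fin t) (a b : Fin m) (R : MT) (x y : Fin t → Fin m) :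
    (R * E[i](a, b) : MT) x y = if y i = b then R x (Function.update y i a) else 0 := by
  rw [Matrix.mul_apply, Finset.sum_eq_single (Function.update y i a)]
  · rw [fa_apply, if_pos fun j hj => by simp [hj], Function.update_self, Matrix.single_apply]
    by_cases h : y i = b <;> simp [h, Ne.symm]
  · intro w _ hw
    rw [fa_apply]
    split_ifs with h
    · rw [Matrix.single_apply, if_neg, mul_zero]
      rintro ⟨h1, -⟩
      exact hw (funext fun j => by by_cases hj : j = i <;> simp_all)
    · rw [mul_zero]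
  · simp

/-- A matrix built from a pattern is a multiple of it. -/
theorem eq_smul_patMat {S : Finset (Fin t)} {a b : Fin m} {R : MT}
    (hS : ∀ k ∈ S, R = E[k](a, a) * R * E[k](b, b)) (hn : ∀ k ∉ S, ∀ X, Commute R (fa k X)) :
    R = R (fun k => if k ∈ S then a else a) (fun k => if k ∈ S then b else a) • patMat S a b := by
  have hzero : ∀ k ∈ S, ∀ x y : Fin t → Fin m, (x k ≠ a ∨ y k ≠ b) → R x y = 0 := fun k hk x y h => by
    rw [hS k hk, fs_right, fs_left]
    rcases h with h | h <;> simp [h]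
  have hside : ∀ k ∉ S, ∀ (x y : Fin t → Fin m) (c : Fin m),
      (x k = y k → R (Function.update x k c) (Function.update y k c) = R x y) ∧ (x k ≠ y k → R x y = 0) := by
    intro k hk x y c
    have key : ∀ (x y : Fin t → Fin m) (c d : Fin m),
        (if y k = d then R x (Function.update y k c) else 0) =
          if x k = c then R (Function.update x k d) y else 0 := fun x y c d => by
      have h := congrFun (congrFun (hn k hk (Matrix.single c d 1)).eq x) y
      rwa [fs_left, fs_right] at h
    constructor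
    · intro hxy
      have := key x (Function.update y k c) (x k) c
      simpa [hxy] using this.symm
    · intro hxy
      have := key x y (y k) (y k)
      simpa [hxy] using this
  suffices h : ∀ T : Finset (Fin t), (∀ k ∈ T, k ∉ S) → ∀ x y : Fin t → Fin m,
      R x y = if ∀ k ∈ T, x k = y k then
        R (fun k => if k ∈ T then a else x k) (fun k => if k ∈ T then a else y k) else 0 by
    ext x y
    rw [Matrix.smul_apply, patMat, pureMat_apply, smul_eq_mul]
    by_cases hne : ∃ k ∈ S, x k ≠ a ∨ y k ≠ b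
    · obtain ⟨k, hk, h'⟩ := hne
      rw [hzero k hk x y h', Finset.prod_eq_zero (Finset.mem_univ k), mul_zero]
      rcases h' with h' | h' <;> simp [hk, Ne.symm h']
    push Not at hne
    rw [h Sᶜ (by simp) x y]
    by_cases hxy : ∀ k ∈ Sᶜ, x k = y k
    · rw [if_pos hxy, Finset.prod_eq_one fun k _ => ?_, mul_one]
      · congr 1 <;> funext k <;> by_cases hk : k ∈ S <;> simp [hk, hne k]
      · by_cases hk : k ∈ S
        · simp [hk, hne k hk]
        · rw [hxy k (by simp [hk]), if_neg hk, Matrix.one_apply_eq]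
    · rw [if_neg hxy]
      push Not at hxy
      obtain ⟨k, hk, hk'⟩ := hxy
      rw [Finset.prod_eq_zero (Finset.mem_univ k), mul_zero]
      simp_all
  intro T
  induction T using Finset.induction_on with
  | empty => simp
  | insert k T hkT ih =>
    intro hT x y
    have hkS := hT k (Finset.mem_insert_self k T)
    by_cases hxy : x k = y k
    · rw [← ((hside k hkS x y a).1 hxy), ih (fun j hj => hT j (Finset.mem_insert_of_mem hj))]
      have e : (∀ j ∈ T, Function.update x k a j = Function.update y k a j) ↔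
          ∀ j ∈ insert k T, x j = y j := by
        simp only [Finset.forall_mem_insert, hxy, true_and]
        refine forall₂_congr fun j hj => ?_
        have : j ≠ k := fun h => hkT (h ▸ hj)
        simp [this]
      refine if_congr e ?_ rfl
      congr 1 <;> funext j <;> by_cases hj : j = k <;> simp [hj, hkT]
    · rw [(hside k hkS x y a).2 hxy, if_neg]
      exact fun h => hxy (h k (Finset.mem_insert_self k T))

/-- A pattern is never zero. -/
theorem patMat_ne (S : Finset (Fin t)) (a b : Fin m) : (patMat S a b : MT) ≠ 0 := fun h => by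
  have := congrFun (congrFun h (fun _ => a)) (fun k => if k ∈ S then b else a)
  rw [patMat, pureMat_apply, Finset.prod_eq_one fun k _ => ?_] at this
  · simp at this
  · by_cases hk : k ∈ S
    · simp [hk]
    · rw [if_neg hk, if_neg hk, Matrix.one_apply_eq]

/-- A non-scalar element of a closed set gives a pattern. -/
theorem Closed.exists_pattern {T : Set MT} {J : Finset (Fin t)} (hT : Closed T ↑J) (hm : 3 ≤ m)
    {a b : Fin m} (hab : a ≠ b) {Y : MT} (hY : Y ∈ T) (hYc : ∀ i ∉ J, ∀ X, Commute Y (fa i X))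
    {k : Fin t} (hk : k ∈ J) (hn : ¬ ∀ X, Commute Y (fa k X)) :
    ∃ S : Finset (Fin t), k ∈ S ∧ S ⊆ J ∧ ∃ c : F, c ≠ 0 ∧ c • patMat S a b ∈ T := by
  suffices h : ∀ L : Finset (Fin t), L ⊆ J → ∃ S : Finset (Fin t), k ∈ S ∧ S ⊆ J ∧ ∃ R ∈ T, R ≠ 0 ∧
      (∀ i ∈ S, R = E[i](a, a) * R * E[i](b, b)) ∧ (∀ i ∉ J, ∀ X, Commute R (fa i X)) ∧
      (∀ i ∈ L, i ∉ S → ∀ X, Commute R (fa i X)) by
    obtain ⟨S, hkS, hSJ, R, hR, hR0, hRS, hRn, hRJ⟩ := h J (Finset.Subset.refl J)
    have e := eq_smul_patMat hRS (fun i hi X => by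
      by_cases hiJ : i ∈ J
      · exact hRJ i hiJ hi X
      · exact hRn i hiJ X)
    refine ⟨S, hkS, hSJ, _, fun hc => hR0 ?_, e ▸ hR⟩
    rw [e, hc, zero_smul]
  have hblock : ∀ j ∈ J, ∀ Z ∈ T, ¬ (∀ X, Commute Z (fa j X)) → ∃ R ∈ T, R ≠ 0 ∧
      R = E[j](a, a) * R * E[j](b, b) ∧ R ∈ Gen j Z := by
    intro j hj Z hZ hZn
    obtain ⟨a', b', hab', R, hR, hR0, hRp, hRc⟩ := hT.exists_block hj hm hZ hZn
    have hthird : ∀ a b : Fin m, ∃ c, a ≠ c ∧ b ≠ c := fun a b => by
      have := Finset.card_le_two (a := a) (b := b)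
      obtain ⟨c, hc⟩ := Finset.exists_mem_notMem_of_card_lt_card
        (s := ({a, b} : Finset (Fin m))) (t := Finset.univ) (by simp; omega)
      simp at hc
      exact ⟨c, Ne.symm hc.1, Ne.symm hc.2⟩
    have hl : ∀ {p q r : Fin m}, p ≠ q → r ≠ q → ∀ {R : MT}, R ∈ T → R ≠ 0 →
        R = E[j](p, p) * R * E[j](q, q) →
        R ∈ Gen j Z →
        ∃ R' ∈ T, R' ≠ 0 ∧ R' = E[j](r, r) * R' * E[j](q, q) ∧
          R' ∈ Gen j Z := by
      intro p q r hpq hrq R hR hR0 hp hc
      refine ⟨_, hT.left hj hpq hrq hR hp, fun h => hR0 ?_, ?_,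
        gen_mul_left hc _⟩
      · have := congrArg (fun Z : MT => E[j](p, r) * Z) h
        rw [hp] at this ⊢
        simpa [mul_assoc, fs_mul', fs_mul] using this
      · rw [hp]; simp [mul_assoc, fs_mul', fs_mul]
    have hr : ∀ {p q r : Fin m}, p ≠ q → r ≠ p → ∀ {R : MT}, R ∈ T → R ≠ 0 →
        R = E[j](p, p) * R * E[j](q, q) →
        R ∈ Gen j Z →
        ∃ R' ∈ T, R' ≠ 0 ∧ R' = E[j](p, p) * R' * E[j](r, r) ∧
          R' ∈ Gen j Z := by
      intro p q r hpq hrp R hR hR0 hp hc
      refine ⟨_, hT.right hj hpq hrp hR hp, fun h => hR0 ?_, ?_,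
        gen_mul_right hc _⟩
      · have := congrArg (fun Z : MT => Z * E[j](r, q)) h
        rw [hp] at this ⊢
        simpa [mul_assoc, fs_mul', fs_mul] using this
      · rw [hp]; simp [mul_assoc, fs_mul', fs_mul]
    obtain ⟨c, hac, hbc⟩ := hthird a b'
    -- (a', b') to (c, b') to (c, b) to (a, b)
    obtain ⟨R1, h11, h12, h13, h14⟩ := hl (r := c) hab' hbc.symm hR hR0 hRp hRc
    by_cases hcb : b = c
    · subst hcb
      obtain ⟨d, had, hbd⟩ := hthird a b
      obtain ⟨R2, h21, h22, h23, h24⟩ := hr (r := d) hbc.symm hbd.symm h11 h12 h13 h14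
      obtain ⟨R3, h31, h32, h33, h34⟩ := hl (r := a) hbd had h21 h22 h23 h24
      obtain ⟨R4, h41, h42, h43, h44⟩ := hr (r := b) had hab.symm h31 h32 h33 h34
      exact ⟨R4, h41, h42, h43, h44⟩
    · obtain ⟨R2, h21, h22, h23, h24⟩ := hr (r := b) hbc.symm hcb h11 h12 h13 h14
      obtain ⟨R3, h31, h32, h33, h34⟩ := hl (r := a) (Ne.symm hcb) hab h21 h22 h23 h24
      exact ⟨R3, h31, h32, h33, h34⟩
  intro L
  induction L using Finset.induction_on with
  | empty =>
    intro _
    obtain ⟨R, hR, hR0, hRp, hRc⟩ := hblock k hk Y hY hn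
    refine ⟨{k}, Finset.mem_singleton_self k, Finset.singleton_subset_iff.2 hk, R, hR, hR0, ?_,
      fun i hi X => (gen_commute hRc (fun X' =>
        fa_commute (fun h : i = k => hi (h ▸ hk)) X X') (hYc i hi X).symm).symm, by simp⟩
    simpa using hRp
  | insert j L hjL ih =>
    intro hLJ
    obtain ⟨S, hkS, hSJ, R, hR, hR0, hRS, hRn, hRJ⟩ :=
      ih (fun x hx => hLJ (Finset.mem_insert_of_mem hx))
    by_cases hjc : j ∈ S ∨ ∀ X, Commute R (fa j X)
    · refine ⟨S, hkS, hSJ, R, hR, hR0, hRS, hRn, fun i hi hiS => ?_⟩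
      rcases Finset.mem_insert.1 hi with rfl | hi
      · exact hjc.resolve_left hiS
      · exact hRJ i hi hiS
    push Not at hjc
    have hjJ := hLJ (Finset.mem_insert_self j L)
    obtain ⟨R', hR', hR'0, hR'p, hR'c⟩ := hblock j hjJ R hR (by simpa using hjc.2)
    refine ⟨insert j S, Finset.mem_insert_of_mem hkS, Finset.insert_subset hjJ hSJ, R', hR', hR'0,
      fun i hi => ?_, fun i hi X => (gen_commute hR'c (fun X' =>
        fa_commute (fun h : i = j => hi (h ▸ hjJ)) X X') (hRn i hi X).symm).symm, fun i hi hiS X => ?_⟩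
    · rcases Finset.mem_insert.1 hi with rfl | hi
      · exact hR'p
      have hij : i ≠ j := fun h => hjc.1 (h ▸ hi)
      exact (gen_fix hR'c (fun X => fa_commute hij _ X) (fun X => fa_commute hij _ X) (hRS i hi).symm).symm
    · have hiL : i ∈ L := (Finset.mem_insert.1 hi).resolve_left fun h => hiS (h ▸ Finset.mem_insert_self j S)
      have hiS' : i ∉ S := fun h => hiS (Finset.mem_insert_of_mem h)
      have hij : i ≠ j := fun h => hiS (h ▸ Finset.mem_insert_self j S)
      exact (gen_commute hR'c (fun X' => fa_commute hij X X') (hRJ i hiL hiS' X).symm).symm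

end CfsgLib.MaxSub.TensorPow
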