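import Cfsg.Agent.Lib.MaxSub.TensorPow.Pair

/-!
Elements moving a root element of a factor to a root element of a factor.
-/

set_option autoImplicit false
set_option maxHeartbeats 400000
set_option linter.unusedSectionVars false

namespace CfsgLib.MaxSub.TensorPow

open Matrix
open CfsgLib.Aschbacher

variable {F : Type*} [Field F] {m t : ℕ}

local notation "Mm" => Matrix (Fin m) (Fin m) F
local notation "MT" => Matrix (Fin t → Fin m) (Fin t → Fin m) F
local notation "E[" i "](" a "," b ")" => fa i (Matrix.single a b (1 : F))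

/-- A matrix commuting with all factor algebras but one lies in that one. -/
theorem cent_range (i : Fin t) {M : MT} (h : ∀ k ≠ i, ∀ X, Commute M (fa k X)) : ∃ Y, M = fa i Y := by
  have hb : ∀ a b : Fin m, ∃ c : F, E[i](a, a) * M * E[i](b, b) = c • E[i](a, b) := fun a b => by
    have e : patMat ({i} : Finset (Fin t)) a b = E[i](a, b) := by
      rw [patMat, fa_eq]
      congr 1
      funext k
      by_cases hk : k = i
      · subst hk; simp
      · simp [hk]
    refine ⟨_, (eq_smul_patMat (S := {i}) (a := a) (b := b) (fun k hk => ?_) fun k hk X => ?_).trans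
      (congrArg _ e)⟩
    · rw [Finset.mem_singleton] at hk
      subst hk
      simp [mul_assoc, fs_mul, fs_mul']
    · have hki : k ≠ i := by simpa using hk
      exact (((fa_commute hki.symm _ X).mul_left (h k hki X))).mul_left (fa_commute hki.symm _ X)
  choose c hc using hb
  refine ⟨∑ a, ∑ b, c a b • Matrix.single a b 1, ?_⟩
  simp only [map_sum, map_smul, ← hc]
  simp only [← Finset.mul_sum, fs_sum, mul_one, ← Finset.sum_mul, one_mul]

/-- The element maps the factor `i` into the factor `j`. -/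
def Maps (g : GL (Fin t → Fin m) F) (i j : Fin t) : Prop :=
  ∀ X : Matrix (Fin m) (Fin m) F, ∃ Y, Ad g (fa i X) = fa j Y

theorem Maps.mul {g h : GL (Fin t → Fin m) F} {i j k : Fin t} (hg : Maps g j k) (hh : Maps h i j) :
    Maps (g * h) i k := fun X => by
  obtain ⟨Y, hY⟩ := hh X
  obtain ⟨Z, hZ⟩ := hg Y
  exact ⟨Z, by rw [Ad_mul, hY, hZ]⟩

theorem Maps.inv [NeZero m] {g : GL (Fin t → Fin m) F} {i j : Fin t} (hg : Maps g i j) :
    Maps g⁻¹ j i := by
  choose Y hY using hg
  let L : Mm →ₗ[F] Mm :=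
    { toFun := Y
      map_add' := fun A B => fa_injective j (by rw [← hY, map_add, map_add, hY, hY, map_add])
      map_smul' := fun c A => fa_injective j (by rw [← hY, map_smul, map_smul, hY, RingHom.id_apply, map_smul]) }
  have hinj : Function.Injective L := fun A B h => fa_injective i (by
    have h1 : Ad g (fa i A) = Ad g (fa i B) := by rw [hY, hY]; exact congrArg (fa j) h
    have h2 := congrArg (Ad g⁻¹) h1
    rwa [Ad_inv_cancel, Ad_inv_cancel] at h2)
  intro X
  obtain ⟨W, hW⟩ := LinearMap.surjective_of_injective hinj X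
  refine ⟨W, ?_⟩
  rw [← hW, show L W = Y W from rfl, ← hY, Ad_inv_cancel]

theorem maps_wr [NeZero m] (A : Fin t → GL (Fin m) F) (σ : Equiv.Perm (Fin t)) (i : Fin t) :
    Maps (pureGL A * permGL m F σ) i (σ i) :=
  fun X => ⟨_, Ad_wr_fa A σ i X⟩

/-- An element mapping every factor into a factor is a pure tensor times a permutation. -/
theorem isWr_of_maps (hm : 2 ≤ m) (ht : 1 ≤ t) {g : GL (Fin t → Fin m) F}
    (h : ∀ i, ∃ j, Maps g i j) : IsWr g := by
  haveI : NeZero m := ⟨by omega⟩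
  haveI : NeZero t := ⟨by omega⟩
  choose f hf using h
  have hinj : Function.Injective f := by
    intro i k hik
    by_contra hne
    have e : ∀ X : Mm, Commute E[i](⟨0, by omega⟩, ⟨1, by omega⟩) (fa i X) := fun X => by
      obtain ⟨Y, hY⟩ := hf i (Matrix.single ⟨0, by omega⟩ ⟨1, by omega⟩ 1)
      obtain ⟨Z, hZ⟩ := (hf i) X
      obtain ⟨W, hW⟩ := (hf k).inv Z
      rw [← hik, ← hZ, Ad_inv_cancel] at hW
      rw [hW]
      exact fa_commute hne _ _
    have h4 := congrFun (congrFun (e (Matrix.single ⟨0, by omega⟩ ⟨0, by omega⟩ 1)).eq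
      (fun _ => ⟨0, by omega⟩)) (Function.update (fun _ => (⟨0, by omega⟩ : Fin m)) i ⟨1, by omega⟩)
    simp [fs_left, fs_right, fa_apply, Matrix.single_apply] at h4
  refine mem_std_iff.1 (mem_tensorWreathStandard_of_permuting
    (σ := Equiv.ofBijective f (Finite.injective_iff_bijective.1 hinj)) fun i k l => ?_)
  obtain ⟨Y, hY⟩ := hf i (Matrix.single k l 1)
  exact ⟨Y, hY⟩

variable {G : Subgroup (GL (Fin t → Fin m) F)}

/-- The members of the group preserving the factors outside `J`. -/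
def GJ [NeZero m] (G : Subgroup (GL (Fin t → Fin m) F)) (J : Finset (Fin t)) :
    Subgroup (GL (Fin t → Fin m) F) where
  carrier := {g | g ∈ G ∧ ∀ k ∉ J, Maps g k k}
  mul_mem' := fun {a b} ha hb => ⟨mul_mem ha.1 hb.1, fun k hk => (ha.2 k hk).mul (hb.2 k hk)⟩
  one_mem' := ⟨one_mem G, fun k _ X => ⟨X, Ad_one _⟩⟩
  inv_mem' := fun {a} ha => ⟨inv_mem ha.1, fun k hk => (ha.2 k hk).inv⟩

theorem mem_GJ_of_wr [NeZero m] {J : Finset (Fin t)} {A : Fin t → GL (Fin m) F} {σ : Equiv.Perm (Fin t)}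
    (hg : pureGL A * permGL m F σ ∈ G) (hσ : ∀ k ∉ J, σ k = k) :
    pureGL A * permGL m F σ ∈ GJ G J :=
  ⟨hg, fun k hk => by
    have := maps_wr A σ k
    rwa [hσ k hk] at this⟩

theorem fu_mem_GJ [NeZero m] (hG : Roots G) {J : Finset (Fin t)} (i : Fin t) {s : GL (Fin m) F}
    (hs : (s : Mm).det = 1) : fu i s ∈ GJ G J := by
  have e : pureGL (Function.update 1 i s) * permGL m F (1 : Equiv.Perm (Fin t)) = fu i s := by
    rw [permGL_one, mul_one, fu_eq]
  rw [← e]
  exact mem_GJ_of_wr (e ▸ hG i s hs) fun k _ => rfl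

/-- A root element of the factor `i` goes to one of the factor `j`. -/
def Good (g : GL (Fin t → Fin m) F) (i j : Fin t) (a b : Fin m) : Prop :=
  ∃ v φ : Fin m → F, φ ⬝ᵥ v = 0 ∧ Ad g (fa i (Matrix.single a b (1 : F))) = fa j (vecMulVec v φ)

theorem Ad_fu_fa (j : Fin t) (s : GL (Fin m) F) (X : Mm) :
    Ad (fu j s) (fa j X) = fa j ((s : Mm) * X * ((s⁻¹ : GL (Fin m) F) : Mm)) := by
  rw [Ad_apply, ← map_inv, fu_val, fu_val, ← map_mul, ← map_mul]

theorem conj_vmv (s : GL (Fin m) F) (v φ : Fin m → F) (h : φ ⬝ᵥ v = 0) :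
    ∃ v' φ' : Fin m → F, φ' ⬝ᵥ v' = 0 ∧
      (s : Mm) * vecMulVec v φ * ((s⁻¹ : GL (Fin m) F) : Mm) = vecMulVec v' φ' := by
  refine ⟨(s : Mm) *ᵥ v, φ ᵥ* ((s⁻¹ : GL (Fin m) F) : Mm), ?_, by rw [mul_vecMulVec, vecMulVec_mul]⟩
  rw [← Matrix.dotProduct_mulVec, Matrix.mulVec_mulVec, Units.inv_mul, Matrix.one_mulVec, h]

section good

variable {g : GL (Fin t → Fin m) F} {i j : Fin t} (hm : 3 ≤ m) (hG : Roots G) (hS : Scal G) (hg : g ∈ G)
include hm hG hS hg

theorem Good.exists_conj {a b : Fin m} (hab : a ≠ b) (h : Good g i j a b) :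
    ∃ s : GL (Fin m) F, (s : Mm).det = 1 ∧ Ad ((fu j s)⁻¹ * g) E[i](a, b) = E[j](a, b) := by
  haveI : NeZero m := ⟨by omega⟩
  obtain ⟨v, φ, hφv, he⟩ := h
  have hne : (vecMulVec v φ : Mm) ≠ 0 := fun h0 => by
    rw [h0, map_zero] at he
    have h1 := congrArg (Ad g⁻¹) he
    rw [Ad_inv_cancel, map_zero] at h1
    have h2 := congrFun (congrFun h1 (fun _ => a)) (Function.update (fun _ => a) i b)
    rw [fa_apply, Function.update_self, if_pos (fun k hk => by simp [hk])] at h2
    simp at h2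
  obtain ⟨s, hs, hsN⟩ := exists_conj_single hm (fun h0 => hne (by simp [h0]))
    (fun h0 => hne (by simp [h0])) hφv hab
  refine ⟨s, hs, ?_⟩
  rw [Ad_mul, he, ← hsN, ← Ad_fu_fa, Ad_inv_cancel]

theorem Good.row {a b k : Fin m} (hab : a ≠ b) (hka : k ≠ a) (h : Good g i j a b) :
    Good g i j a k := by
  haveI : NeZero m := ⟨by omega⟩
  obtain ⟨s, hs, he⟩ := Good.exists_conj hm hG hS hg hab h
  set g' := (fu j s)⁻¹ * g with hg'
  have hg'G : g' ∈ G := mul_mem (inv_mem (hG j s hs)) hg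
  set P := Ad g' E[i](a, k) with hP
  have hP1 : E[j](a, a) * P = P := by
    rw [hP, show E[i](a, k) = E[i](a, b) * E[i](b, k) by rw [fs_mul, if_pos rfl], Ad_mul_apply, he,
      ← mul_assoc, fs_mul, if_pos rfl]
  have hP2 : P * E[j](a, a) = 0 := by
    rw [show E[j](a, a) = E[j](a, b) * E[j](b, a) by rw [fs_mul, if_pos rfl], ← mul_assoc, hP, ← he,
      ← Ad_mul_apply, fs_mul, if_neg hka, map_zero, zero_mul]
  have hPsq : P * P = 0 := by rw [hP, ← Ad_mul_apply, fs_mul, if_neg hka, map_zero]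
  obtain ⟨u, hu, -, huv⟩ := root_mem hG i hka.symm (1 : F)
  have hPG : g' * u * g'⁻¹ ∈ G := mul_mem (mul_mem hg'G hu) (inv_mem hg'G)
  have hPv : ((g' * u * g'⁻¹ : GL (Fin t → Fin m) F) : MT) = 1 + P := by
    rw [Units.val_mul, Units.val_mul, huv, mul_add, add_mul, mul_one, Units.mul_inv]; rfl
  have hcoef : ∀ c : Fin m, ∃ l : F, (a = c → l = 0) ∧ P * E[j](c, c) = l • E[j](a, c) := by
    intro c
    by_cases hac : a = c
    · subst hac; exact ⟨0, fun _ => rfl, by rw [hP2, zero_smul]⟩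
    obtain ⟨d, had, hcd⟩ := third hm a c
    obtain ⟨r, hr, -, hrv⟩ := root_mem hG j hcd (1 : F)
    obtain ⟨q, hq, hqv⟩ := comm_one_add hPG hr hPv hrv hPsq (by rw [fs_mul, if_neg hcd.symm])
      (by rw [← hP1, ← mul_assoc, fs_mul, if_neg had.symm, zero_mul])
    set Y := ∑ r, E[j](r, a) * P * E[j](c, r) with hY
    have hYc : ∀ X, Commute Y (fa j X) := commute_fa_of_single (by omega) fun p q _ => by
      show Y * _ = _ * Y
      rw [hY, Finset.sum_mul, Finset.mul_sum, Finset.sum_eq_single p, Finset.sum_eq_single q]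
      · simp [mul_assoc, fs_mul, fs_mul']
      · intro x _ hx; simp [mul_assoc, fs_mul', Ne.symm hx]
      · simp
      · intro x _ hx; simp [mul_assoc, fs_mul, hx]
      · simp
    have hYv : P * E[j](c, d) = E[j](a, d) * Y := by
      rw [hY, Finset.mul_sum, Finset.sum_eq_single d]
      · rw [← mul_assoc, ← mul_assoc, fs_mul, if_pos rfl, hP1]
      · intro x _ hx; simp [mul_assoc, fs_mul', Ne.symm hx]
      · simp
    obtain ⟨l, hl⟩ := hS j Y (mem_Sset_of_pair hm hG hYc had ⟨q, hq, hqv.trans (by rw [hYv])⟩)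
    refine ⟨l, fun h => absurd h hac, ?_⟩
    rw [show E[j](c, c) = E[j](c, d) * E[j](d, c) by rw [fs_mul, if_pos rfl], ← mul_assoc, hYv, hl,
      mul_assoc, Matrix.smul_mul, one_mul, Matrix.mul_smul, fs_mul, if_pos rfl]
  choose l hla hl using hcoef
  have hPN : P = fa j (vecMulVec (Pi.single a 1) l) := by
    rw [← mul_one P, ← fs_sum j, Finset.mul_sum]
    simp only [hl, ← map_smul, ← map_sum]
    congr 1
    ext x y
    simp [Matrix.sum_apply, Matrix.single_apply, vecMulVec_apply, Pi.single_apply, eq_comm]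
    by_cases hx : x = a <;> simp [hx, Ne.symm]
  obtain ⟨v', φ', h1, h2⟩ := conj_vmv s (Pi.single a 1) l (by simp [hla a rfl])
  refine ⟨v', φ', h1, ?_⟩
  rw [← h2, ← Ad_fu_fa, ← hPN, hP, hg', ← Ad_mul, mul_inv_cancel_left]

theorem Good.col {a b k : Fin m} (hab : a ≠ b) (hkb : k ≠ b) (h : Good g i j a b) :
    Good g i j k b := by
  haveI : NeZero m := ⟨by omega⟩
  obtain ⟨s, hs, he⟩ := Good.exists_conj hm hG hS hg hab h
  set g' := (fu j s)⁻¹ * g with hg'
  have hg'G : g' ∈ G := mul_mem (inv_mem (hG j s hs)) hg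
  set P := Ad g' E[i](k, b) with hP
  have hP1 : P * E[j](b, b) = P := by
    rw [hP, show E[i](k, b) = E[i](k, a) * E[i](a, b) by rw [fs_mul, if_pos rfl], Ad_mul_apply, he,
      mul_assoc, fs_mul, if_pos rfl]
  have hP2 : E[j](b, b) * P = 0 := by
    rw [show E[j](b, b) = E[j](b, a) * E[j](a, b) by rw [fs_mul, if_pos rfl], mul_assoc, hP, ← he,
      ← Ad_mul_apply, fs_mul, if_neg hkb.symm, map_zero, mul_zero]
  have hPsq : P * P = 0 := by rw [hP, ← Ad_mul_apply, fs_mul, if_neg hkb.symm, map_zero]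
  obtain ⟨u, hu, -, huv⟩ := root_mem hG i hkb (1 : F)
  have hPG : g' * u * g'⁻¹ ∈ G := mul_mem (mul_mem hg'G hu) (inv_mem hg'G)
  have hPv : ((g' * u * g'⁻¹ : GL (Fin t → Fin m) F) : MT) = 1 + P := by
    rw [Units.val_mul, Units.val_mul, huv, mul_add, add_mul, mul_one, Units.mul_inv]; rfl
  have hcoef : ∀ c : Fin m, ∃ l : F, (b = c → l = 0) ∧ E[j](c, c) * P = l • E[j](c, b) := by
    intro c
    by_cases hbc : b = c
    · subst hbc; exact ⟨0, fun _ => rfl, by rw [hP2, zero_smul]⟩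
    obtain ⟨d, hbd, hcd⟩ := third hm b c
    obtain ⟨r, hr, -, hrv⟩ := root_mem hG j hcd.symm (1 : F)
    obtain ⟨q, hq, hqv⟩ := comm_one_add hr hPG hrv hPv (by rw [fs_mul, if_neg hcd]) hPsq
      (by rw [← hP1, mul_assoc, fs_mul, if_neg hbd, mul_zero])
    set Y := ∑ r, E[j](r, c) * P * E[j](b, r) with hY
    have hYc : ∀ X, Commute Y (fa j X) := commute_fa_of_single (by omega) fun p q _ => by
      show Y * _ = _ * Y
      rw [hY, Finset.sum_mul, Finset.mul_sum, Finset.sum_eq_single p, Finset.sum_eq_single q]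
      · simp [mul_assoc, fs_mul, fs_mul']
      · intro x _ hx; simp [mul_assoc, fs_mul', Ne.symm hx]
      · simp
      · intro x _ hx; simp [mul_assoc, fs_mul, hx]
      · simp
    have hYv : E[j](d, c) * P = E[j](d, b) * Y := by
      rw [hY, Finset.mul_sum, Finset.sum_eq_single b]
      · rw [← mul_assoc, ← mul_assoc, fs_mul, if_pos rfl, mul_assoc, hP1]
      · intro x _ hx; simp [mul_assoc, fs_mul', Ne.symm hx]
      · simp
    obtain ⟨l, hl⟩ := hS j Y (mem_Sset_of_pair hm hG hYc hbd.symm ⟨q, hq, hqv.trans (by rw [hYv])⟩)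
    refine ⟨l, fun h => absurd h hbc, ?_⟩
    rw [show E[j](c, c) = E[j](c, d) * E[j](d, c) by rw [fs_mul, if_pos rfl], mul_assoc, hYv, hl,
      Matrix.mul_smul, mul_one, Matrix.mul_smul, fs_mul, if_pos rfl]
  choose l hla hl using hcoef
  have hPN : P = fa j (vecMulVec l (Pi.single b 1)) := by
    rw [← one_mul P, ← fs_sum j, Finset.sum_mul]
    simp only [hl, ← map_smul, ← map_sum]
    congr 1
    ext x y
    simp [Matrix.sum_apply, Matrix.single_apply, vecMulVec_apply, Pi.single_apply, eq_comm]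
    by_cases hy : y = b <;> simp [hy, Ne.symm]
  obtain ⟨v', φ', h1, h2⟩ := conj_vmv s l (Pi.single b 1) (by simp [hla b rfl])
  refine ⟨v', φ', h1, ?_⟩
  rw [← h2, ← Ad_fu_fa, ← hPN, hP, hg', ← Ad_mul, mul_inv_cancel_left]

/-- A factor goes into a factor as soon as one root element does. -/
theorem maps_of_good {a b : Fin m} (hab : a ≠ b) (h : Good g i j a b) : Maps g i j := by
  have hall : ∀ p q : Fin m, p ≠ q → Good g i j p q := fun p q hpq => by
    obtain ⟨c, hac, hpc⟩ := third hm a p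
    exact Good.row hm hG hS hg hpc hpq.symm
      (Good.col hm hG hS hg hac hpc (Good.row hm hG hS hg hab hac.symm h))
  have hall' : ∀ p q : Fin m, ∃ Y, Ad g E[i](p, q) = fa j Y := fun p q => by
    by_cases hpq : p = q
    · subst hpq
      obtain ⟨c, hpc, -⟩ := third hm p p
      obtain ⟨v, φ, -, h1⟩ := hall p c hpc
      obtain ⟨v', φ', -, h2⟩ := hall c p hpc.symm
      exact ⟨vecMulVec v φ * vecMulVec v' φ',
        by rw [map_mul, ← h1, ← h2, ← Ad_mul_apply, fs_mul, if_pos rfl]⟩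
    · obtain ⟨v, φ, -, h1⟩ := hall p q hpq
      exact ⟨_, h1⟩
  choose Y hY using hall'
  intro X
  refine ⟨∑ p, ∑ q, X p q • Y p q, ?_⟩
  conv_lhs => rw [Matrix.matrix_eq_sum_single X]
  simp only [map_sum, map_smul, ← hY]
  refine Finset.sum_congr rfl fun p _ => Finset.sum_congr rfl fun q _ => ?_
  rw [← map_smul, ← map_smul]
  simp

end good

/-- A member of the group moving a root element of a factor to one of a factor, preserving the factors
outside, permutes the factors, if this holds for smaller sets. -/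
theorem isWr_of_good [NeZero m] (hm : 3 ≤ m) (hG : Roots G) (hS : Scal G) {J : Finset (Fin t)}
    (hP : Perms G ∨ J.card ≤ 2)
    (hrec : ∀ J' : Finset (Fin t), J'.card < J.card → ∀ g ∈ GJ G J', IsWr g)
    {g : GL (Fin t → Fin m) F} (hg : g ∈ GJ G J) {i j : Fin t} (hi : i ∈ J) (hj : j ∈ J) {a b : Fin m}
    (hab : a ≠ b) (h : Good g i j a b) : IsWr g := by
  have hmap := maps_of_good hm hG hS hg.1 hab h
  have hfix : ∀ {g : GL (Fin t → Fin m) F}, g ∈ GJ G J → Maps g i i → IsWr g := fun {g} hg hgi =>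
    hrec (J.erase i) (Finset.card_erase_lt_of_mem hi) g ⟨hg.1, fun k hk => by
      by_cases hki : k = i
      · subst hki; exact hgi
      · exact hg.2 k fun hk' => hk (Finset.mem_erase.2 ⟨hki, hk'⟩)⟩
  by_cases hij : i = j
  · subst hij; exact hfix hg hmap
  rcases hP with hP | hP
  · obtain ⟨A, hA⟩ := hP (Equiv.swap j i)
    have hAJ := mem_GJ_of_wr (J := J) hA fun k hk => Equiv.swap_apply_of_ne_of_ne
      (fun h => hk (h ▸ hj)) (fun h => hk (h ▸ hi))
    have hi' := (maps_wr A (Equiv.swap j i) j).mul hmap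
    rw [Equiv.swap_apply_left] at hi'
    have h2 := hfix (mul_mem hAJ hg) hi'
    have h3 := isWr_mul (isWr_inv (⟨A, Equiv.swap j i, rfl⟩ : IsWr (pureGL A * permGL m F (Equiv.swap j i)))) h2
    rwa [inv_mul_cancel_left] at h3
  · have hJ : ∀ k ∈ J, k = i ∨ k = j := fun k hk => by
      by_contra hne
      push Not at hne
      have h3 : ({i, j, k} : Finset (Fin t)).card ≤ J.card :=
        Finset.card_le_card (by simp [Finset.insert_subset_iff, hi, hj, hk])
      rw [Finset.card_insert_of_notMem (by simp [hij, hne.1.symm]),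
        Finset.card_insert_of_notMem (by simp [hne.2.symm]), Finset.card_singleton] at h3
      omega
    have hji : Maps g j i := fun X => by
      refine cent_range i fun k hk X' => ?_
      obtain ⟨W, hW⟩ : ∃ W, ∃ l, l ≠ j ∧ Ad g (fa l W) = fa k X' := by
        by_cases hkj : k = j
        · subst hkj
          obtain ⟨W, hW⟩ := hmap.inv X'
          exact ⟨W, i, hij, by rw [← hW, ← Ad_mul, mul_inv_cancel, Ad_one]⟩
        · obtain ⟨W, hW⟩ := (hg.2 k fun hk' => (hJ k hk').elim hk hkj).inv X'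
          exact ⟨W, k, hkj, by rw [← hW, ← Ad_mul, mul_inv_cancel, Ad_one]⟩
      obtain ⟨l, hlj, hW⟩ := hW
      rw [← hW, Commute, SemiconjBy, ← Ad_mul_apply, ← Ad_mul_apply, (fa_commute hlj.symm X W).eq]
    refine isWr_of_maps (by omega) (Nat.one_le_iff_ne_zero.2 fun h => by subst h; exact i.elim0) fun k => ?_
    by_cases hk : k ∈ J
    · rcases hJ k hk with rfl | rfl
      · exact ⟨j, hmap⟩
      · exact ⟨i, hji⟩
    · exact ⟨k, hg.2 k hk⟩

end CfsgLib.MaxSub.TensorPow
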