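import Cfsg.Agent.Lib.MaxSub.TensorPow.Growth

/-!
The matrices sitting over one root position of a factor.
-/

set_option autoImplicit false
set_option maxHeartbeats 400000
set_option linter.unusedSectionVars false

namespace CfsgLib.MaxSub.TensorPow

open Matrix
open CfsgLib.Aschbacher

variable {F : Type*} [Field F] {m t : ℕ}

local notation "Mm" => Matrix (Fin m) (Fin m) F
local notation "MT" => Matrix (Fin t → Fin m) (Fin t → Fin m) F
local notation "E[" i "](" a "," b ")" => fa i (Matrix.single a b (1 : F))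

theorem third {m : ℕ} (hm : 3 ≤ m) (a b : Fin m) : ∃ c, a ≠ c ∧ b ≠ c := by
  have := Finset.card_le_two (a := a) (b := b)
  obtain ⟨c, hc⟩ := Finset.exists_mem_notMem_of_card_lt_card
    (s := ({a, b} : Finset (Fin m))) (t := Finset.univ) (by simp; omega)
  simp at hc
  exact ⟨c, Ne.symm hc.1, Ne.symm hc.2⟩

/-- The matrices over the root positions of the factor `i`. -/
def Sset (G : Subgroup (GL (Fin t → Fin m) F)) (i : Fin t) :
    Set (Matrix (Fin t → Fin m) (Fin t → Fin m) F) :=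
  {Y | (∀ X, Commute Y (fa i X)) ∧ ∀ a b : Fin m, a ≠ b → ∃ g ∈ G, (g : MT) = 1 + E[i](a, b) * Y}

/-- All matrices over the root positions are scalars. -/
def Scal (G : Subgroup (GL (Fin t → Fin m) F)) : Prop :=
  ∀ (i : Fin t), ∀ Y ∈ Sset G i, ∃ c : F, Y = c • 1

variable {G : Subgroup (GL (Fin t → Fin m) F)}

theorem sq_zero_fs {i : Fin t} {a b : Fin m} (hab : a ≠ b) {Y : MT} (hY : ∀ X, Commute Y (fa i X)) :
    E[i](a, b) * Y * (E[i](a, b) * Y) = 0 := by
  rw [mul_assoc, ← mul_assoc Y, (hY _).eq, mul_assoc, ← mul_assoc, fs_mul, if_neg hab.symm, zero_mul]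

/-- One position suffices. -/
theorem mem_Sset_of_pair (hm : 3 ≤ m) (hG : Roots G) {i : Fin t} {Y : MT}
    (hY : ∀ X, Commute Y (fa i X)) {a b : Fin m} (hab : a ≠ b)
    (h : ∃ g ∈ G, (g : MT) = 1 + E[i](a, b) * Y) : Y ∈ Sset G i := by
  have hr : ∀ {a b c : Fin m}, a ≠ b → b ≠ c → a ≠ c →
      (∃ g ∈ G, (g : MT) = 1 + E[i](a, b) * Y) → ∃ g ∈ G, (g : MT) = 1 + E[i](a, c) * Y := by
    rintro a b c hab hbc hac ⟨g, hg, hgv⟩
    obtain ⟨h, hh, -, hhv⟩ := root_mem hG i hbc (1 : F)
    obtain ⟨k, hk, hkv⟩ := comm_one_add hg hh hgv hhv (sq_zero_fs hab hY)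
      (by rw [fs_mul, if_neg hbc.symm]) (by rw [← mul_assoc, fs_mul, if_neg hac.symm, zero_mul])
    refine ⟨k, hk, hkv.trans ?_⟩
    rw [mul_assoc, (hY _).eq, ← mul_assoc, fs_mul, if_pos rfl]
  have hl : ∀ {a b c : Fin m}, a ≠ b → c ≠ a → c ≠ b →
      (∃ g ∈ G, (g : MT) = 1 + E[i](a, b) * Y) → ∃ g ∈ G, (g : MT) = 1 + E[i](c, b) * Y := by
    rintro a b c hab hca hcb ⟨g, hg, hgv⟩
    obtain ⟨h, hh, -, hhv⟩ := root_mem hG i hca (1 : F)
    obtain ⟨k, hk, hkv⟩ := comm_one_add hh hg hhv hgv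
      (by rw [fs_mul, if_neg hca.symm]) (sq_zero_fs hab hY)
      (by rw [mul_assoc, (hY _).eq, ← mul_assoc, fs_mul, if_neg hcb.symm, zero_mul])
    refine ⟨k, hk, hkv.trans ?_⟩
    rw [← mul_assoc, fs_mul, if_pos rfl]
  refine ⟨hY, fun a' b' hab' => ?_⟩
  have step : ∀ {p q r : Fin m}, p ≠ q → p ≠ r → (∃ g ∈ G, (g : MT) = 1 + E[i](p, q) * Y) →
      ∃ g ∈ G, (g : MT) = 1 + E[i](p, r) * Y := fun {p q r} hpq hpr h => by
    by_cases hqr : q = r
    · exact hqr ▸ h
    · exact hr hpq hqr hpr h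
  have step' : ∀ {p q r : Fin m}, p ≠ q → r ≠ q → (∃ g ∈ G, (g : MT) = 1 + E[i](p, q) * Y) →
      ∃ g ∈ G, (g : MT) = 1 + E[i](r, q) * Y := fun {p q r} hpq hrq h => by
    by_cases hrp : r = p
    · exact hrp ▸ h
    · exact hl hpq hrp hrq h
  obtain ⟨c, hac, ha'c⟩ := third hm a a'
  exact step ha'c hab' (step' hac ha'c (step hab hac h))

theorem smul_one_mem_Sset (hG : Roots G) (i : Fin t) (c : F) : (c • 1 : MT) ∈ Sset G i := by
  refine ⟨fun X => (Commute.one_left _).smul_left c, fun a b hab => ?_⟩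
  obtain ⟨g, hg, -, hgv⟩ := root_mem hG i hab c
  refine ⟨g, hg, hgv.trans ?_⟩
  rw [show Matrix.single a b c = c • Matrix.single a b (1 : F) by simp, map_smul, Matrix.mul_smul,
    mul_one]

theorem mul_mem_Sset (hm : 3 ≤ m) (hG : Roots G) {i : Fin t} {Y Z : MT} (hY : Y ∈ Sset G i)
    (hZ : Z ∈ Sset G i) : Y * Z ∈ Sset G i := by
  obtain ⟨a, b, c, hab, hac, hbc⟩ : ∃ a b c : Fin m, a ≠ b ∧ a ≠ c ∧ b ≠ c :=
    ⟨⟨0, by omega⟩, ⟨1, by omega⟩, ⟨2, by omega⟩, by simp [Fin.ext_iff]⟩
  refine mem_Sset_of_pair hm hG (fun X => (hY.1 X).mul_left (hZ.1 X)) hab ?_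
  obtain ⟨g, hg, hgv⟩ := hY.2 a c hac
  obtain ⟨h, hh, hhv⟩ := hZ.2 c b hbc.symm
  obtain ⟨k, hk, hkv⟩ := comm_one_add hg hh hgv hhv (sq_zero_fs hac hY.1) (sq_zero_fs hbc.symm hZ.1)
    (by rw [mul_assoc, ← mul_assoc Z, (hZ.1 _).eq, mul_assoc, ← mul_assoc, fs_mul, if_neg hab.symm, zero_mul])
  refine ⟨k, hk, hkv.trans ?_⟩
  rw [mul_assoc, ← mul_assoc Y, (hY.1 _).eq, mul_assoc, ← mul_assoc, fs_mul, if_pos rfl]

theorem smul_mem_Sset (hm : 3 ≤ m) (hG : Roots G) {i : Fin t} (c : F) {Y : MT} (hY : Y ∈ Sset G i) :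
    c • Y ∈ Sset G i := by
  simpa using mul_mem_Sset hm hG (smul_one_mem_Sset hG i c) hY

theorem add_mem_Sset {i : Fin t} {Y Z : MT} (hY : Y ∈ Sset G i)
    (hZ : Z ∈ Sset G i) : Y + Z ∈ Sset G i := by
  refine ⟨fun X => (hY.1 X).add_left (hZ.1 X), fun a b hab => ?_⟩
  obtain ⟨g, hg, hgv⟩ := hY.2 a b hab
  obtain ⟨h, hh, hhv⟩ := hZ.2 a b hab
  refine ⟨g * h, mul_mem hg hh, ?_⟩
  rw [Units.val_mul, hgv, hhv, add_mul, mul_add, mul_add, one_mul, one_mul, mul_one]
  have : E[i](a, b) * Y * (E[i](a, b) * Z) = 0 := by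
    rw [mul_assoc, ← mul_assoc Y, (hY.1 _).eq, mul_assoc, ← mul_assoc, fs_mul, if_neg hab.symm, zero_mul]
  rw [this, mul_add]
  abel

/-- Conjugation by an element fixing the factor. -/
theorem Ad_mem_Sset (hm : 3 ≤ m) (hG : Roots G) {i : Fin t} {A : Fin t → GL (Fin m) F}
    {σ : Equiv.Perm (Fin t)} (hW : pureGL A * permGL m F σ ∈ G) (hσ : σ i = i) {Y : MT}
    (hY : Y ∈ Sset G i) : Ad (pureGL A * permGL m F σ) Y ∈ Sset G i := by
  haveI : NeZero m := ⟨by omega⟩
  set W := pureGL A * permGL m F σ with hWdef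
  have hcomm : ∀ X, Commute (Ad W Y) (fa i X) := fun X => by
    have h := hY.1 ((((A i)⁻¹ : GL (Fin m) F) : Mm) * X * (A i : Mm))
    have e := Ad_wr_fa A σ i ((((A i)⁻¹ : GL (Fin m) F) : Mm) * X * (A i : Mm))
    rw [hσ] at e
    simp only [mul_assoc, Units.mul_inv_cancel_left, Units.mul_inv, mul_one] at e
    rw [← e]
    simp only [mul_assoc] at h
    show _ * _ = _ * _
    rw [← Ad_mul_apply, ← Ad_mul_apply, h.eq]
  obtain ⟨a, b, hab⟩ : ∃ a b : Fin m, a ≠ b := ⟨⟨0, by omega⟩, ⟨1, by omega⟩, by simp [Fin.ext_iff]⟩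
  refine mem_Sset_of_pair hm hG hcomm hab ?_
  obtain ⟨g, hg, hgv⟩ := hY.2 a b hab
  set v : Fin m → F := (A i : Mm).col a with hv
  set φ : Fin m → F := (((A i)⁻¹ : GL (Fin m) F) : Mm).row b with hφ
  have hN : (A i : Mm) * Matrix.single a b 1 * (((A i)⁻¹ : GL (Fin m) F) : Mm) = vecMulVec v φ := by
    rw [single_eq_single_vecMulVec_single, mul_vecMulVec, vecMulVec_mul, Matrix.mulVec_single_one,
      Matrix.single_one_vecMul]
  have hφv : φ ⬝ᵥ v = 0 := by
    have h := congrFun (congrFun ((A i).inv_mul) b) a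
    rw [Matrix.mul_apply, Matrix.one_apply_ne hab.symm] at h
    exact h
  have hv0 : v ≠ 0 := fun h => by
    have h' := congrFun (congrFun ((A i).inv_mul) a) a
    rw [Matrix.mul_apply, Matrix.one_apply_eq, Finset.sum_eq_zero fun k _ => ?_] at h'
    · exact zero_ne_one h'
    · rw [show (A i : Mm) k a = 0 from congrFun h k, mul_zero]
  have hφ0 : φ ≠ 0 := fun h => by
    have h' := congrFun (congrFun ((A i).inv_mul) b) b
    rw [Matrix.mul_apply, Matrix.one_apply_eq, Finset.sum_eq_zero fun k _ => ?_] at h'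
    · exact zero_ne_one h'
    · rw [show (((A i)⁻¹ : GL (Fin m) F) : Mm) b k = 0 from congrFun h k, zero_mul]
  obtain ⟨s, hs, hsN⟩ := exists_conj_single hm hv0 hφ0 hφv hab
  refine ⟨(fu i s)⁻¹ * (W * g * W⁻¹) * fu i s, mul_mem (mul_mem (inv_mem (hG i s hs))
    (mul_mem (mul_mem hW hg) (inv_mem hW))) (hG i s hs), ?_⟩
  rw [Units.val_mul, Units.val_mul, ← map_inv, fu_val, fu_val]
  have e1 : ((W * g * W⁻¹ : GL (Fin t → Fin m) F) : MT) = 1 + fa i (vecMulVec v φ) * Ad W Y := by
    rw [Units.val_mul, Units.val_mul, hgv, mul_add, add_mul, mul_one, Units.mul_inv]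
    show 1 + Ad W _ = _
    rw [Ad_mul_apply, hWdef, Ad_wr_fa, hσ, hN]
  have e2 : fa i ((s⁻¹ : GL (Fin m) F) : Mm) * fa i (s : Mm) = (1 : MT) := by
    rw [← map_mul, Units.inv_mul, map_one]
  rw [e1, mul_add, add_mul, mul_one, e2]
  congr 1
  rw [← hsN, map_mul, map_mul, mul_assoc, mul_assoc, (hcomm _).eq]
  simp only [← mul_assoc, e2, one_mul]
  rw [mul_assoc E[i](a, b), e2, mul_one]

theorem closed_Sset (hm : 3 ≤ m) (hG : Roots G) (i : Fin t) :
    Closed (Sset G i) (↑(Finset.univ.erase i) : Set (Fin t)) := by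
  have hsub : ∀ X ∈ Sset G i, ∀ Y ∈ Sset G i, X - Y ∈ Sset G i := fun X hX Y hY => by
    simpa [sub_eq_add_neg] using add_mem_Sset hX (smul_mem_Sset hm hG (-1) hY)
  refine ⟨hsub, fun j hj a b hab Y hY => ?_⟩
  have hji : j ≠ i := by simpa using hj
  obtain ⟨u, hu, hiu, huv⟩ := root_mem hG j hab (1 : F)
  have hsq : E[j](a, b) * E[j](a, b) = (0 : MT) := by rw [fs_mul, if_neg hab.symm]
  have e : u = one_add _ hsq := Units.ext huv
  have heq : pureGL (Function.update 1 j (one_add _ (single_sq hab (1 : F)))) * permGL m F 1 = u := by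
    refine Units.ext ?_
    rw [← fu_eq, permGL_one, mul_one, fu_val, one_add_val, map_add, map_one, huv]
  have h : Ad u Y ∈ Sset G i := by
    rw [← heq]
    exact Ad_mem_Sset hm hG (heq ▸ hu) rfl hY
  have h' := hsub _ h _ hY
  rwa [e, Ad_one_add, add_sub_cancel_left] at h'

section pure

variable {T : Set (Matrix (Fin t → Fin m) (Fin t → Fin m) F)} {J : Set (Fin t)}

theorem fa_mul_pure (j : Fin t) (X : Mm) (B : Fin t → Mm) :
    fa j X * pureMat B = pureMat (Function.update B j (X * B j)) := by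
  rw [fa_eq, pureMat_mul]
  congr 1
  funext k
  by_cases hk : k = j
  · subst hk; simp
  · simp [hk]

theorem pure_mul_fa (j : Fin t) (X : Mm) (B : Fin t → Mm) :
    pureMat B * fa j X = pureMat (Function.update B j (B j * X)) := by
  rw [fa_eq, pureMat_mul]
  congr 1
  funext k
  by_cases hk : k = j
  · subst hk; simp
  · simp [hk]

theorem Closed.pure_left (hT : Closed T J) {j : Fin t} (hj : j ∈ J) {B : Fin t → Mm} {a b c : Fin m}
    (hab : a ≠ b) (hcb : c ≠ b) (hB : B j = Matrix.single a b 1) (h : pureMat B ∈ T) :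
    pureMat (Function.update B j (Matrix.single c b 1)) ∈ T := by
  have := hT.left hj hab hcb h (by
    rw [fa_mul_pure, pure_mul_fa]; congr 1
    funext k; by_cases hk : k = j <;> simp [hk, hB])
  simpa [fa_mul_pure, hB] using this

theorem Closed.pure_right (hT : Closed T J) {j : Fin t} (hj : j ∈ J) {B : Fin t → Mm} {a b c : Fin m}
    (hab : a ≠ b) (hca : c ≠ a) (hB : B j = Matrix.single a b 1) (h : pureMat B ∈ T) :
    pureMat (Function.update B j (Matrix.single a c 1)) ∈ T := by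
  have := hT.right hj hab hca h (by
    rw [fa_mul_pure, pure_mul_fa]; congr 1
    funext k; by_cases hk : k = j <;> simp [hk, hB])
  simpa [pure_mul_fa, hB] using this

theorem pure_update_zero (j : Fin t) (B : Fin t → Mm) : pureMat (Function.update B j 0) = (0 : MT) := by
  ext x y
  rw [pureMat_apply, Finset.prod_eq_zero (Finset.mem_univ j)]
  · rfl
  · simp

theorem Closed.pure_diag_left (hT : Closed T J) {j : Fin t} (hj : j ∈ J) {B : Fin t → Mm} {a c : Fin m}
    (hB : B j = Matrix.single a a 1) (h : pureMat B ∈ T) :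
    pureMat (Function.update B j (Matrix.single c a 1)) ∈ T := by
  by_cases hca : c = a
  · rwa [hca, ← hB, Function.update_eq_self]
  · have := hT.mov j hj c a hca _ h
    simpa [dl, fa_mul_pure, pure_mul_fa, hB, hca, Ne.symm hca, pure_update_zero] using this

theorem Closed.pure_diag_right (hT : Closed T J) {j : Fin t} (hj : j ∈ J) {B : Fin t → Mm} {a c : Fin m}
    (hB : B j = Matrix.single a a 1) (h : pureMat B ∈ T) :
    pureMat (Function.update B j (Matrix.single a c 1)) ∈ T := by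
  by_cases hca : c = a
  · rwa [hca, ← hB, Function.update_eq_self]
  · have := hT.neg (hT.mov j hj a c (Ne.symm hca) _ h)
    simpa [dl, fa_mul_pure, pure_mul_fa, hB, hca, Ne.symm hca, pure_update_zero] using this

end pure

/-- If some matrix over a root position is not a scalar, the group contains all transvections. -/
theorem transvections_of_not_scal (hm : 3 ≤ m) (hG : Roots G) (hP : Perms G ∨ t ≤ 2) (hS : ¬ Scal G)
    {x y : Fin t → Fin m} (hxy : x ≠ y) (c : F) :
    ∃ g ∈ G, (g : MT) = 1 + Matrix.single x y c := by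
  haveI : NeZero m := ⟨by omega⟩
  unfold Scal at hS
  push Not at hS
  obtain ⟨i, Y, hY, hYs⟩ := hS
  set J := Finset.univ.erase i with hJ
  have hT := closed_Sset hm hG i
  obtain ⟨k, hk⟩ : ∃ k, ¬ ∀ X, Commute Y (fa k X) := by
    by_contra h
    push Not at h
    obtain ⟨c, hc⟩ := scalar_of_commute h
    exact hYs c hc
  have hki : k ∈ J := Finset.mem_erase.2 ⟨fun h => hk (h ▸ hY.1), Finset.mem_univ k⟩
  have hout : ∀ {Z : MT}, Z ∈ Sset G i → ∀ j ∉ J, ∀ X, Commute Z (fa j X) := fun hZ j hj X => by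
    rw [show j = i by simpa [hJ] using hj]; exact hZ.1 X
  obtain ⟨a, b, hab⟩ : ∃ a b : Fin m, a ≠ b := ⟨⟨0, by omega⟩, ⟨1, by omega⟩, by simp [Fin.ext_iff]⟩
  have hidem : ∀ {Z : MT}, Z ∈ Sset G i → ∀ {j : Fin t}, j ∈ J → (¬ ∀ X, Commute Z (fa j X)) →
      ∃ S : Finset (Fin t), j ∈ S ∧ S ⊆ J ∧ patMat S a a ∈ Sset G i := by
    intro Z hZ j hj hn
    obtain ⟨S, hjS, hSJ, d, hd, hS⟩ := hT.exists_pattern hm hab hZ (hout hZ) hj hn
    have h1 : patMat S a b ∈ Sset G i := by
      simpa [smul_smul, inv_mul_cancel₀ hd] using smul_mem_Sset hm hG d⁻¹ hS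
    refine ⟨S, hjS, hSJ, ?_⟩
    rw [← patMat_mul S a b a]
    refine mul_mem_Sset hm hG h1 ?_
    suffices h : ∀ L : Finset (Fin t), L ⊆ S → pureMat (fun l => if l ∈ L then Matrix.single b a 1
        else if l ∈ S then Matrix.single a b (1 : F) else 1) ∈ Sset G i by
      convert h S (Finset.Subset.refl S) using 1
      rw [patMat]; congr 1; funext l; by_cases hl : l ∈ S <;> simp [hl]
    intro L
    induction L using Finset.induction_on with
    | empty => intro _; simpa [patMat] using h1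
    | insert l L hlL ih =>
      intro hLS
      have hlS := hLS (Finset.mem_insert_self l L)
      obtain ⟨e, hae, hbe⟩ := third hm a b
      have hlJ := hSJ hlS
      have h2 := hT.pure_left hlJ hab hbe.symm (c := e) (by simp [hlL, hlS])
        (ih fun z hz => hLS (Finset.mem_insert_of_mem hz))
      have h3 := hT.pure_right hlJ hbe.symm hae (c := a) (Function.update_self ..) h2
      have h4 := hT.pure_left hlJ hae.symm hab.symm (c := b) (Function.update_self ..) h3
      rw [Function.update_idem, Function.update_idem] at h4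
      convert h4 using 2
      funext z
      by_cases hz : z = l
      · subst hz; simp
      · simp [hz]
  obtain ⟨S, hkS, hSJ, hS⟩ := hidem hY hki hk
  have hall : ∀ j ∈ J, ∃ S : Finset (Fin t), j ∈ S ∧ S ⊆ J ∧ patMat S a a ∈ Sset G i := by
    intro j hj
    by_cases hjk : j = k
    · exact ⟨S, hjk ▸ hkS, hSJ, hS⟩
    rcases hP with hP | hP
    swap
    · exfalso
      rw [hJ, Finset.mem_erase] at hj hki
      have h3 : ({i, k, j} : Finset (Fin t)).card ≤ Fintype.card (Fin t) := Finset.card_le_univ _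
      rw [Finset.card_insert_of_notMem (by simp [hki.1.symm, hj.1.symm]),
        Finset.card_insert_of_notMem (by simp [Ne.symm hjk]), Finset.card_singleton, Fintype.card_fin] at h3
      omega
    obtain ⟨A, hA⟩ := hP (Equiv.swap k j)
    have hfix : Equiv.swap k j i = i := Equiv.swap_apply_of_ne_of_ne
      (Ne.symm (Finset.mem_erase.1 hki).1) (Ne.symm (Finset.mem_erase.1 hj).1)
    refine hidem (Ad_mem_Sset hm hG hA hfix hS) hj fun h => ?_
    have hc : ∀ X, Commute (patMat S a a : MT) (fa k X) := fun X => by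
      have h' := h ((A j : Mm) * X * (((A j)⁻¹ : GL (Fin m) F) : Mm))
      have e := Ad_wr_fa A (Equiv.swap k j) k X
      rw [Equiv.swap_apply_left] at e
      rw [← e, Commute, SemiconjBy, ← Ad_mul_apply, ← Ad_mul_apply] at h'
      have h'' := congrArg (Ad (pureGL A * permGL m F (Equiv.swap k j))⁻¹) h'
      rwa [Ad_inv_cancel, Ad_inv_cancel] at h''
    have h0 := congrFun (congrFun (hc (Matrix.single a b 1)).eq (fun _ => a))
      (Function.update (fun _ => a) k b)
    rw [fs_left, fs_right] at h0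
    rw [if_pos rfl, if_pos (Function.update_self ..), Function.update_idem,
      show Function.update (fun _ : Fin t => a) k a = fun _ => a from Function.update_eq_self k _,
      patMat, pureMat_apply, pureMat_apply, Finset.prod_eq_one fun z _ => ?_,
      Finset.prod_eq_zero (Finset.mem_univ k)] at h0
    · exact one_ne_zero h0
    · simp [hkS, hab]
    · by_cases hz : z ∈ S
      · simp [hz]
      · rw [if_neg hz, Matrix.one_apply_eq]
  have hone : (1 : MT) ∈ Sset G i := by simpa using smul_one_mem_Sset hG i (1 : F)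
  have hfull : patMat J a a ∈ Sset G i := by
    suffices h : ∀ L : Finset (Fin t), L ⊆ J →
        ∃ S : Finset (Fin t), L ⊆ S ∧ S ⊆ J ∧ patMat S a a ∈ Sset G i by
      obtain ⟨S', h1, h2, h3⟩ := h J (Finset.Subset.refl J)
      rwa [← Finset.Subset.antisymm h2 h1]
    intro L
    induction L using Finset.induction_on with
    | empty => exact fun _ => ⟨∅, Finset.Subset.refl _, Finset.empty_subset _, by
        simpa [patMat, show (fun _ : Fin t => (1 : Mm)) = 1 from rfl, pureMat_one] using hone⟩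
    | insert l L hlL ih =>
      intro hLJ
      obtain ⟨S1, h11, h12, h13⟩ := ih fun z hz => hLJ (Finset.mem_insert_of_mem hz)
      obtain ⟨S2, h21, h22, h23⟩ := hall l (hLJ (Finset.mem_insert_self l L))
      refine ⟨S2 ∪ S1, Finset.insert_subset (Finset.mem_union_left _ h21)
        (h11.trans Finset.subset_union_right), Finset.union_subset h22 h12, ?_⟩
      rw [← patMat_union S2 S1 a]
      exact mul_mem_Sset hm hG h23 h13
  have hside : ∀ (u : Fin t → Fin m) (L : Finset (Fin t)), L ⊆ J →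
      pureMat (fun l => if l ∈ L then Matrix.single (u l) a 1 else if l ∈ J then Matrix.single a a (1 : F) else 1)
        ∈ Sset G i ∧
      pureMat (fun l => if l ∈ L then Matrix.single a (u l) 1 else if l ∈ J then Matrix.single a a (1 : F) else 1)
        ∈ Sset G i := by
    intro u L
    induction L using Finset.induction_on with
    | empty => intro _; exact ⟨by simpa [patMat] using hfull, by simpa [patMat] using hfull⟩
    | insert l L hlL ih =>
      intro hLJ
      have hlJ := hLJ (Finset.mem_insert_self l L)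
      obtain ⟨h1, h2⟩ := ih fun z hz => hLJ (Finset.mem_insert_of_mem hz)
      have g1 := hT.pure_diag_left hlJ (a := a) (c := u l) (by simp [hlL, hlJ]) h1
      have g2 := hT.pure_diag_right hlJ (a := a) (c := u l) (by simp [hlL, hlJ]) h2
      constructor
      · convert g1 using 2; funext z; by_cases hz : z = l
        · subst hz; simp
        · simp [hz]
      · convert g2 using 2; funext z; by_cases hz : z = l
        · subst hz; simp
        · simp [hz]
  have hdirect : ∀ (x y : Fin t → Fin m) (c : F), x i ≠ y i → ∃ g ∈ G, (g : MT) = 1 + Matrix.single x y c := by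
    intro x y c hi
    obtain ⟨g, hg, hgv⟩ := (smul_mem_Sset hm hG c (mul_mem_Sset hm hG (hside x J (Finset.Subset.refl J)).1
      (hside y J (Finset.Subset.refl J)).2)).2 (x i) (y i) hi
    refine ⟨g, hg, hgv.trans ?_⟩
    rw [Matrix.mul_smul, pureMat_mul, fa_mul_pure,
      show Matrix.single x y c = c • Matrix.single x y (1 : F) by simp, single_eq_pureMat]
    congr 3
    funext z
    by_cases hz : z = i
    · subst hz; simp [hJ]
    · simp [hJ, hz]
  by_cases hi : x i = y i
  · obtain ⟨w, hw⟩ : ∃ w, w ≠ x i := by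
      obtain ⟨d, hd, -⟩ := third hm (x i) (x i)
      exact ⟨d, hd.symm⟩
    set z := Function.update x i w with hz
    have hzi : z i = w := Function.update_self ..
    have hxz : x ≠ z := fun h => hw ((congrFun h i).trans hzi).symm
    have hzy : z ≠ y := fun h => hw (hzi.symm.trans ((congrFun h i).trans hi.symm))
    obtain ⟨g, hg, hgv⟩ := hdirect x z c (by rw [hzi]; exact hw.symm)
    obtain ⟨h, hh, hhv⟩ := hdirect z y 1 (by rw [hzi, ← hi]; exact hw)
    obtain ⟨k', hk', hkv⟩ := comm_one_add hg hh hgv hhv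
      (Matrix.single_mul_single_of_ne _ _ _ _ hxz.symm _) (Matrix.single_mul_single_of_ne _ _ _ _ hzy.symm _)
      (Matrix.single_mul_single_of_ne _ _ _ _ hxy.symm _)
    exact ⟨k', hk', hkv.trans (by simp)⟩
  · exact hdirect x y c hi

end CfsgLib.MaxSub.TensorPow
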