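import Cfsg.Agent.Lib.MaxSub.TensorPow.Basic
import Cfsg.Agent.Lib.SLMin.Basic

/-!
Root elements of the factors.
-/

set_option autoImplicit false
set_option maxHeartbeats 400000
set_option linter.unusedSectionVars false

namespace CfsgLib.MaxSub.TensorPow

open Matrix
open CfsgLib.Aschbacher

variable {F : Type*} [Field F] {m t : ℕ}

local notation "Mm" => Matrix (Fin m) (Fin m) F
local notation "MT" => Matrix (Fin t → Fin m) (Fin t → Fin m) F

/-- An invertible matrix in the `i`-th factor. -/
noncomputable def fu (i : Fin t) : GL (Fin m) F →* GL (Fin t → Fin m) F :=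
  Units.map (fa (F := F) (m := m) i).toRingHom.toMonoidHom

theorem fu_val (i : Fin t) (s : GL (Fin m) F) :
    ((fu i s : GL (Fin t → Fin m) F) : MT) = fa i (s : Mm) := rfl

theorem fu_eq (i : Fin t) (s : GL (Fin m) F) : fu i s = pureGL (Function.update 1 i s) := by
  refine Units.ext ?_
  rw [fu_val, fa_eq]
  show pureMat _ = pureMat _
  congr 1
  funext j
  by_cases hj : j = i
  · subst hj; simp
  · simp [hj]

theorem isWr_fu (i : Fin t) (s : GL (Fin m) F) : IsWr (fu i s) :=
  ⟨Function.update 1 i s, 1, by rw [permGL_one, mul_one, fu_eq]⟩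

/-- The special linear groups of all factors lie in the group. -/
def Roots (G : Subgroup (GL (Fin t → Fin m) F)) : Prop :=
  ∀ (i : Fin t) (s : GL (Fin m) F), (s : Mm).det = 1 → fu i s ∈ G

/-- Some element induces each permutation of the factors. -/
def Perms (G : Subgroup (GL (Fin t → Fin m) F)) : Prop :=
  ∀ σ : Equiv.Perm (Fin t), ∃ A : Fin t → GL (Fin m) F, pureGL A * permGL m F σ ∈ G

theorem fa_sq (i : Fin t) {N : Mm} (h : N * N = 0) : fa i N * fa i N = 0 := by
  rw [← map_mul, h, map_zero]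

theorem single_sq {a b : Fin m} (hab : a ≠ b) (c : F) :
    (Matrix.single a b c : Mm) * Matrix.single a b c = 0 :=
  Matrix.single_mul_single_of_ne _ _ _ _ (Ne.symm hab) _

/-- The elementary root element of a factor. -/
theorem root_mem {G : Subgroup (GL (Fin t → Fin m) F)} (hG : Roots G) (i : Fin t) {a b : Fin m}
    (hab : a ≠ b) (c : F) :
    ∃ g ∈ G, IsWr g ∧ (g : MT) = 1 + fa i (Matrix.single a b c) := by
  refine ⟨fu i (one_add _ (single_sq hab c)), hG i _ ?_, isWr_fu _ _, ?_⟩
  · rw [one_add_val]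
    exact Matrix.det_transvection_of_ne a b hab c
  · rw [fu_val, one_add_val, map_add, map_one]

/-- A square zero matrix of rank one is conjugate to an elementary one. -/
theorem exists_conj_single (hm : 3 ≤ m) {v φ : Fin m → F} (hv : v ≠ 0) (hφ : φ ≠ 0)
    (h : φ ⬝ᵥ v = 0) {a b : Fin m} (hab : a ≠ b) :
    ∃ s : GL (Fin m) F, (s : Mm).det = 1 ∧
      (s : Mm) * Matrix.single a b 1 * ((s⁻¹ : GL (Fin m) F) : Mm) = vecMulVec v φ := by
  obtain ⟨g, hg, hg'⟩ := CfsgLib.SLMin.exists_sl_pairMap (ι := Fin m) (by simpa using hm)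
    (v := Pi.single a (1 : F)) (x := v) (μ := φ) (φ := Pi.single b 1) (by simp) hv hφ (by simp)
    (by rw [h]; simp [hab.symm])
  refine ⟨SpecialLinearGroup.toGL g, g.2, ?_⟩
  rw [Units.mul_inv_eq_iff_eq_mul]
  show (g : Mm) * Matrix.single a b 1 = vecMulVec v φ * (g : Mm)
  rw [Matrix.vecMulVec_mul, hg', ← hg, Matrix.mulVec_single_one]
  ext i j
  by_cases hj : b = j
  · subst hj
    simp [Matrix.vecMulVec_apply, Pi.single_apply]
  · simp [Matrix.vecMulVec_apply, Pi.single_apply, hj, Ne.symm hj]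

end CfsgLib.MaxSub.TensorPow
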